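import Cfsg.Agent.Lib.SolvClassNum.SpFun

/-!
# The arithmetic of the class number bound

`m` blocks, field degree `a`, `e * e` cosets in the nilpotent layer, `P` bounds the group on the blocks.
-/

set_option autoImplicit false

namespace Cfsg.Agent.SolvClassNum

/-- The contribution of one block. -/
def blockF (e : ℕ) : ℕ := e * e * spBound e

/-- From the cubic estimate to the linear one. -/
theorem cube_to_lin {X p n : ℕ} (hn : 2 ≤ n) (h : X ^ 3 ≤ 205 * p ^ (3 * (n - 2))) :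
    10 * X * p ^ 2 ≤ 59 * p ^ n := by
  have h1 : 10 * X ≤ 59 * p ^ (n - 2) := by
    refine (Nat.pow_le_pow_iff_left (n := 3) (by norm_num)).mp ?_
    rw [mul_pow, mul_pow, ← pow_mul, mul_comm (n - 2) 3]
    omega
  calc 10 * X * p ^ 2 ≤ 59 * p ^ (n - 2) * p ^ 2 := Nat.mul_le_mul_right _ h1
    _ = 59 * p ^ n := by rw [mul_assoc, ← pow_add, Nat.sub_add_cancel hn]

/-- The linear estimate gives the class bound. -/
theorem bound_of_lin {X p n f N : ℕ} (hN : N = p ^ n) (hN62 : 62 ≤ N) (h : 10 * X * p ^ 2 ≤ 59 * p ^ n)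
    (hf : 4 * (N - 1) ≤ X * f ^ 2) : 49 * p ≤ 60 * f := by
  by_contra hlt
  have h1 : 3600 * (X * f ^ 2) ≤ X * (49 * p) ^ 2 := by
    rw [show 3600 * (X * f ^ 2) = X * (60 * f) ^ 2 by ring]
    exact Nat.mul_le_mul_left _ (Nat.pow_le_pow_left (by omega) 2)
  rw [show X * (49 * p) ^ 2 = 2401 * (X * p ^ 2) by ring] at h1
  rw [← hN, mul_assoc] at h
  omega

theorem block_one (p : ℕ) (hp : 11 ≤ p) (hpp : p.Prime) (e : ℕ) (he2 : 2 ≤ e) :
    (e = 2 ∨ (e = 3 ∧ p ≤ 31) ∨ (e = 4 ∧ p ≤ 19) ∨ (e = 8 ∧ p ≤ 11)) ∨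
      blockF e ^ 3 ≤ 205 * p ^ (3 * (e - 2)) := by
  by_cases h5 : 5 ≤ e ∧ e ≠ 8
  · right
    have h1 := spBound_large h5.1 h5.2
    have h2 : blockF e ≤ 5 * p ^ (e - 2) := h1.trans (Nat.mul_le_mul_left _ (Nat.pow_le_pow_left hp _))
    calc blockF e ^ 3 ≤ (5 * p ^ (e - 2)) ^ 3 := Nat.pow_le_pow_left h2 3
      _ = 125 * p ^ (3 * (e - 2)) := by rw [mul_pow, ← pow_mul, mul_comm (e - 2)]; norm_num
      _ ≤ _ := Nat.mul_le_mul_right _ (by norm_num)
  have : e = 2 ∨ e = 3 ∨ e = 4 ∨ e = 8 := by omega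
  rcases this with rfl | rfl | rfl | rfl
  · exact Or.inl (Or.inl rfl)
  · by_cases hq : p ≤ 31
    · exact Or.inl (Or.inr (Or.inl ⟨rfl, hq⟩))
    right
    have h37 : 37 ≤ p := by
      by_contra h
      interval_cases p <;> norm_num at hpp
    calc blockF 3 ^ 3 ≤ 205 * 37 ^ (3 * (3 - 2)) := by decide +kernel
      _ ≤ _ := Nat.mul_le_mul_left _ (Nat.pow_le_pow_left h37 _)
  · by_cases hq : p ≤ 19
    · exact Or.inl (Or.inr (Or.inr (Or.inl ⟨rfl, hq⟩)))
    right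
    have h23 : 23 ≤ p := by
      by_contra h
      interval_cases p <;> norm_num at hpp
    calc blockF 4 ^ 3 ≤ 205 * 23 ^ (3 * (4 - 2)) := by decide +kernel
      _ ≤ _ := Nat.mul_le_mul_left _ (Nat.pow_le_pow_left h23 _)
  · by_cases hq : p ≤ 11
    · exact Or.inl (Or.inr (Or.inr (Or.inr ⟨rfl, hq⟩)))
    right
    have h13 : 13 ≤ p := by
      by_contra h
      interval_cases p; norm_num at hpp
    calc blockF 8 ^ 3 ≤ 205 * 13 ^ (3 * (8 - 2)) := by decide +kernel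
      _ ≤ _ := Nat.mul_le_mul_left _ (Nat.pow_le_pow_left h13 _)

/-- The cubic estimate for `m` blocks. -/
theorem cube_bound {p a m e n P X : ℕ} (hp : 11 ≤ p) (hpp : p.Prime) (ha : 1 ≤ a) (hm : 1 ≤ m) (he : 1 ≤ e)
    (hn : 2 ≤ n) (hdim : a * e * m ≤ n) (hP : P ^ 3 ≤ 24 ^ (m - 1))
    (hX : X ≤ a ^ (2 * m) * P ^ 2 * blockF e ^ m)
    (hne : a = 1 → ¬ (e = 2 ∧ (m = 1 ∧ n = 2 ∨ 2 ≤ m ∧ p ≤ 19)) ∧ ¬ (e = 3 ∧ p ≤ 31) ∧ ¬ (e = 4 ∧ p ≤ 19) ∧
      ¬ (e = 8 ∧ p ≤ 11)) :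
    X ^ 3 ≤ 205 * p ^ (3 * (n - 2)) := by
  have hP6 : P ^ 6 ≤ 576 ^ (m - 1) := by
    calc P ^ 6 = (P ^ 3) ^ 2 := by ring
      _ ≤ (24 ^ (m - 1)) ^ 2 := Nat.pow_le_pow_left hP 2
      _ = 576 ^ (m - 1) := by rw [← pow_mul, mul_comm, pow_mul]; norm_num
  have hX3 : X ^ 3 ≤ 576 ^ (m - 1) * (a ^ 6 * blockF e ^ 3) ^ m := by
    calc X ^ 3 ≤ (a ^ (2 * m) * P ^ 2 * blockF e ^ m) ^ 3 := Nat.pow_le_pow_left hX 3
      _ = P ^ 6 * (a ^ 6 * blockF e ^ 3) ^ m := by
        rw [mul_pow, mul_pow, mul_pow, ← pow_mul, ← pow_mul, ← pow_mul, ← pow_mul, ← pow_mul]; ring_nf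
      _ ≤ _ := Nat.mul_le_mul_right _ hP6
  have hF1 : blockF 1 = 1 := by rfl
  have hmono : ∀ {k l : ℕ}, k ≤ l → p ^ k ≤ p ^ l := fun h => Nat.pow_le_pow_right (by omega) h
  -- the chain over the blocks
  have chain : a ^ 6 * blockF e ^ 3 ≤ 205 * p ^ (3 * (a * e - 2)) → 2 ≤ a * e →
      576 ^ (m - 1) * (a ^ 6 * blockF e ^ 3) ^ m ≤ 205 * p ^ (3 * (n - 2)) := by
    intro hW hae
    set W := a ^ 6 * blockF e ^ 3
    have hstep : 576 * W ≤ p ^ (3 * (a * e)) := by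
      calc 576 * W ≤ 11 ^ 6 * p ^ (3 * (a * e - 2)) := by
            refine (Nat.mul_le_mul_left 576 hW).trans ?_
            rw [← mul_assoc]
            exact Nat.mul_le_mul_right _ (by norm_num)
        _ ≤ p ^ 6 * p ^ (3 * (a * e - 2)) := Nat.mul_le_mul_right _ (Nat.pow_le_pow_left hp 6)
        _ = p ^ (3 * (a * e)) := by rw [← pow_add]; congr 1; omega
    obtain ⟨k, rfl⟩ : ∃ k, m = k + 1 := ⟨m - 1, by omega⟩
    calc 576 ^ (k + 1 - 1) * W ^ (k + 1) = (576 * W) ^ k * W := by rw [Nat.add_sub_cancel, mul_pow, pow_succ]; ring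
      _ ≤ (p ^ (3 * (a * e))) ^ k * (205 * p ^ (3 * (a * e - 2))) :=
          Nat.mul_le_mul (Nat.pow_le_pow_left hstep k) hW
      _ = 205 * p ^ (3 * (a * e) * k + 3 * (a * e - 2)) := by rw [← pow_mul, pow_add]; ring
      _ ≤ _ := Nat.mul_le_mul_left _ (hmono (by
          rw [mul_assoc 3 (a * e) k, ← mul_add]
          refine Nat.mul_le_mul_left 3 ?_
          rw [mul_add (a * e) k 1, mul_one] at hdim
          omega))
  by_cases ha2 : 2 ≤ a
  · refine hX3.trans (chain ?_ (ha2.trans (Nat.le_mul_of_pos_right a he)))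
    -- one block, field degree at least two
    have base : 64 * blockF e ^ 3 ≤ 205 * p ^ (3 * (2 * e - 2)) := by
      rcases Nat.lt_or_ge e 2 with he1 | he2
      · obtain rfl : e = 1 := by omega
        simp [hF1]
      · by_cases h5 : 5 ≤ e ∧ e ≠ 8
        · have h2 : blockF e ≤ 5 * p ^ (e - 2) :=
            (spBound_large h5.1 h5.2).trans (Nat.mul_le_mul_left _ (Nat.pow_le_pow_left hp _))
          calc 64 * blockF e ^ 3 ≤ 64 * (5 * p ^ (e - 2)) ^ 3 :=
                Nat.mul_le_mul_left _ (Nat.pow_le_pow_left h2 3)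
            _ = 8000 * p ^ (3 * (e - 2)) := by rw [mul_pow, ← pow_mul, mul_comm (e - 2)]; ring
            _ ≤ 205 * p ^ 3 * p ^ (3 * (e - 2)) := Nat.mul_le_mul_right _
                (le_trans (by norm_num) (Nat.mul_le_mul_left 205 (Nat.pow_le_pow_left hp 3)))
            _ = 205 * p ^ (3 + 3 * (e - 2)) := by rw [mul_assoc, ← pow_add]
            _ ≤ _ := Nat.mul_le_mul_left _ (hmono (by omega))
        · have : e = 2 ∨ e = 3 ∨ e = 4 ∨ e = 8 := by omega
          refine le_trans ?_ (Nat.mul_le_mul_left _ (Nat.pow_le_pow_left hp _))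
          rcases this with rfl | rfl | rfl | rfl <;> decide +kernel
    clear chain hX3 hX hne hdim
    induction a, ha2 using Nat.le_induction with
    | base => simpa using base
    | succ b hb ih =>
      have hb6 : (b + 1) ^ 6 ≤ 64 * b ^ 6 := by
        calc (b + 1) ^ 6 ≤ (2 * b) ^ 6 := Nat.pow_le_pow_left (by omega) 6
          _ = 64 * b ^ 6 := by ring
      calc (b + 1) ^ 6 * blockF e ^ 3 ≤ 64 * b ^ 6 * blockF e ^ 3 := Nat.mul_le_mul_right _ hb6
        _ ≤ p ^ (3 * e) * (205 * p ^ (3 * (b * e - 2))) := by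
            rw [mul_assoc]
            refine Nat.mul_le_mul ?_ (ih (by omega))
            calc 64 ≤ 11 ^ 3 := by norm_num
              _ ≤ p ^ 3 := Nat.pow_le_pow_left hp 3
              _ ≤ _ := hmono (by omega)
        _ = 205 * p ^ (3 * e + 3 * (b * e - 2)) := by rw [pow_add]; ring
        _ ≤ _ := Nat.mul_le_mul_left _ (hmono (by
            rw [add_mul, one_mul]
            have : 2 ≤ b * e := le_trans hb (Nat.le_mul_of_pos_right b he)
            omega))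
  obtain rfl : a = 1 := by omega
  obtain ⟨hn2, hn3, hn4, hn8⟩ := hne rfl
  rcases Nat.lt_or_ge e 2 with he1 | he2
  · obtain rfl : e = 1 := by omega
    simp only [one_mul] at hdim
    rw [hF1, one_pow, one_pow, one_mul, one_pow, mul_one] at hX3
    rcases Nat.lt_or_ge m 3 with hm3 | hm3
    · refine le_trans ?_ (Nat.le_mul_of_pos_right 205 (pow_pos (by omega) _))
      have hP2 : P ≤ 2 := by
        by_contra h
        have : 3 ^ 3 ≤ P ^ 3 := Nat.pow_le_pow_left (by omega) 3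
        interval_cases m <;> norm_num at hP <;> omega
      rw [hF1, one_pow, one_pow, mul_one] at hX
      calc X ^ 3 ≤ (1 * P ^ 2) ^ 3 := Nat.pow_le_pow_left hX 3
        _ = P ^ 6 := by ring
        _ ≤ 2 ^ 6 := Nat.pow_le_pow_left hP2 6
        _ ≤ 205 := by norm_num
    by_cases hm4 : m = 3
    · subst hm4
      have hP8 : P ≤ 8 := by
        by_contra h
        have : 9 ^ 3 ≤ P ^ 3 := Nat.pow_le_pow_left (by omega) 3
        norm_num at hP this
        omega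
      rw [hF1, one_pow, one_pow, mul_one] at hX
      calc X ^ 3 ≤ (1 * P ^ 2) ^ 3 := Nat.pow_le_pow_left hX 3
        _ = P ^ 6 := by ring
        _ ≤ 8 ^ 6 := Nat.pow_le_pow_left hP8 6
        _ ≤ 205 * 11 ^ (3 * 1) := by norm_num
        _ ≤ 205 * p ^ (3 * 1) := Nat.mul_le_mul_left _ (Nat.pow_le_pow_left hp _)
        _ ≤ _ := Nat.mul_le_mul_left _ (hmono (by omega))
    refine hX3.trans ?_
    obtain ⟨k, rfl⟩ : ∃ k, m = k + 4 := ⟨m - 4, by omega⟩
    calc 576 ^ (k + 4 - 1) ≤ 205 * 11 ^ 6 * (11 ^ 3) ^ k := by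
          rw [show k + 4 - 1 = 3 + k by omega, pow_add]
          exact Nat.mul_le_mul (by norm_num) (Nat.pow_le_pow_left (by norm_num) k)
      _ = 205 * 11 ^ (6 + 3 * k) := by rw [← pow_mul, pow_add]; ring
      _ ≤ 205 * p ^ (6 + 3 * k) := Nat.mul_le_mul_left _ (Nat.pow_le_pow_left hp _)
      _ ≤ _ := Nat.mul_le_mul_left _ (hmono (by omega))
  rcases block_one p hp hpp e he2 with hs | hb
  · rcases hs with rfl | hs
    · rcases Nat.lt_or_ge m 2 with hm1 | hm2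
      · obtain rfl : m = 1 := by omega
        have hn3' : 3 ≤ n := by
          by_contra h
          exact hn2 ⟨rfl, Or.inl ⟨rfl, by omega⟩⟩
        refine hX3.trans ?_
        calc 576 ^ (1 - 1) * (1 ^ 6 * blockF 2 ^ 3) ^ 1 ≤ 205 * 11 ^ (3 * 1) := by decide +kernel
          _ ≤ 205 * p ^ (3 * 1) := Nat.mul_le_mul_left _ (Nat.pow_le_pow_left hp _)
          _ ≤ _ := Nat.mul_le_mul_left _ (hmono (by omega))
      have hp23 : 23 ≤ p := by
        have h20 : ¬ p ≤ 19 := fun h => hn2 ⟨rfl, Or.inr ⟨hm2, h⟩⟩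
        by_contra h
        interval_cases p <;> norm_num at hpp
      rcases Nat.lt_or_ge m 3 with hm3 | hm3
      · obtain rfl : m = 2 := by omega
        have hP2 : P ≤ 2 := by
          by_contra h
          have : 3 ^ 3 ≤ P ^ 3 := Nat.pow_le_pow_left (by omega) 3
          norm_num at hP this
          omega
        calc X ^ 3 ≤ (1 ^ (2 * 2) * 2 ^ 2 * blockF 2 ^ 2) ^ 3 := Nat.pow_le_pow_left (hX.trans
              (Nat.mul_le_mul_right _ (Nat.mul_le_mul_left _ (Nat.pow_le_pow_left hP2 2)))) 3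
          _ ≤ 205 * 23 ^ (3 * 2) := by decide +kernel
          _ ≤ 205 * p ^ (3 * 2) := Nat.mul_le_mul_left _ (Nat.pow_le_pow_left hp23 _)
          _ ≤ _ := Nat.mul_le_mul_left _ (hmono (by omega))
      refine hX3.trans ?_
      obtain ⟨k, rfl⟩ : ∃ k, m = k + 3 := ⟨m - 3, by omega⟩
      rw [show k + 3 - 1 = 2 + k by omega, one_pow, one_mul]
      calc 576 ^ (2 + k) * (blockF 2 ^ 3) ^ (k + 3) = (576 * blockF 2 ^ 3) ^ k * (576 ^ 2 * (blockF 2 ^ 3) ^ 3) := by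
            rw [mul_pow, pow_add, pow_add]; ring
        _ ≤ (23 ^ 6) ^ k * (205 * 23 ^ 12) :=
            Nat.mul_le_mul (Nat.pow_le_pow_left (by decide +kernel) k) (by decide +kernel)
        _ = 205 * 23 ^ (12 + 6 * k) := by rw [← pow_mul, pow_add]; ring
        _ ≤ 205 * p ^ (12 + 6 * k) := Nat.mul_le_mul_left _ (Nat.pow_le_pow_left hp23 _)
        _ ≤ _ := Nat.mul_le_mul_left _ (hmono (by omega))
    · rcases hs with h | h | h
      · exact absurd h hn3
      · exact absurd h hn4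
      · exact absurd h hn8
  · exact hX3.trans (chain (by simpa using hb) (by omega))

/-- The finitely many remaining cases, as a test. -/
def finOK (p e m : ℕ) (s : Bool) : Bool :=
  !([2, 3, 4, 8].contains e && decide (11 ≤ p) && [11, 13, 17, 19, 23, 29, 31].contains p &&
      (e != 2 || decide (p ≤ 19)) && (e != 4 || decide (p ≤ 19)) && (e != 8 || decide (p ≤ 11)) &&
      decide (1 ≤ m) && decide (m + (if s then 6 else 5) ≤ (49 * p - 1) / 60) && !(e == 2 && m == 1) &&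
      !(e == 2 && p == 13 && decide (3 ≤ m))) ||
    decide ((((49 * p - 1) / 60 - 4) ^ 2) ^ 3 * ((if s then (if m = 2 then 64 else 576 ^ (m - 1)) else 24 ^ (m - 1)) * (blockF e ^ 3) ^ m) <
      (4 * (p ^ (e * m) - 1)) ^ 3)

theorem finOK_all : ∀ p < 32, ∀ e < 9, ∀ m < 21, finOK p e m true = true ∧ finOK p e m false = true := by
  decide +kernel

/-- The finitely many remaining cases. -/
theorem finite_check {p e m : ℕ} (hp : p < 32) (hpp : Nat.Prime p) (h11 : 11 ≤ p)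
    (he : e = 2 ∨ e = 3 ∨ e = 4 ∨ e = 8)
    (h2 : e = 2 → p ≤ 19) (h4 : e = 4 → p ≤ 19) (h8 : e = 8 → p ≤ 11) (hm : m < 21) (hm1 : 1 ≤ m)
    (s : Bool) (hm6 : m + (if s then 6 else 5) ≤ (49 * p - 1) / 60) (h21 : ¬ (e = 2 ∧ m = 1)) (h213 : ¬ (e = 2 ∧ p = 13 ∧ 3 ≤ m)) :
    (((49 * p - 1) / 60 - 4) ^ 2) ^ 3 * ((if s then (if m = 2 then 64 else 576 ^ (m - 1)) else 24 ^ (m - 1)) * (blockF e ^ 3) ^ m) <
      (4 * (p ^ (e * m) - 1)) ^ 3 := by
  have hp' : p ∈ [11, 13, 17, 19, 23, 29, 31] := by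
    interval_cases p <;> first | (simp; done) | (exfalso; norm_num at hpp)
  have h : finOK p e m s = true := by
    have h0 := finOK_all p hp e (by omega) m hm
    cases s; exacts [h0.2, h0.1]
  simp only [finOK, Bool.or_eq_true, decide_eq_true_eq, Bool.not_eq_true', Bool.and_eq_false_iff] at h
  rcases h with h | h
  · simp only [List.contains_eq_mem, decide_eq_false_iff_not, Bool.or_eq_false_iff, bne_eq_false_iff_eq,
      Bool.not_eq_false', Bool.and_eq_true, beq_iff_eq, decide_eq_true_eq] at h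
    rcases h with ((((((((h | h) | h) | h) | h) | h) | h) | h) | h) | h
    · exact absurd (by simp; omega) h
    · exact absurd h11 h
    · exact absurd hp' h
    all_goals omega
  · exact h

/-- Few cosets over the abelian subgroup. -/
theorem small_bound {p a m e n P I J f : ℕ} (hp : 7 ≤ p) (hpp : p.Prime) (ha : 1 ≤ a) (hm : 1 ≤ m) (he : 1 ≤ e)
    (hn : 2 ≤ n) (hdim : a * e * m ≤ n) (hP : P ^ 3 ≤ 24 ^ (m - 1)) (hI : I ≤ a ^ m * P)
    (hJ : J ≤ a ^ m * P * blockF e ^ m) (h12 : J ≤ 12) (hIJ : I ≤ J)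
    (hne : ¬ (n = 2 ∧ e = 2)) (hseven : p = 7 → 3 ≤ m → 49 * p ≤ 60 * f)
    (hf : 4 * (p ^ n - 1) ≤ I * J * f ^ 2) : 49 * p ≤ 60 * f := by
  by_contra hlt
  have hp2 : 49 ≤ p ^ 2 := Nat.pow_le_pow_left hp 2
  have h1 : 14400 * (p ^ n - 1) < 2401 * ((I * J) * p ^ 2) ∨ I * J = 0 := by
    rcases Nat.eq_zero_or_pos (I * J) with h0 | h0
    · exact Or.inr h0
    left
    calc 14400 * (p ^ n - 1) = 3600 * (4 * (p ^ n - 1)) := by ring
      _ ≤ 3600 * (I * J * f ^ 2) := Nat.mul_le_mul_left _ hf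
      _ = I * J * (60 * f) ^ 2 := by ring
      _ < I * J * (49 * p) ^ 2 := Nat.mul_lt_mul_of_pos_left (Nat.pow_lt_pow_left (by omega) (by norm_num)) h0
      _ = _ := by ring
  have hpn : p ^ 2 ≤ p ^ n := Nat.pow_le_pow_right (by omega) hn
  rcases h1 with h1 | h0
  swap
  · rw [h0, zero_mul] at hf
    omega
  have h144 : I * J * p ^ 2 ≤ 144 * p ^ 2 :=
    Nat.mul_le_mul_right _ (Nat.mul_le_mul (hIJ.trans h12) h12)
  rcases Nat.lt_or_ge n 4 with hn4 | hn4
  swap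
  · have h4 : 49 * p ^ 2 ≤ p ^ n := by
      calc 49 * p ^ 2 ≤ p ^ 2 * p ^ 2 := Nat.mul_le_mul_right _ hp2
        _ = p ^ 4 := by ring
        _ ≤ p ^ n := Nat.pow_le_pow_right (by omega) hn4
    omega
  have ha3 : a * m ≤ n := le_trans (Nat.mul_le_mul_right m (Nat.le_mul_of_pos_right a he)) hdim
  have ham : a ≤ 3 ∧ m ≤ 3 :=
    ⟨le_trans (Nat.le_mul_of_pos_right a hm) (by omega), le_trans (Nat.le_mul_of_pos_left m ha) (by omega)⟩
  have hP' : (m = 1 → P ≤ 1) ∧ (m = 2 → P ≤ 2) ∧ (m = 3 → P ≤ 8) := by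
    refine ⟨?_, ?_, ?_⟩ <;> rintro rfl <;> by_contra h
    · have : 2 ^ 3 ≤ P ^ 3 := Nat.pow_le_pow_left (by omega) 3
      norm_num at hP this; omega
    · have : 3 ^ 3 ≤ P ^ 3 := Nat.pow_le_pow_left (by omega) 3
      norm_num at hP this; omega
    · have : 9 ^ 3 ≤ P ^ 3 := Nat.pow_le_pow_left (by omega) 3
      norm_num at hP this; omega
  have hIb : I ≤ 3 ∧ n = 3 ∨ I ≤ 2 ∧ n = 2 ∨ I ≤ 8 ∧ m = 3 ∧ n = 3 := by
    obtain ⟨h1', h2', h3'⟩ := hP'
    obtain ⟨ha', hm'⟩ := ham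
    interval_cases m <;> interval_cases a <;> simp at hI ha3 ⊢ <;>
      simp only [forall_true_left] at h1' h2' h3' <;> omega
  have hJe : e = 1 → J ≤ a ^ m * P := by
    rintro rfl
    simpa [show blockF 1 = 1 from rfl] using hJ
  rcases hIb with ⟨hI3, rfl⟩ | ⟨hI2, rfl⟩ | ⟨hI8, rfl, rfl⟩
  · have h36 : I * J * p ^ 2 ≤ 36 * p ^ 2 := Nat.mul_le_mul_right _ (Nat.mul_le_mul hI3 h12)
    have h7 : 7 * p ^ 2 ≤ p ^ 3 := by rw [pow_succ p 2, mul_comm (p ^ 2) p]; exact Nat.mul_le_mul_right _ hp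
    omega
  · have he1 : e = 1 := by
      have he2 : e ≠ 2 := fun h => hne ⟨rfl, h⟩
      have : e ≤ 2 := le_trans (le_trans (Nat.le_mul_of_pos_left e ha) (Nat.le_mul_of_pos_right _ hm)) hdim
      omega
    have hJ2 : J ≤ 2 := by
      refine (hJe he1).trans ?_
      obtain ⟨h1', h2', -⟩ := hP'
      obtain ⟨ha', hm'⟩ := ham
      interval_cases m <;> interval_cases a <;> simp at ha3 ⊢ <;>
        simp only [forall_true_left] at h1' h2' <;> omega
    have h4 : I * J * p ^ 2 ≤ 4 * p ^ 2 := Nat.mul_le_mul_right _ (Nat.mul_le_mul hI2 hJ2)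
    omega
  · have ha1 : a = 1 ∧ e = 1 := by
      have : a * e ≤ 1 := by omega
      exact ⟨Nat.le_antisymm (le_trans (Nat.le_mul_of_pos_right a he) this) ha,
        Nat.le_antisymm (le_trans (Nat.le_mul_of_pos_left e ha) this) he⟩
    have hJ8 : J ≤ 8 := by
      refine (hJe ha1.2).trans ?_
      rw [ha1.1, one_pow, one_mul]
      exact hP'.2.2 rfl
    have hp11 : 11 ≤ p := by
      have : p ≠ 7 := fun h => hlt (hseven h le_rfl)
      by_contra h
      interval_cases p <;> first | omega | norm_num at hpp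
    have h64 : I * J * p ^ 2 ≤ 64 * p ^ 2 := Nat.mul_le_mul_right _ (Nat.mul_le_mul hI8 hJ8)
    have h11 : 11 * p ^ 2 ≤ p ^ 3 := by rw [pow_succ p 2, mul_comm (p ^ 2) p]; exact Nat.mul_le_mul_right _ hp11
    omega

/-- Many cosets over the abelian subgroup. -/
theorem big_bound {p a m e n P X f : ℕ} (hp : 7 ≤ p) (hpp : p.Prime) (ha : 1 ≤ a) (hm : 1 ≤ m) (he : 1 ≤ e)
    (hn : 2 ≤ n) (hdim : a * e * m ≤ n) (hP : P ^ 3 ≤ 24 ^ (m - 1))
    (hX : X ≤ a ^ (2 * m) * P ^ 2 * blockF e ^ m) (hne : ¬ (n = 2 ∧ e = 2))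
    (hm6 : m + 6 ≤ f ∨ (m + 5 ≤ f ∧ X ≤ a ^ m * P * blockF e ^ m)) (h13 : p = 13 → a = 1 → e = 2 → 2 * m + 5 ≤ f)
    (hf : 4 * (p ^ n - 1) ≤ X * (f - 4) ^ 2) : 49 * p ≤ 60 * f := by
  rcases Nat.lt_or_ge p 11 with hp11 | hp11
  · have : m + 5 ≤ f := by rcases hm6 with h | h <;> omega
    interval_cases p <;> first | omega | norm_num at hpp
  by_cases hex : a = 1 ∧ ((e = 2 ∧ 2 ≤ m ∧ p ≤ 19) ∨ (e = 3 ∧ p ≤ 31) ∨ (e = 4 ∧ p ≤ 19) ∨ (e = 8 ∧ p ≤ 11))
  · obtain ⟨rfl, hex⟩ := hex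
    by_contra hlt
    have hp32 : p < 32 := by omega
    have hg : f - 4 ≤ (49 * p - 1) / 60 - 4 := Nat.sub_le_sub_right (by omega) 4
    have hm20 : m + 5 ≤ (49 * p - 1) / 60 := by omega
    have he4 : e = 2 ∨ e = 3 ∨ e = 4 ∨ e = 8 := by omega
    by_cases h213 : e = 2 ∧ p = 13 ∧ 3 ≤ m
    · obtain ⟨rfl, rfl, hm3⟩ := h213
      have := h13 rfl rfl rfl
      omega
    set s : Bool := decide (m + 6 ≤ f) with hs
    have key := finite_check hp32 hpp hp11 he4 (by omega) (by omega) (by omega) (by omega) hm s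
      (by by_cases h6 : m + 6 ≤ f <;> simp [hs, h6] <;> omega) (by omega) h213
    have hX3 : X ^ 3 ≤ (if s then (if m = 2 then 64 else 576 ^ (m - 1)) else 24 ^ (m - 1)) * (blockF e ^ 3) ^ m := by
      by_cases h6 : m + 6 ≤ f
      swap
      · obtain ⟨-, hX'⟩ := hm6.resolve_left h6
        rw [if_neg (by simp [hs, h6])]
        refine (Nat.pow_le_pow_left hX' 3).trans ?_
        rw [one_pow, one_mul, mul_pow, ← pow_mul, ← pow_mul, mul_comm m 3]
        exact Nat.mul_le_mul_right _ hP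
      rw [if_pos (by simp [hs, h6])]
      have hb : P ^ 6 ≤ if m = 2 then 64 else 576 ^ (m - 1) := by
        split_ifs with h2
        · subst h2
          have hP2 : P ≤ 2 := by
            by_contra h
            have : 3 ^ 3 ≤ P ^ 3 := Nat.pow_le_pow_left (by omega) 3
            norm_num at hP this
            omega
          exact (Nat.pow_le_pow_left hP2 6).trans (by norm_num)
        · calc P ^ 6 = (P ^ 3) ^ 2 := by ring
            _ ≤ (24 ^ (m - 1)) ^ 2 := Nat.pow_le_pow_left hP 2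
            _ = 576 ^ (m - 1) := by rw [← pow_mul, mul_comm, pow_mul]; norm_num
      calc X ^ 3 ≤ (1 ^ (2 * m) * P ^ 2 * blockF e ^ m) ^ 3 := Nat.pow_le_pow_left hX 3
        _ = P ^ 6 * (blockF e ^ 3) ^ m := by
          rw [one_pow, one_mul, mul_pow, ← pow_mul, ← pow_mul, ← pow_mul, mul_comm m 3]
        _ ≤ _ := Nat.mul_le_mul_right _ hb
    have hN : p ^ (e * m) ≤ p ^ n := Nat.pow_le_pow_right (by omega) (by simpa using hdim)
    have h2 : (4 * (p ^ (e * m) - 1)) ^ 3 ≤ (X * (f - 4) ^ 2) ^ 3 :=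
      Nat.pow_le_pow_left ((Nat.mul_le_mul_left 4 (Nat.sub_le_sub_right hN 1)).trans hf) 3
    have h3 := Nat.mul_le_mul hX3 (Nat.pow_le_pow_left (Nat.pow_le_pow_left hg 2) 3)
    rw [← mul_pow] at h3
    exact absurd (h2.trans h3) (not_le.mpr (lt_of_eq_of_lt (mul_comm _ _) key))
  refine le_trans (bound_of_lin rfl ?_ (cube_to_lin hn (cube_bound hp11 hpp ha hm he hn hdim hP hX ?_)) hf) (by omega)
  · exact le_trans (by norm_num) (le_trans (Nat.pow_le_pow_left hp11 2) (Nat.pow_le_pow_right (by omega) hn))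
  · intro ha1
    subst ha1
    refine ⟨?_, ?_, ?_, ?_⟩ <;> rintro ⟨h1, h2⟩
    · subst h1
      rcases h2 with ⟨-, h2⟩ | h2
      · exact hne ⟨h2, rfl⟩
      · exact hex ⟨rfl, Or.inl ⟨rfl, h2⟩⟩
    all_goals exact hex ⟨rfl, by omega⟩

end Cfsg.Agent.SolvClassNum
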