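import Cfsg.Agent.EqLemmas
import Mathlib.Data.Nat.Prime.Basic
import Mathlib.Data.Nat.Log
import Mathlib.Tactic

/-! An order bound for solvable groups of isometries of a pairing on `e * e` elements. -/

set_option autoImplicit false

namespace Cfsg.Agent.SolvClassNum

/-- Least divisor at least two, by search. -/
def sDiv (e : ℕ) : ℕ := ((List.range (e + 1)).find? fun r => 2 ≤ r && e % r == 0).getD e

/-- Multiplicity, by fuel. -/
def sMult : ℕ → ℕ → ℕ → ℕ
  | 0, _, _ => 0
  | f + 1, r, e => if 2 ≤ r ∧ 0 < e ∧ e % r = 0 then sMult f r (e / r) + 1 else 0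

/-- The bound, by fuel. -/
def spF : ℕ → ℕ → ℕ
  | 0, _ => 1
  | f + 1, e => if e ≤ 1 then 1 else if e = 4 then 180 else
      ((sDiv e) ^ (2 * sMult e (sDiv e) e) - 1) * (sDiv e) ^ (2 * sMult e (sDiv e) e - 1) * spF f (e / sDiv e)

/-- The bound. -/
def spBound (e : ℕ) : ℕ := spF e e

theorem sDiv_spec {e : ℕ} (he : 2 ≤ e) : (sDiv e).Prime ∧ sDiv e ∣ e ∧ 2 ≤ sDiv e ∧ sDiv e ≤ e := by
  have hex : ((List.range (e + 1)).find? fun r => 2 ≤ r && e % r == 0).isSome := by
    rw [List.find?_isSome]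
    exact ⟨e, List.mem_range.mpr (by omega), by simp [he]⟩
  obtain ⟨r, hr⟩ := Option.isSome_iff_exists.mp hex
  have hd : sDiv e = r := by rw [sDiv, hr]; rfl
  rw [hd]
  obtain ⟨hp, as, bs, hsplit, hbef⟩ := List.find?_eq_some_iff_append.mp hr
  simp only [Bool.and_eq_true, decide_eq_true_eq, beq_iff_eq] at hp
  have hdvd : r ∣ e := Nat.dvd_of_mod_eq_zero hp.2
  have hle : r ≤ e := Nat.le_of_dvd (by omega) hdvd
  refine ⟨?_, hdvd, hp.1, hle⟩
  rw [Nat.prime_def_lt']
  refine ⟨hp.1, fun m hm2 hmr hmd => ?_⟩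
  have hidx : m ∈ as := by
    have h1 : as.length = r := by
      have h2 := congrArg (fun l => l[as.length]?) hsplit
      simp only [List.getElem?_append_right le_rfl, Nat.sub_self, List.getElem?_cons_zero] at h2
      rw [List.getElem?_range (by
        have h3 := congrArg List.length hsplit
        simp at h3
        omega)] at h2
      simpa using h2
    have h3 : as = (List.range (e + 1)).take as.length := by rw [hsplit]; simp
    rw [h3, h1, List.take_range]
    exact List.mem_range.mpr (by omega)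
  have := hbef m hidx
  simp [hm2, Nat.dvd_iff_mod_eq_zero.mp (hmd.trans hdvd)] at this

theorem sMult_spec : ∀ (f r e : ℕ), 2 ≤ r → 0 < e → e ≤ f → r ^ sMult f r e ∣ e ∧ ¬ r ^ (sMult f r e + 1) ∣ e := by
  intro f
  induction f with
  | zero => intro r e _ he hf; omega
  | succ f ih =>
    intro r e hr he hf
    rw [sMult]
    by_cases hd : e % r = 0
    · rw [if_pos ⟨hr, he, hd⟩]
      have hdvd := Nat.dvd_of_mod_eq_zero hd
      have hpos : 0 < e / r := Nat.div_pos (Nat.le_of_dvd he hdvd) (by omega)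
      have hlt : e / r < e := Nat.div_lt_self he (by omega)
      obtain ⟨h1, h2⟩ := ih r (e / r) hr hpos (by omega)
      constructor
      · rw [pow_succ]
        calc r ^ sMult f r (e / r) * r ∣ (e / r) * r := Nat.mul_dvd_mul_right h1 r
          _ = e := Nat.div_mul_cancel hdvd
      · intro h
        apply h2
        rw [pow_succ] at h
        refine Nat.dvd_of_mul_dvd_mul_right (show 0 < r by omega) ?_
        rw [Nat.div_mul_cancel hdvd]
        exact h
    · rw [if_neg (fun h => hd h.2.2)]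
      simpa [Nat.dvd_iff_mod_eq_zero] using hd

theorem spF_fuel : ∀ (f g e : ℕ), e ≤ f → e ≤ g → spF f e = spF g e := by
  intro f
  induction f with
  | zero => intro g e he _; cases g <;> simp [spF, show e = 0 by omega]
  | succ f ih =>
    intro g e he hg
    cases g with
    | zero => simp [spF, show e = 0 by omega]
    | succ g =>
      rw [spF, spF]
      split_ifs with h1 h4
      · rfl
      · rfl
      · obtain ⟨-, -, h2, -⟩ := sDiv_spec (by omega : 2 ≤ e)
        have := Nat.div_lt_self (by omega : 0 < e) (by omega : 1 < sDiv e)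
        rw [ih g (e / sDiv e) (by omega) (by omega)]

theorem spBound_one : spBound 1 = 1 := by rfl

theorem spBound_four : spBound 4 = 180 := by rfl

theorem spBound_step {e : ℕ} (he : 2 ≤ e) (h4 : e ≠ 4) : ∃ r j : ℕ, r.Prime ∧ r ∣ e ∧ 0 < j ∧ r ^ j ∣ e ∧
    ¬ r ^ (j + 1) ∣ e ∧ spBound e = (r ^ (2 * j) - 1) * r ^ (2 * j - 1) * spBound (e / r) := by
  obtain ⟨hp, hd, h2, hle⟩ := sDiv_spec he
  obtain ⟨hj, hj1⟩ := sMult_spec e (sDiv e) e h2 (by omega) le_rfl
  refine ⟨sDiv e, sMult e (sDiv e) e, hp, hd, ?_, hj, hj1, ?_⟩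
  · by_contra h
    rw [show sMult e (sDiv e) e = 0 by omega, zero_add, pow_one] at hj1
    exact hj1 hd
  · obtain ⟨k, rfl⟩ : ∃ k, e = k + 1 := ⟨e - 1, by omega⟩
    rw [spBound, spF, if_neg (by omega), if_neg h4]
    have := Nat.div_lt_self (by omega : 0 < k + 1) (by omega : 1 < sDiv (k + 1))
    rw [spF_fuel k ((k + 1) / sDiv (k + 1)) _ (by omega) le_rfl]
    rfl

theorem spBound_le : ∀ e : ℕ, 1 ≤ e → spBound e ≤ e ^ (2 * Nat.log 2 e + 1) := by
  intro e
  induction e using Nat.strong_induction_on with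
  | _ e ih =>
    intro he
    by_cases h1 : e = 1
    · subst h1; simp [spBound_one]
    by_cases h4 : e = 4
    · subst h4
      rw [spBound_four, show Nat.log 2 4 = 2 from (Nat.log_eq_iff (by norm_num)).mpr (by norm_num)]
      norm_num
    obtain ⟨r, j, hp, hd, hj0, hj, -, heq⟩ := spBound_step (by omega) h4
    rw [heq]
    have h2 := hp.two_le
    set e' := e / r with he'
    have he'1 : 1 ≤ e' := Nat.div_pos (Nat.le_of_dvd (by omega) hd) (by omega)
    have hmul : e' * r = e := Nat.div_mul_cancel hd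
    set L := Nat.log 2 e with hL
    have hL1 : 1 ≤ L := Nat.le_log_of_pow_le (by norm_num) (by omega)
    have hL' : Nat.log 2 e' + 1 ≤ L := by
      refine Nat.le_log_of_pow_le (by norm_num) ?_
      rw [pow_succ]
      calc 2 ^ Nat.log 2 e' * 2 ≤ e' * r := Nat.mul_le_mul (Nat.pow_log_le_self 2 (by omega)) h2
        _ = e := hmul
    have hrj : r ^ j ≤ e := Nat.le_of_dvd (by omega) hj
    have hjL : j ≤ L := Nat.le_log_of_pow_le (by norm_num) ((Nat.pow_le_pow_left h2 j).trans hrj)
    calc (r ^ (2 * j) - 1) * r ^ (2 * j - 1) * spBound e'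
        ≤ r ^ (2 * j) * r ^ (2 * j - 1) * e' ^ (2 * L - 1) := by
          refine Nat.mul_le_mul (Nat.mul_le_mul_right _ (Nat.sub_le _ _)) ((ih e' ?_ he'1).trans ?_)
          · rw [← hmul]; exact lt_mul_of_one_lt_right (by omega) (by omega)
          · exact Nat.pow_le_pow_right he'1 (by omega)
      _ ≤ r ^ (2 * j) * r ^ (2 * L - 1) * e' ^ (2 * L - 1) := by
          gcongr
          omega
      _ = r ^ (2 * j) * e ^ (2 * L - 1) := by rw [← hmul, mul_pow]; ring
      _ ≤ e ^ 2 * e ^ (2 * L - 1) := Nat.mul_le_mul_right _ (by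
          rw [mul_comm 2 j, pow_mul]; exact Nat.pow_le_pow_left hrj 2)
      _ = e ^ (2 * L + 1) := by rw [← pow_add]; congr 1; omega

theorem spBound_small : ∀ e < 64, 5 ≤ e → e ≠ 8 → e * e * spBound e ≤ 5 * 11 ^ (e - 2) := by
  decide +kernel

/-- The bound is small against `11 ^ e`. -/
theorem spBound_large {e : ℕ} (he : 5 ≤ e) (h8 : e ≠ 8) : e * e * spBound e ≤ 5 * 11 ^ (e - 2) := by
  by_cases h64 : e < 64
  · exact spBound_small e h64 he h8
  set L := Nat.log 2 e with hL
  have hL6 : 6 ≤ L := Nat.le_log_of_pow_le (by norm_num) (by omega)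
  have hkey : ∀ k, 6 ≤ k → (k + 1) * (2 * k + 3) + 6 ≤ 3 * 2 ^ k := by
    intro k hk
    induction k, hk using Nat.le_induction with
    | base => norm_num
    | succ k hk ih => rw [pow_succ]; nlinarith
  calc e * e * spBound e ≤ e * e * e ^ (2 * L + 1) := Nat.mul_le_mul_left _ (spBound_le e (by omega))
    _ = e ^ (2 * L + 3) := by ring
    _ ≤ (2 ^ (L + 1)) ^ (2 * L + 3) := Nat.pow_le_pow_left (Nat.lt_pow_succ_log_self (by norm_num) e).le _
    _ = 2 ^ ((L + 1) * (2 * L + 3)) := by rw [← pow_mul]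
    _ ≤ 2 ^ (3 * (e - 2)) := Nat.pow_le_pow_right (by norm_num) (by
        have := hkey L hL6
        have : 2 ^ L ≤ e := Nat.pow_log_le_self 2 (by omega)
        omega)
    _ = 8 ^ (e - 2) := by rw [pow_mul]; norm_num
    _ ≤ 5 * 11 ^ (e - 2) := (Nat.pow_le_pow_left (by norm_num) _).trans (Nat.le_mul_of_pos_left _ (by norm_num))

end Cfsg.Agent.SolvClassNum
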