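import Cfsg.Agent.Lib.Nearfield.Algebra
import Cfsg.Agent.Lib.SolvClassNum.SpFun
import Cfsg.Agent.Lib.SolvClassNum.Num

/-! The data carried along the reduction of an irreducible linear group. -/

set_option autoImplicit false

namespace Cfsg.Agent.SolvClassNum

open Nearfield

variable {p : ℕ} [Fact p.Prime] {G V : Type} [Group G] [Finite G] [AddCommGroup V] [Module (ZMod p) V]

/-- No proper nontrivial invariant subspace. -/
def IrrRep (ρ : G →* (V ≃ₗ[ZMod p] V)) : Prop :=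
  ∀ U : Submodule (ZMod p) V, (∀ g : G, ∀ u ∈ U, ρ g u ∈ U) → U = ⊥ ∨ U = ⊤

/-- At least `k` orbits of nonzero vectors. -/
def HasOrbits (ρ : G →* (V ≃ₗ[ZMod p] V)) (k : ℕ) : Prop :=
  ∃ f : Fin k → V, (∀ i, f i ≠ 0) ∧ ∀ i j, ∀ g : G, ρ g (f i) = f j → i = j

/-- The structure of the exceptional two dimensional groups. -/
def SmallCase (ρ : G →* (V ≃ₗ[ZMod p] V)) (A : Subgroup G) : Prop :=
  (∀ a ∈ A, ∃ s : ZMod p, ∀ v : V, ρ a v = s • v) ∧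
    ∃ M : Subgroup G, M.Normal ∧ A ≤ M ∧ A.relIndex M = 4 ∧ M.index ∣ 6 ∧ (∀ v ∈ M, v * v ∈ A) ∧
      (∀ g : G, (∀ v ∈ M, g * v * g⁻¹ * v⁻¹ ∈ A) → g ∈ M) ∧ (∀ u ∈ M, (∀ v ∈ M, u * v = v * u) → u ∈ A)

/-- What is known about an irreducible solvable linear group. -/
def HasData (ρ : G →* (V ≃ₗ[ZMod p] V)) : Prop :=
  ∃ (A : Subgroup G) (m a e P : ℕ), A.Normal ∧ (∀ x ∈ A, ∀ y ∈ A, x * y = y * x) ∧
    1 ≤ m ∧ 1 ≤ a ∧ 1 ≤ e ∧ a * e * m ≤ Module.finrank (ZMod p) V ∧ P ^ 3 ≤ 24 ^ (m - 1) ∧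
    (Subgroup.centralizer (A : Set G)).index ≤ a ^ m * P ∧ A.index ≤ a ^ m * P * blockF e ^ m ∧
    HasOrbits ρ m ∧ (p = 13 → a = 1 → e = 2 → HasOrbits ρ (2 * m)) ∧
    (Module.finrank (ZMod p) V = 2 → e = 2 → SmallCase ρ A) ∧ (2 ≤ m → A ≠ ⊤) ∧
    (∀ R : Subgroup G, R.Normal → (Nat.card R).Prime → Nat.card R ≤ m ∨ Nat.card R ∣ p ^ a - 1)

/-- Singular elements in the algebra of a normal abelian subgroup all vanish. -/
def NonSingular (ρ : G →* (V ≃ₗ[ZMod p] V)) : Prop :=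
  ∀ A : Subgroup G, A.Normal → (∀ x ∈ A, ∀ y ∈ A, x * y = y * x) →
    ∀ x ∈ Algebra.adjoin (ZMod p) (toEnd ρ '' (A : Set G)), ∀ v : V, v ≠ 0 → x v = 0 → x = 0

theorem toEnd_cancel (ρ : G →* (V ≃ₗ[ZMod p] V)) (g : G) : toEnd ρ g⁻¹ * toEnd ρ g = 1 := by
  rw [← map_mul, inv_mul_cancel, map_one]

theorem toEnd_cancel' (ρ : G →* (V ≃ₗ[ZMod p] V)) (g : G) : toEnd ρ g * toEnd ρ g⁻¹ = 1 := by
  rw [← map_mul, mul_inv_cancel, map_one]

/-- The algebra of an abelian subgroup is commutative. -/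
theorem adjoin_comm (ρ : G →* (V ≃ₗ[ZMod p] V)) (A : Subgroup G) (hA : ∀ x ∈ A, ∀ y ∈ A, x * y = y * x) :
    ∀ x ∈ Algebra.adjoin (ZMod p) (toEnd ρ '' (A : Set G)),
      ∀ y ∈ Algebra.adjoin (ZMod p) (toEnd ρ '' (A : Set G)), x * y = y * x := by
  intro x hx y hy
  refine (Algebra.commute_of_mem_adjoin_of_forall_mem_commute hy ?_).eq
  rintro _ ⟨b, hb, rfl⟩
  refine (Algebra.commute_of_mem_adjoin_of_forall_mem_commute hx ?_).symm
  rintro _ ⟨a, ha, rfl⟩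
  show toEnd ρ b * toEnd ρ a = toEnd ρ a * toEnd ρ b
  rw [← map_mul, ← map_mul, hA b hb a ha]

/-- Conjugation preserves the algebra of a normal subgroup. -/
theorem adjoin_conj (ρ : G →* (V ≃ₗ[ZMod p] V)) (A : Subgroup G) [hA : A.Normal] (g : G) :
    ∀ x ∈ Algebra.adjoin (ZMod p) (toEnd ρ '' (A : Set G)),
      toEnd ρ g * x * toEnd ρ g⁻¹ ∈ Algebra.adjoin (ZMod p) (toEnd ρ '' (A : Set G)) := by
  intro x hx
  induction hx using Algebra.adjoin_induction with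
  | mem y hy =>
    obtain ⟨a, ha, rfl⟩ := hy
    rw [← map_mul, ← map_mul]
    exact Algebra.subset_adjoin ⟨_, hA.conj_mem a ha g, rfl⟩
  | algebraMap r =>
    rw [← Algebra.commutes, mul_assoc, toEnd_cancel', mul_one]
    exact Subalgebra.algebraMap_mem _ r
  | add y z _ _ hy hz =>
    rw [mul_add, add_mul]; exact add_mem hy hz
  | mul y z _ _ hy hz =>
    have e : toEnd ρ g * (y * z) * toEnd ρ g⁻¹ = toEnd ρ g * y * toEnd ρ g⁻¹ * (toEnd ρ g * z * toEnd ρ g⁻¹) := by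
      calc _ = toEnd ρ g * y * (toEnd ρ g⁻¹ * toEnd ρ g) * z * toEnd ρ g⁻¹ := by
            rw [toEnd_cancel, mul_one]; simp only [mul_assoc]
        _ = _ := by simp only [mul_assoc]
    rw [e]; exact mul_mem hy hz

end Cfsg.Agent.SolvClassNum
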