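import Cfsg.Agent.Lib.SolvClassNum.Layer
import Cfsg.Agent.Lib.SolvClassNum.Defs

/-! Groups without singular elements in the algebras of their normal abelian subgroups. -/

set_option autoImplicit false
set_option linter.style.haveILetI false

namespace Cfsg.Agent.SolvClassNum

open Nearfield Module

variable {p : ℕ} [Fact p.Prime] {G V : Type} [Group G] [Finite G] [AddCommGroup V] [Module (ZMod p) V] [Finite V]

set_option maxHeartbeats 1000000 in
set_option synthInstance.maxHeartbeats 200000 in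
/-- The field of a normal abelian subgroup. -/
theorem field_degree [Nontrivial V] (ρ : G →* (V ≃ₗ[ZMod p] V)) (hρ : Function.Injective ρ) (hns : NonSingular ρ)
    (A : Subgroup G) [A.Normal] (hA : ∀ a ∈ A, ∀ b ∈ A, a * b = b * a) :
    ∃ d c : ℕ, 1 ≤ d ∧ 1 ≤ c ∧ finrank (ZMod p) V = d * c ∧ IsCyclic A ∧ Nat.card A ∣ p ^ d - 1 ∧
      (Subgroup.centralizer (A : Set G)).index ≤ d ∧
      (∀ M : Subgroup G, M ≤ Subgroup.centralizer (A : Set G) → (∀ u ∈ M, ∀ v ∈ M, u * v * u⁻¹ * v⁻¹ ∈ A) →
        (∀ u ∈ M, (∀ v ∈ M, u * v = v * u) → u ∈ A) → A.relIndex M ≤ c * c) ∧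
      (d = 1 → ∀ a ∈ A, ∃ s : ZMod p, ∀ v : V, ρ a v = s • v) := by
  classical
  set Φ := toEnd ρ with hΦ
  have hΦinj : Function.Injective Φ := fun a b h => hρ (LinearEquiv.ext fun v => LinearMap.congr_fun h v)
  set E : Subalgebra (ZMod p) (Module.End (ZMod p) V) := Algebra.adjoin (ZMod p) (Φ '' A) with hE
  have hgen : ∀ a ∈ A, Φ a ∈ E := fun a ha => Algebra.subset_adjoin ⟨a, ha, rfl⟩
  have hcomm : ∀ x ∈ E, ∀ y ∈ E, x * y = y * x := adjoin_comm ρ A hA
  have hconj : ∀ g : G, ∀ x ∈ E, Φ g * x * Φ g⁻¹ ∈ E := fun g => adjoin_conj ρ A g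
  have hinjE : ∀ {x : Module.End (ZMod p) V}, x ∈ E → ∀ {v : V}, v ≠ 0 → x v = 0 → x = 0 :=
    fun hx _ hv hxv => hns A inferInstance hA _ hx _ hv hxv
  haveI : Finite (Module.End (ZMod p) V) := Finite.of_injective (fun f : Module.End (ZMod p) V => (f : V → V))
    DFunLike.coe_injective
  haveI : Finite E := inferInstanceAs (Finite {x // x ∈ E})
  obtain ⟨v0, hv0⟩ := exists_ne (0 : V)
  haveI : Nontrivial E := ⟨0, 1, fun h => hv0 (by
    have := LinearMap.congr_fun (congrArg Subtype.val h) v0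
    simpa using this.symm)⟩
  haveI : NoZeroDivisors E := ⟨fun {x y} h => by
    by_contra hne
    push Not at hne
    obtain ⟨v, hv⟩ : ∃ v, (y : Module.End (ZMod p) V) v ≠ 0 := by
      by_contra hc
      push Not at hc
      exact hne.2 (Subtype.ext (LinearMap.ext hc))
    exact hne.1 (Subtype.ext (hinjE x.2 hv (LinearMap.congr_fun (congrArg Subtype.val h) v)))⟩
  haveI : IsDomain E := NoZeroDivisors.to_isDomain E
  letI : CommRing E := { (inferInstance : Ring E) with mul_comm := fun x y => Subtype.ext (hcomm x x.2 y y.2) }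
  letI : Field E := (Finite.isField_of_domain E).toField
  haveI := Fintype.ofFinite E
  set d := finrank (ZMod p) E with hd
  set c := finrank E V with hc
  have hEcard : Nat.card E = p ^ d := by
    rw [Module.natCard_eq_pow_finrank (K := ZMod p) (V := E), Nat.card_zmod]
  have hn : finrank (ZMod p) V = d * c := by
    have h1 : Nat.card V = (p ^ d) ^ c := by
      rw [Module.natCard_eq_pow_finrank (K := E) (V := V), hEcard]
    rw [Module.natCard_eq_pow_finrank (K := ZMod p) (V := V), Nat.card_zmod, ← pow_mul] at h1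
    exact Nat.pow_right_injective (Fact.out : p.Prime).two_le h1
  have hd0 : 0 < d := Module.finrank_pos
  have hc0 : 0 < c := Module.finrank_pos
  let κ : A →* E := { toFun := fun a => ⟨Φ a, hgen a a.2⟩, map_one' := Subtype.ext (map_one Φ), map_mul' := fun a b => Subtype.ext (map_mul Φ _ _) }
  let κu : A →* Eˣ := MonoidHom.toHomUnits κ
  have hκ : Function.Injective κu := fun a b h => Subtype.ext (hΦinj (congrArg Subtype.val (congrArg Units.val h)))
  have hAdvd : Nat.card A ∣ p ^ d - 1 := by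
    rw [← hEcard, ← Nat.card_units]
    exact Subgroup.card_dvd_of_injective κu hκ
  have hcyc : IsCyclic A := isCyclic_of_injective κu hκ
  have hθc : ∀ g : G, ∀ x y : E, (⟨Φ g * ((x * y : E) : Module.End (ZMod p) V) * Φ g⁻¹, hconj g _ (x * y).2⟩ : E) =
      ⟨Φ g * x * Φ g⁻¹, hconj g _ x.2⟩ * ⟨Φ g * y * Φ g⁻¹, hconj g _ y.2⟩ := fun g x y => Subtype.ext (by
    show Φ g * ((x : Module.End (ZMod p) V) * y) * Φ g⁻¹ = Φ g * x * Φ g⁻¹ * (Φ g * y * Φ g⁻¹)
    calc _ = Φ g * x * (Φ g⁻¹ * Φ g) * y * Φ g⁻¹ := by rw [toEnd_cancel, mul_one]; simp only [mul_assoc]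
      _ = _ := by simp only [mul_assoc])
  let θ0 : G → (E →ₐ[ZMod p] E) := fun g =>
    { toFun := fun x => ⟨Φ g * x * Φ g⁻¹, hconj g _ x.2⟩
      map_one' := Subtype.ext (by
        show Φ g * (1 : Module.End (ZMod p) V) * Φ g⁻¹ = 1
        rw [mul_one, toEnd_cancel'])
      map_mul' := hθc g
      map_zero' := Subtype.ext (by show Φ g * (0 : Module.End (ZMod p) V) * Φ g⁻¹ = 0; rw [mul_zero, zero_mul])
      map_add' := fun x y => Subtype.ext (by
        show Φ g * ((x : Module.End (ZMod p) V) + y) * Φ g⁻¹ = _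
        rw [mul_add, add_mul]; rfl)
      commutes' := fun r => Subtype.ext (by
        show Φ g * algebraMap (ZMod p) (Module.End (ZMod p) V) r * Φ g⁻¹ = algebraMap (ZMod p) _ r
        rw [← Algebra.commutes, mul_assoc, toEnd_cancel', mul_one]) }
  have hθ0 : ∀ (g : G) (x : E), (θ0 g x : Module.End (ZMod p) V) = Φ g * x * Φ g⁻¹ := fun _ _ => rfl
  have hθmul : ∀ g k : G, θ0 (g * k) = (θ0 g).comp (θ0 k) := fun g k => AlgHom.ext fun x => Subtype.ext (by
    rw [AlgHom.comp_apply, hθ0, hθ0, hθ0, mul_inv_rev, map_mul, map_mul]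
    simp only [mul_assoc])
  have hθone : θ0 1 = AlgHom.id _ _ := AlgHom.ext fun x => Subtype.ext (by
    rw [hθ0, inv_one, map_one, one_mul, mul_one]; rfl)
  let θ : G →* (E ≃ₐ[ZMod p] E) :=
    { toFun := fun g => AlgEquiv.ofAlgHom (θ0 g) (θ0 g⁻¹) (by rw [← hθmul, mul_inv_cancel, hθone])
        (by rw [← hθmul, inv_mul_cancel, hθone])
      map_one' := AlgEquiv.ext fun x => AlgHom.congr_fun hθone x
      map_mul' := fun g k => AlgEquiv.ext fun x => AlgHom.congr_fun (hθmul g k) x }
  have hker : θ.ker ≤ Subgroup.centralizer (A : Set G) := by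
    intro g h
    rw [Subgroup.mem_centralizer_iff]
    intro a ha
    have h1 : Φ g * Φ a * Φ g⁻¹ = Φ a := congrArg Subtype.val (AlgEquiv.congr_fun h ⟨Φ a, hgen a ha⟩)
    rw [← map_mul, ← map_mul] at h1
    exact (mul_inv_eq_iff_eq_mul.mp (hΦinj h1)).symm
  have hidx : (Subgroup.centralizer (A : Set G)).index ≤ d := by
    refine (Nat.le_of_dvd hd0 ((Subgroup.index_dvd_of_le hker).trans ?_))
    rw [Subgroup.index_ker, hd, ← IsGalois.card_aut_eq_finrank (ZMod p) E]
    exact Subgroup.card_subgroup_dvd_card _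
  refine ⟨d, c, hd0, hc0, hn, hcyc, hAdvd, hidx, fun M hMC hcom hcen => ?_, fun hd1 a ha => ?_⟩
  · have hlin : ∀ u : M, ∀ (x : E) (w : V), Φ (u : G) ((x : Module.End (ZMod p) V) w) =
        (x : Module.End (ZMod p) V) (Φ (u : G) w) := by
      intro u x w
      have hc' : Commute (Φ (u : G)) (x : Module.End (ZMod p) V) :=
        Algebra.commute_of_mem_adjoin_of_forall_mem_commute x.2 (by
          rintro _ ⟨a, ha, rfl⟩
          show Φ (u : G) * Φ a = Φ a * Φ (u : G)
          rw [← map_mul, ← map_mul, Subgroup.mem_centralizer_iff.mp (hMC u.2) a ha])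
      exact LinearMap.congr_fun hc'.eq w
    let L : M → (V →ₗ[E] V) := fun u =>
      { toFun := fun w => Φ (u : G) w
        map_add' := fun a b => map_add _ a b
        map_smul' := fun x w => hlin u x w }
    have hLv : ∀ (v u : M) (w : V), L v (L u (L v⁻¹ w)) =
        (⟨Φ ((v : G) * u * (v : G)⁻¹ * (u : G)⁻¹), hgen _ (hcom v v.2 u u.2)⟩ : E) • (L u w) := by
      intro v u w
      show Φ (v : G) (Φ (u : G) (Φ ((v⁻¹ : M) : G) w)) = Φ ((v : G) * u * (v : G)⁻¹ * (u : G)⁻¹) (Φ (u : G) w)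
      rw [← Module.End.mul_apply, ← Module.End.mul_apply, ← Module.End.mul_apply, ← map_mul, ← map_mul, ← map_mul,
        Subgroup.coe_inv, inv_mul_cancel_right]
    let f : M ⧸ A.subgroupOf M → (V →ₗ[E] V) := fun c => L c.out
    let lam : M ⧸ A.subgroupOf M → M → E := fun c v =>
      ⟨Φ ((v : G) * c.out * (v : G)⁻¹ * (c.out : G)⁻¹), hgen _ (hcom v v.2 c.out c.out.2)⟩
    have hsep : ∀ i j, (∀ v, lam i v = lam j v) → i = j := by
      intro i j hij
      rw [← QuotientGroup.out_eq' i, ← QuotientGroup.out_eq' j, QuotientGroup.eq, Subgroup.mem_subgroupOf]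
      refine hcen _ ((i.out⁻¹ * j.out : M)).2 fun v hv => ?_
      have h1 : v * (i.out : G) * v⁻¹ * (i.out : G)⁻¹ = v * (j.out : G) * v⁻¹ * (j.out : G)⁻¹ :=
        hΦinj (congrArg Subtype.val (hij ⟨v, hv⟩))
      have h2 : (v * (i.out : G) * v⁻¹)⁻¹ * (v * (j.out : G) * v⁻¹) = (i.out : G)⁻¹ * (j.out : G) := by
        calc (v * (i.out : G) * v⁻¹)⁻¹ * (v * (j.out : G) * v⁻¹)
            = (i.out : G)⁻¹ * (v * (i.out : G) * v⁻¹ * (i.out : G)⁻¹)⁻¹ *
                (v * (j.out : G) * v⁻¹ * (j.out : G)⁻¹) * (j.out : G) := by group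
          _ = _ := by rw [h1]; group
      show ((i.out⁻¹ * j.out : M) : G) * v = v * ((i.out⁻¹ * j.out : M) : G)
      push_cast
      conv_lhs => rw [← h2]
      group
    haveI : Fintype (M ⧸ A.subgroupOf M) := Fintype.ofFinite _
    have hne : ∀ i, f i ≠ 0 := by
      intro i hz
      refine hv0 ?_
      have := LinearMap.congr_fun hz (Φ ((i.out : G))⁻¹ v0)
      rw [show v0 = (Φ (i.out : G)) (Φ ((i.out : G))⁻¹ v0) by
        rw [← Module.End.mul_apply, ← map_mul, mul_inv_cancel, map_one]; rfl]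
      exact this
    have hle := card_le_finrank_sq (K := E) f hne (fun i j hij => by
      obtain ⟨v, hv⟩ : ∃ v, lam i v ≠ lam j v := by
        by_contra hc'
        push Not at hc'
        exact hij (hsep i j hc')
      exact ⟨L v, L v⁻¹, fun k => lam k v, fun k w => hLv v k.out w, hv⟩)
    rw [← Nat.card_eq_fintype_card] at hle
    exact hle
  · haveI : Nontrivial (Module.End (ZMod p) V) := ⟨0, 1, fun h => hv0 (by
      have := LinearMap.congr_fun h v0
      simpa using this.symm)⟩
    have hbot : E = ⊥ := Subalgebra.eq_bot_of_finrank_one (hd ▸ hd1)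
    obtain ⟨s, hs⟩ := Algebra.mem_bot.mp (hbot ▸ hgen a ha)
    exact ⟨s, fun v => by
      show Φ a v = s • v
      rw [← hs]; rfl⟩

/-- Groups without singular elements have data. -/
theorem data_of_nonSingular [Nontrivial V] [Group.IsSolvable G] (ρ : G →* (V ≃ₗ[ZMod p] V))
    (hρ : Function.Injective ρ) (hns : NonSingular ρ) : HasData ρ := by
  classical
  obtain ⟨A, -, hAmax⟩ := Finite.exists_le_maximal (α := Subgroup G)
    (p := fun A => A.Normal ∧ ∀ x ∈ A, ∀ y ∈ A, x * y = y * x) (a := ⊥)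
    ⟨inferInstance, fun x hx y hy => by rw [Subgroup.mem_bot.mp hx, Subgroup.mem_bot.mp hy]⟩
  obtain ⟨hAn, hA⟩ := hAmax.prop
  haveI := hAn
  have hmax : ∀ B : Subgroup G, B.Normal → (∀ a ∈ B, ∀ b ∈ B, a * b = b * a) → A ≤ B → B = A :=
    fun B hB hBc hAB => le_antisymm (hAmax.2 ⟨hB, hBc⟩ hAB) hAB
  obtain ⟨d, c, hd, hc, hn, hcyc, hAd, hidx, hbound, hscal⟩ := field_degree ρ hρ hns A hA
  haveI := hcyc
  obtain ⟨M, hMn, hP, hMC, hnd, hK, hs⟩ := exists_layer A hA hmax
  haveI := hMn
  set C := Subgroup.centralizer (A : Set G)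
  obtain ⟨e, he⟩ : ∃ k, A.relIndex M = k * k := by
    obtain ⟨k, hk⟩ := Huppert.exists_sq hP
    refine ⟨k, ?_⟩
    rw [← hk]
    congr 1
    exact le_antisymm (le_inf hP.le fun a ha => Subgroup.mem_centralizer_iff.mpr fun v hv => (hP.central a ha v hv).symm)
      fun u hu => hnd u hu.1 fun v hv => (Subgroup.mem_centralizer_iff.mp hu.2 v hv).symm
  have hec : e ≤ c := Nat.mul_self_le_mul_self_iff.mp (he ▸ hbound M hMC hP.comm hnd)
  have he1 : 1 ≤ e := by
    by_contra h
    rw [show e = 0 by omega] at he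
    exact Subgroup.index_ne_zero_of_finite (H := A.subgroupOf M) he
  have hCM := relIndex_le_spBound hP hMC hnd hK hs he
  have hA1 : A.index = A.relIndex M * M.relIndex C * C.index := by
    rw [Subgroup.relIndex_mul_relIndex A M C hP.le hMC, Subgroup.relIndex_mul_index (hP.le.trans hMC)]
  obtain ⟨v0, hv0⟩ := exists_ne (0 : V)
  have hC1 : d = 1 → C = ⊤ := fun h => by
    rw [← Subgroup.index_eq_one]
    have : C.index ≠ 0 := Subgroup.index_ne_zero_of_finite
    omega
  refine ⟨A, 1, d, e, 1, hAn, hA, le_rfl, hd, he1, ?_, by norm_num, by simpa using hidx, ?_,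
    ⟨fun _ => v0, fun _ => hv0, fun i j _ _ => Subsingleton.elim i j⟩, ?_, ?_, fun h => absurd h (by norm_num),
    fun R hRn hR => Or.inr ?_⟩
  · rw [mul_one, hn]; exact Nat.mul_le_mul_left _ hec
  · rw [hA1, he, pow_one, mul_one, pow_one, blockF, mul_comm d]
    exact Nat.mul_le_mul (Nat.mul_le_mul_left _ hCM) hidx
  · -- two orbits
    rintro rfl rfl rfl
    by_contra hno
    have htrans : ∀ v w : V, v ≠ 0 → w ≠ 0 → ∃ g : G, ρ g v = w := by
      intro v w hv hw
      by_contra hvw
      push Not at hvw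
      refine hno ⟨![v, w], fun i => by fin_cases i <;> assumption, fun i j g hg => ?_⟩
      fin_cases i <;> fin_cases j
      · rfl
      · exact absurd hg (hvw g)
      · exfalso
        refine hvw g⁻¹ ?_
        have h1 : ρ g w = v := hg
        rw [← h1, ← LinearEquiv.mul_apply, ← map_mul, inv_mul_cancel, map_one]; rfl
      · rfl
    let act : MulAction G V := MulAction.compHom V ρ
    letI := act
    have horb : MulAction.orbit G v0 = {0}ᶜ := by
      ext w
      rw [Set.mem_compl_singleton_iff]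
      constructor
      · rintro ⟨g, rfl⟩ h0
        exact hv0 ((ρ g).map_eq_zero_iff.mp h0)
      · intro hw
        obtain ⟨g, hg⟩ := htrans v0 w hv0 hw
        exact ⟨g, hg⟩
    have h1 := MulAction.index_stabilizer G v0
    rw [horb, Set.ncard_compl, Set.ncard_singleton, Module.natCard_eq_pow_finrank (K := ZMod 13) (V := V),
      Nat.card_zmod, hn, one_mul] at h1
    have hdvd : 13 ^ c - 1 ∣ Nat.card G := h1 ▸ Subgroup.index_dvd_card _
    have h6 : M.relIndex C ∣ 6 := Huppert.relIndex_dvd_six (by rw [he]) hMC hP.comm hK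
    have hG : Nat.card G ∣ 12 * (4 * 6) := by
      rw [← A.card_mul_index]
      refine Nat.mul_dvd_mul (by simpa using hAd) ?_
      rw [hA1, hC1 rfl, Subgroup.index_top, mul_one, he]
      exact Nat.mul_dvd_mul_left _ (hC1 rfl ▸ h6)
    have hle := Nat.le_of_dvd (by norm_num) (hdvd.trans hG)
    have hc2 : c = 2 := by
      by_contra h
      have : 13 ^ 3 ≤ 13 ^ c := Nat.pow_le_pow_right (by norm_num) (by omega)
      omega
    subst hc2
    have := hdvd.trans hG
    norm_num at this
  · rintro hV rfl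
    have hd1 : d = 1 := by
      rw [hV] at hn
      have : d * 2 ≤ d * c := Nat.mul_le_mul_left d hec
      omega
    have hCtop := hC1 hd1
    refine ⟨hscal hd1, M, hMn, hP.le, by rw [he], ?_, ?_, fun g hg => hK g (hCtop ▸ Subgroup.mem_top g) hg, hnd⟩
    · have h6 := Huppert.relIndex_dvd_six (by rw [he]) hMC hP.comm hK
      rw [show Subgroup.centralizer (A : Set G) = ⊤ from hCtop, Subgroup.relIndex_top_right] at h6
      exact h6
    · intro v hv
      have h4 : orderOf (v : G ⧸ A) ∣ 4 := by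
        have h0 : ((⟨v, hv⟩ : M) : M ⧸ A.subgroupOf M) ^ 4 = 1 := by
          rw [show 4 = Nat.card (M ⧸ A.subgroupOf M) by show 4 = A.relIndex M; rw [he]]
          exact pow_card_eq_one'
        rw [← QuotientGroup.mk_pow, QuotientGroup.eq_one_iff, Subgroup.mem_subgroupOf, SubgroupClass.coe_pow] at h0
        refine orderOf_dvd_of_pow_eq_one ?_
        rw [← QuotientGroup.mk_pow, QuotientGroup.eq_one_iff]
        exact h0
      have h2 : orderOf (v : G ⧸ A) ∣ 2 := by
        obtain ⟨i, hi, hi'⟩ := (Nat.dvd_prime_pow Nat.prime_two).mp (show orderOf (v : G ⧸ A) ∣ 2 ^ 2 from h4)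
        have : i ≤ 1 := by
          by_contra h
          exact Nat.prime_two.not_isUnit (hs v hv 2 (by rw [hi', show i = 2 by omega]; norm_num))
        rw [hi']
        exact (pow_dvd_pow 2 this).trans (by norm_num)
      rw [← QuotientGroup.eq_one_iff (N := A), QuotientGroup.mk_mul, ← pow_two]
      exact orderOf_dvd_iff_pow_eq_one.mp h2
  · -- normal subgroups of prime order lie in `A`
    haveI := hRn
    haveI := Fact.mk hR
    suffices hle : R ≤ A from (Subgroup.card_dvd_of_le hle).trans hAd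
    by_contra hRA
    have hdis : Disjoint R A := by
      rw [disjoint_iff]
      rcases (Nat.dvd_prime hR).mp (Subgroup.card_dvd_of_le (inf_le_left : R ⊓ A ≤ R)) with h | h
      · exact Subgroup.card_eq_one.mp h
      · exact absurd ((Subgroup.eq_of_le_of_card_ge inf_le_left h.ge).ge.trans inf_le_right) hRA
    have hcomm := fun x hx y hy => Subgroup.commute_of_normal_of_disjoint R A hRn hAn hdis x y hx hy
    haveI := isCyclic_of_prime_card (α := R) rfl
    letI := IsCyclic.commGroup (α := R)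
    refine hRA (le_sup_left.trans (hmax (R ⊔ A) inferInstance ?_ le_sup_right).le)
    have hcl : R ⊔ A = Subgroup.closure ((R : Set G) ∪ A) := by
      rw [Subgroup.closure_union, Subgroup.closure_eq, Subgroup.closure_eq]
    rw [hcl]
    intro a ha b hb
    refine congrArg Subtype.val (@mul_comm' _ _ (Subgroup.isMulCommutative_closure ?_) (⟨a, ha⟩ : Subgroup.closure _) ⟨b, hb⟩)
    rintro x (hx | hx) y (hy | hy)
    · exact congrArg Subtype.val (mul_comm (⟨x, hx⟩ : R) ⟨y, hy⟩)
    · exact (hcomm x hx y hy).eq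
    · exact (hcomm y hy x hx).eq.symm
    · exact hA x hx y hy

end Cfsg.Agent.SolvClassNum
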