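import Cfsg.Agent.EqLemmas
import Mathlib.GroupTheory.Solvable
import Mathlib.GroupTheory.QuotientGroup.Basic
import Mathlib.GroupTheory.GroupAction.ConjAct
import Mathlib.GroupTheory.Index
import Mathlib.Tactic

/-! Lower bounds for class numbers from normal subgroups. -/

set_option autoImplicit false
set_option linter.style.haveILetI false

namespace Cfsg.Agent.SolvClassNum

open Subgroup

variable {G : Type*} [Group G] [Finite G]

/-- The number of classes of `G` inside a set. -/
noncomputable def inN (N : Set G) : ℕ := (ConjClasses.mk '' N).ncard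

theorem inN_pos {N : Set G} (h : N.Nonempty) : 1 ≤ inN N :=
  Nat.one_le_iff_ne_zero.mpr fun h0 => (h.image ConjClasses.mk).ne_empty ((Set.ncard_eq_zero (Set.toFinite _)).mp h0)

theorem two_le_inN {N : Subgroup G} (h : N ≠ ⊥) : 2 ≤ inN (N : Set G) := by
  obtain ⟨x, hxN, hx⟩ := (bot_or_exists_ne_one N).resolve_left h
  have : 2 = ({ConjClasses.mk (1 : G), ConjClasses.mk x} : Set (ConjClasses G)).ncard := by
    rw [Set.ncard_pair]
    intro e
    obtain ⟨g, hg⟩ := isConj_iff.mp (ConjClasses.mk_eq_mk_iff_isConj.mp e)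
    exact hx (by rw [← hg]; group)
  rw [this]
  refine Set.ncard_le_ncard ?_ (Set.toFinite _)
  rintro _ (rfl | rfl)
  exacts [⟨1, one_mem N, rfl⟩, ⟨x, hxN, rfl⟩]

/-- Classes of the quotient and classes in the kernel. -/
theorem classes_quotient_add (N : Subgroup G) [N.Normal] :
    Nat.card (ConjClasses (G ⧸ N)) + inN (N : Set G) ≤ Nat.card (ConjClasses G) + 1 := by
  classical
  let f : ConjClasses G → ConjClasses (G ⧸ N) := ConjClasses.map (QuotientGroup.mk' N)
  have hf : Function.Surjective f := fun c => by
    obtain ⟨q, rfl⟩ := ConjClasses.mk_surjective c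
    obtain ⟨g, rfl⟩ := QuotientGroup.mk'_surjective N q
    exact ⟨ConjClasses.mk g, rfl⟩
  haveI := Fintype.ofFinite (ConjClasses G)
  haveI := Fintype.ofFinite (ConjClasses (G ⧸ N))
  have hcard := Finset.card_eq_sum_card_fiberwise (f := f) (s := (Finset.univ : Finset (ConjClasses G)))
    (t := Finset.univ) (fun _ _ => Finset.mem_univ _)
  rw [← Finset.add_sum_erase _ _ (Finset.mem_univ (ConjClasses.mk (1 : G ⧸ N)))] at hcard
  have h1 : inN (N : Set G) ≤ (Finset.univ.filter fun C => f C = ConjClasses.mk 1).card := by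
    rw [inN, ← Set.ncard_coe_finset]
    refine Set.ncard_le_ncard ?_ (Set.toFinite _)
    rintro _ ⟨n, hn, rfl⟩
    simp only [Finset.coe_filter, Finset.mem_univ, true_and, Set.mem_ofPred_eq]
    exact congrArg ConjClasses.mk ((QuotientGroup.eq_one_iff n).mpr hn)
  have h2 : ((Finset.univ : Finset (ConjClasses (G ⧸ N))).erase (ConjClasses.mk 1)).card ≤
      ∑ b ∈ (Finset.univ : Finset (ConjClasses (G ⧸ N))).erase (ConjClasses.mk 1),
        (Finset.univ.filter fun C => f C = b).card := by
    refine le_trans (le_of_eq (Finset.card_eq_sum_ones _)) (Finset.sum_le_sum fun b _ => ?_)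
    obtain ⟨C, hC⟩ := hf b
    exact Finset.card_pos.mpr ⟨C, by simp [hC]⟩
  rw [Finset.card_erase_of_mem (Finset.mem_univ _), Finset.card_univ] at h2
  rw [Finset.card_univ] at hcard
  rw [Nat.card_eq_fintype_card, Nat.card_eq_fintype_card]
  omega

/-- A set whose classes are all of size at most `d`. -/
theorem ncard_le_inN_mul {S : Set G} {d : ℕ}
    (hd : ∀ s ∈ S, (Subgroup.centralizer ({s} : Set G)).index ≤ d) : S.ncard ≤ inN S * d := by
  classical
  haveI := Fintype.ofFinite G
  have h := Finset.card_le_mul_card_image (f := ConjClasses.mk) S.toFinset d (fun b hb => by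
    obtain ⟨s, hs, rfl⟩ := Finset.mem_image.mp hb
    refine le_trans ?_ (hd s (Set.mem_toFinset.mp hs))
    rw [← Set.ncard_coe_finset]
    have h0 : (ConjClasses.mk s).carrier.ncard = (Subgroup.centralizer ({s} : Set G)).index := by
      have h2 := MulAction.index_stabilizer (ConjAct G) s
      rw [ConjAct.orbit_eq_carrier_conjClasses, ConjAct.stabilizer_eq_centralizer] at h2
      rw [← h2]
      rfl
    rw [← h0]
    refine Set.ncard_le_ncard ?_ (Set.toFinite _)
    intro x hx
    rw [Finset.coe_filter, Set.mem_ofPred_eq] at hx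
    exact ConjClasses.mem_carrier_iff_mk_eq.mpr hx.2)
  rw [mul_comm]
  have h3 : (Finset.image ConjClasses.mk S.toFinset).card = inN S := by
    rw [inN, ← Set.ncard_coe_finset, Finset.coe_image, Set.coe_toFinset]
  rw [h3, ← Set.ncard_eq_toFinset_card'] at h
  exact h

theorem index_centralizer_le (A : Subgroup G) {a : G} (ha : a ∈ A) :
    (Subgroup.centralizer ({a} : Set G)).index ≤ (Subgroup.centralizer (A : Set G)).index :=
  Nat.le_of_dvd (Nat.pos_of_ne_zero index_ne_zero_of_finite)
    (index_dvd_of_le (centralizer_le (Set.singleton_subset_iff.mpr ha)))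

/-- The elements of `A` need at least `|A| / [G : C(A)]` classes. -/
theorem card_le_inN_mul (A : Subgroup G) :
    Nat.card A ≤ inN (A : Set G) * (Subgroup.centralizer (A : Set G)).index := by
  refine le_of_eq_of_le ?_ (ncard_le_inN_mul (S := (A : Set G)) fun a ha => index_centralizer_le A ha)
  exact Nat.card_coe_set_eq (A : Set G)

/-- The nontrivial elements of `V` need at least `(|V| - 1) / [G : C(V)]` classes. -/
theorem card_sub_one_le_inN_mul (V : Subgroup G) :
    Nat.card V - 1 ≤ (inN (V : Set G) - 1) * (Subgroup.centralizer (V : Set G)).index := by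
  have h := ncard_le_inN_mul (S := (V : Set G) \ {1}) (d := (Subgroup.centralizer (V : Set G)).index)
    fun a ha => index_centralizer_le V ha.1
  rw [Set.ncard_sdiff_singleton_of_mem (one_mem V)] at h
  refine le_trans (le_of_eq ?_) (h.trans (Nat.mul_le_mul_right _ ?_))
  · rw [← Nat.card_coe_set_eq]; rfl
  · have hsub : ConjClasses.mk '' ((V : Set G) \ {1}) ⊆ (ConjClasses.mk '' (V : Set G)) \ {ConjClasses.mk 1} := by
      rintro _ ⟨v, ⟨hv, hv1⟩, rfl⟩
      refine ⟨⟨v, hv, rfl⟩, fun e => hv1 ?_⟩
      obtain ⟨g, hg⟩ := isConj_iff.mp (ConjClasses.mk_eq_mk_iff_isConj.mp (Set.mem_singleton_iff.mp e))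
      have e2 : v = g⁻¹ * (g * v * g⁻¹) * g := by group
      rw [Set.mem_singleton_iff, e2, hg]; group
    refine (Set.ncard_le_ncard hsub (Set.toFinite _)).trans (le_of_eq ?_)
    rw [Set.ncard_sdiff_singleton_of_mem (show ConjClasses.mk (1 : G) ∈ ConjClasses.mk '' (V : Set G) from ⟨1, one_mem V, rfl⟩), inN]

theorem classes_eq_card_of_comm (h : ∀ a b : G, a * b = b * a) :
    Nat.card (ConjClasses G) = Nat.card G := by
  refine (Nat.card_eq_of_bijective ConjClasses.mk ⟨fun a b e => ?_, ConjClasses.mk_surjective⟩).symm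
  obtain ⟨g, hg⟩ := isConj_iff.mp (ConjClasses.mk_eq_mk_iff_isConj.mp e)
  rw [← hg, h g a, mul_inv_cancel_right]

/-- A normal abelian subgroup of a solvable group, nontrivial and proper unless the group is abelian. -/
theorem exists_normal_abelian [Group.IsSolvable G] [Nontrivial G] :
    ∃ N : Subgroup G, N.Normal ∧ N ≠ ⊥ ∧ (∀ a ∈ N, ∀ b ∈ N, a * b = b * a) := by
  classical
  obtain ⟨n, hn⟩ := (Group.isSolvable_def G).mp inferInstance
  have hex : ∃ k, derivedSeries G k = ⊥ := ⟨n, hn⟩
  set k := Nat.find hex
  have hk := Nat.find_spec hex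
  have hk0 : k ≠ 0 := by
    intro h
    rw [show Nat.find hex = 0 from h, derivedSeries_zero] at hk
    exact top_ne_bot hk
  obtain ⟨j, hj⟩ : ∃ j, k = j + 1 := ⟨k - 1, by omega⟩
  refine ⟨derivedSeries G j, inferInstance, Nat.find_min hex (show j < k by omega), fun a ha b hb => ?_⟩
  rw [show Nat.find hex = j + 1 from hj, derivedSeries_succ] at hk
  exact (mem_centralizer_iff.mp (commutator_eq_bot_iff_le_centralizer.mp hk ha) b hb).symm

/-- A proper nontrivial quotient. -/
theorem quotient_data [Group.IsSolvable G] (hna : ¬ ∀ a b : G, a * b = b * a) :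
    ∃ (N : Subgroup G) (_ : N.Normal), N ≠ ⊥ ∧ N ≠ ⊤ ∧ (∀ a ∈ N, ∀ b ∈ N, a * b = b * a) := by
  haveI : Nontrivial G := by
    by_contra h
    rw [not_nontrivial_iff_subsingleton] at h
    exact hna fun a b => Subsingleton.elim _ _
  obtain ⟨N, hN, hN1, hc⟩ := exists_normal_abelian (G := G)
  exact ⟨N, hN, hN1, fun h => hna fun a b => hc a (h ▸ mem_top a) b (h ▸ mem_top b), hc⟩

theorem card_eq_index_mul (N : Subgroup G) : Nat.card G = Nat.card (G ⧸ N) * Nat.card N :=
  card_eq_card_quotient_mul_card_subgroup N

theorem card_centralizer_quot_dvd (N : Subgroup G) [N.Normal] (hc : ∀ a ∈ N, ∀ b ∈ N, a * b = b * a) :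
    (Subgroup.centralizer (N : Set G)).index ∣ Nat.card (G ⧸ N) :=
  index_dvd_of_le fun a ha => mem_centralizer_iff.mpr fun b hb => hc b hb a ha

theorem card_le_two_of_classes_le_two [Group.IsSolvable G] (h : Nat.card (ConjClasses G) ≤ 2) : Nat.card G ≤ 2 := by
  by_cases hab : ∀ a b : G, a * b = b * a
  · rwa [classes_eq_card_of_comm hab] at h
  obtain ⟨N, hN, h1, htop, -⟩ := quotient_data hab
  exfalso
  have h3 := classes_quotient_add N
  have h4 := two_le_inN h1
  haveI : Nontrivial (G ⧸ N) := QuotientGroup.nontrivial_iff.mpr htop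
  haveI : Nontrivial (ConjClasses (G ⧸ N)) := by
    obtain ⟨x, hx⟩ := exists_ne (1 : G ⧸ N)
    exact ⟨⟨ConjClasses.mk 1, ConjClasses.mk x, fun e => hx (by
      obtain ⟨g, hg⟩ := isConj_iff.mp (ConjClasses.mk_eq_mk_iff_isConj.mp e)
      rw [← hg]; group)⟩⟩
  have h5 := Finite.one_lt_card_iff_nontrivial.mpr (inferInstance : Nontrivial (ConjClasses (G ⧸ N)))
  omega

theorem card_le_six_of_classes_le_three [Group.IsSolvable G] (h : Nat.card (ConjClasses G) ≤ 3) : Nat.card G ≤ 6 := by
  by_cases hab : ∀ a b : G, a * b = b * a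
  · rw [classes_eq_card_of_comm hab] at h; omega
  obtain ⟨N, hN, h1, htop, hc⟩ := quotient_data hab
  have h3 := classes_quotient_add N
  have h4 := two_le_inN h1
  have hq := card_le_two_of_classes_le_two (G := G ⧸ N) (by omega)
  have h5 := card_sub_one_le_inN_mul N
  have h6 : (Subgroup.centralizer (N : Set G)).index ≤ 2 :=
    (Nat.le_of_dvd Nat.card_pos (card_centralizer_quot_dvd N hc)).trans hq
  have hq1 : 2 ≤ Nat.card (G ⧸ N) := Finite.one_lt_card_iff_nontrivial.mpr (QuotientGroup.nontrivial_iff.mpr htop)
  have hk2 : 2 ≤ Nat.card (ConjClasses (G ⧸ N)) := by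
    by_contra hk
    have := classes_eq_card_of_comm (G := G ⧸ N) (fun a b => by
      haveI : Fact (Nat.Prime 2) := ⟨Nat.prime_two⟩
      haveI := isCyclic_of_prime_card (show Nat.card (G ⧸ N) = 2 by omega)
      letI := IsCyclic.commGroup (α := G ⧸ N)
      exact mul_comm a b)
    omega
  have h7 : (inN (N : Set G) - 1) * (Subgroup.centralizer (N : Set G)).index ≤ 1 * 2 :=
    Nat.mul_le_mul (by omega) h6
  rw [card_eq_index_mul N]
  calc Nat.card (G ⧸ N) * Nat.card N ≤ 2 * 3 := Nat.mul_le_mul hq (by omega)
    _ = 6 := rfl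

/-- A solvable group with at most four classes has order at most twelve. -/
theorem card_le_twelve_of_classes_le_four [Group.IsSolvable G] (h : Nat.card (ConjClasses G) ≤ 4) :
    Nat.card G ≤ 12 := by
  classical
  by_cases hab : ∀ a b : G, a * b = b * a
  · rw [classes_eq_card_of_comm hab] at h; omega
  obtain ⟨N, hN, h1, htop, hc⟩ := quotient_data hab
  have h3 := classes_quotient_add N
  have h4 := two_le_inN h1
  have h5 := card_sub_one_le_inN_mul N
  have hqpos : 2 ≤ Nat.card (G ⧸ N) := Finite.one_lt_card_iff_nontrivial.mpr (QuotientGroup.nontrivial_iff.mpr htop)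
  have hcard := card_eq_index_mul N
  set d := (Subgroup.centralizer (N : Set G)).index with hd
  have hdq := card_centralizer_quot_dvd N hc
  by_cases hk2 : Nat.card (ConjClasses (G ⧸ N)) ≤ 2
  · have hq := card_le_two_of_classes_le_two (G := G ⧸ N) hk2
    have hk : Nat.card (ConjClasses (G ⧸ N)) = 2 := by
      have := classes_eq_card_of_comm (G := G ⧸ N) (fun a b => by
        haveI : Fact (Nat.Prime 2) := ⟨Nat.prime_two⟩
        haveI := isCyclic_of_prime_card (show Nat.card (G ⧸ N) = 2 by omega)
        letI := IsCyclic.commGroup (α := G ⧸ N)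
        exact mul_comm a b)
      omega
    have hd2 : d ≤ 2 := (Nat.le_of_dvd Nat.card_pos hdq).trans hq
    have h7 : (inN (N : Set G) - 1) * d ≤ 2 * 2 := Nat.mul_le_mul (by omega) hd2
    calc Nat.card G ≤ 2 * 5 := hcard.le.trans (Nat.mul_le_mul hq (by omega))
      _ ≤ 12 := by norm_num
  have hkq : Nat.card (ConjClasses (G ⧸ N)) = 3 := by omega
  have hin : inN (N : Set G) = 2 := by omega
  have hq6 := card_le_six_of_classes_le_three (G := G ⧸ N) (by omega)
  rw [hin] at h5
  simp only [Nat.add_one_sub_one, one_mul] at h5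
  by_contra hbig
  -- the image is a group of order six with three classes
  have hq : Nat.card (G ⧸ N) = 6 := by
    by_contra hne
    have hd0 := Nat.le_of_dvd Nat.card_pos hdq
    have hN5 : Nat.card N ≤ Nat.card (G ⧸ N) + 1 := by omega
    obtain h | h | h | h : Nat.card (G ⧸ N) = 2 ∨ Nat.card (G ⧸ N) = 3 ∨ Nat.card (G ⧸ N) = 4 ∨
        Nat.card (G ⧸ N) = 5 := by omega
    · rw [h] at hcard hN5; omega
    · rw [h] at hcard hN5; omega
    all_goals
      have := classes_eq_card_of_comm (G := G ⧸ N) (fun a b => by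
        first
        | (haveI : Fact (Nat.Prime 2) := ⟨Nat.prime_two⟩
           exact IsPGroup.commutative_of_card_eq_prime_sq (p := 2) (by simpa using h) a b)
        | (haveI : Fact (Nat.Prime 5) := ⟨by norm_num⟩
           haveI := isCyclic_of_prime_card h
           letI := IsCyclic.commGroup (α := G ⧸ N)
           exact mul_comm a b))
      omega
  have hnc : ¬ ∀ a b : G ⧸ N, a * b = b * a := fun hcm => by
    have := classes_eq_card_of_comm hcm
    omega
  set C := Subgroup.centralizer (N : Set G)
  have hNC : N ≤ C := fun a ha => mem_centralizer_iff.mpr fun b hb => hc b hb a ha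
  by_cases hCN : C = N
  · -- faithful action of the noncommutative quotient
    have hd6 : d = 6 := by
      rw [hd, hCN, index_eq_card, hq]
    have hN7 : Nat.card N ≤ 7 := by omega
    have hN3 : 3 ≤ Nat.card N := by rw [hq] at hcard; omega
    -- the classes inside `N`
    have hone : ∀ a ∈ N, a ≠ 1 → ∀ b ∈ N, b ≠ 1 → ∃ g : G, g * a * g⁻¹ = b := by
      intro a ha ha1 b hb hb1
      refine isConj_iff.mp (ConjClasses.mk_eq_mk_iff_isConj.mp ?_)
      by_contra hne
      have hsub : ({ConjClasses.mk (1 : G), ConjClasses.mk a, ConjClasses.mk b} : Set (ConjClasses G)) ⊆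
          ConjClasses.mk '' (N : Set G) := by
        rintro _ (rfl | rfl | rfl)
        exacts [⟨1, one_mem N, rfl⟩, ⟨a, ha, rfl⟩, ⟨b, hb, rfl⟩]
      have hone1 : ∀ x : G, ConjClasses.mk (1 : G) = ConjClasses.mk x → x = 1 := fun x e => by
        obtain ⟨g, hg⟩ := isConj_iff.mp (ConjClasses.mk_eq_mk_iff_isConj.mp e)
        rw [← hg]; group
      have h3' := Set.ncard_le_ncard hsub (Set.toFinite _)
      rw [Set.ncard_eq_three.mpr ⟨_, _, _, fun e => ha1 (hone1 a e), fun e => hb1 (hone1 b e), hne, rfl⟩] at h3'
      rw [inN] at hin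
      omega
    obtain ⟨x0, hx0N, hx0⟩ := (bot_or_exists_ne_one N).resolve_left h1
    -- all orders in `N` are one prime
    obtain ⟨r, hr, hrN⟩ := Nat.exists_prime_and_dvd (show Nat.card N ≠ 1 by omega)
    haveI := Fact.mk hr
    have hexp : ∀ a ∈ N, a ^ r = 1 := by
      obtain ⟨c, hc'⟩ := exists_prime_orderOf_dvd_card' (G := N) r hrN
      intro a ha
      by_cases ha1 : a = 1
      · rw [ha1, one_pow]
      have hc1 : (c : G) ≠ 1 := fun e => by
        rw [← orderOf_coe, e, orderOf_one] at hc'
        exact hr.ne_one hc'.symm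
      obtain ⟨g, rfl⟩ := hone c c.2 hc1 a ha ha1
      rw [conj_pow, ← hc', ← orderOf_coe, pow_orderOf_eq_one, mul_one, mul_inv_cancel]
    obtain ⟨j, hj⟩ := IsPGroup.iff_card.mp (show IsPGroup r N from fun a => ⟨1, Subtype.ext (by
      rw [pow_one, SubgroupClass.coe_pow]; exact hexp a a.2)⟩)
    have hdvd6 : Nat.card N - 1 ∣ 6 := by
      have horb : MulAction.orbit (ConjAct G) x0 = (N : Set G) \ {1} := by
        ext w
        constructor
        · rintro ⟨g, rfl⟩
          show ConjAct.ofConjAct g * x0 * (ConjAct.ofConjAct g)⁻¹ ∈ _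
          exact ⟨hN.conj_mem x0 hx0N _, fun e => hx0 (conj_eq_one_iff.mp e)⟩
        · rintro ⟨hw, hw1⟩
          obtain ⟨g, hg⟩ := hone x0 hx0N hx0 w hw hw1
          exact ⟨ConjAct.toConjAct g, hg⟩
      have h2 := MulAction.index_stabilizer (ConjAct G) x0
      rw [horb, ConjAct.stabilizer_eq_centralizer, Set.ncard_sdiff_singleton_of_mem (one_mem N)] at h2
      have h3'' : (Subgroup.centralizer ({x0} : Set G)).index = Nat.card N - 1 := by
        rw [← Nat.card_coe_set_eq] at h2; exact h2
      rw [← h3'', ← hd6, hd]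
      exact index_dvd_of_le (centralizer_le (Set.singleton_subset_iff.mpr hx0N))
    -- the action on `N`
    let φ : G →* MulAut N := MulAut.conjNormal
    have hker : φ.ker = N := by
      refine Eq.trans ?_ hCN
      ext g
      rw [MonoidHom.mem_ker, mem_centralizer_iff]
      constructor
      · intro e b hb
        have := congrArg Subtype.val (DFunLike.congr_fun e ⟨b, hb⟩)
        simp only [φ, MulAut.conjNormal_apply, MulAut.one_apply] at this
        exact (mul_inv_eq_iff_eq_mul.mp this).symm
      · intro e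
        refine MulEquiv.ext fun b => Subtype.ext ?_
        simp only [φ, MulAut.conjNormal_apply, MulAut.one_apply]
        rw [← e b b.2, mul_inv_cancel_right]
    have hcyc : ¬ IsCyclic N := by
      intro hcy
      refine hnc fun a b => ?_
      induction a using QuotientGroup.induction_on with
      | _ a =>
        induction b using QuotientGroup.induction_on with
        | _ b =>
          rw [← QuotientGroup.mk_mul, ← QuotientGroup.mk_mul, QuotientGroup.eq, ← hker, MonoidHom.mem_ker]
          letI := IsCyclic.commGroup (α := N)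
          obtain ⟨ea, hea⟩ := MonoidHom.map_cyclic (φ a).toMonoidHom
          obtain ⟨eb, heb⟩ := MonoidHom.map_cyclic (φ b).toMonoidHom
          have hcm : φ a * φ b = φ b * φ a := MulEquiv.ext fun x => by
            simp only [MulAut.mul_apply]
            rw [show φ a (φ b x) = (φ b x) ^ ea from hea _, show φ b (φ a x) = (φ a x) ^ eb from heb _,
              show φ b x = x ^ eb from heb _, show φ a x = x ^ ea from hea _, ← zpow_mul, ← zpow_mul, mul_comm]
          simp only [map_mul, map_inv]
          rw [hcm, inv_mul_cancel]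
    have hj2 : 2 ≤ j := by
      by_contra hj2
      interval_cases j
      · rw [pow_zero] at hj; omega
      · rw [pow_one] at hj
        exact hcyc (isCyclic_of_prime_card hj)
    have hN4 : Nat.card N = 4 := by
      have : 2 ^ j ≤ r ^ j := Nat.pow_le_pow_left hr.two_le j
      have h44 : Nat.card N = 4 ∨ Nat.card N = 7 ∨ Nat.card N = 3 := by
        interval_cases hn : Nat.card N <;> norm_num at hdvd6 <;> omega
      rcases h44 with h | h | h
      · exact h
      all_goals
        exfalso
        have hdiv : r ^ 2 ∣ Nat.card N := hj ▸ pow_dvd_pow r hj2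
        have hle := Nat.le_of_dvd Nat.card_pos hdiv
        have hr2 : r = 2 := by
          by_contra hr2
          have : 3 * 3 ≤ r ^ 2 := by
            rw [pow_two]; exact Nat.mul_le_mul (by have := hr.two_le; omega) (by have := hr.two_le; omega)
          omega
        rw [hr2, h] at hdiv
        norm_num at hdiv
    have hr2 : r = 2 := by
      have h1' : r ∣ 4 := hN4 ▸ hrN
      have := (Nat.prime_dvd_prime_iff_eq hr Nat.prime_two).mp (hr.dvd_of_dvd_pow (show r ∣ 2 ^ 2 from h1'))
      exact this
    subst hr2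
    haveI : Fact (Nat.Prime 2) := ⟨Nat.prime_two⟩
    obtain ⟨t', ht'⟩ := exists_prime_orderOf_dvd_card' (G := G ⧸ N) 2 (by rw [hq]; norm_num)
    obtain ⟨t, rfl⟩ := QuotientGroup.mk_surjective t'
    have htN : t ∉ N := fun htN => by
      rw [(QuotientGroup.eq_one_iff t).mpr htN, orderOf_one] at ht'
      norm_num at ht'
    have htC : t ∉ C := hCN ▸ htN
    have ht2 : t * t ∈ N := by
      have := pow_orderOf_eq_one (t : G ⧸ N)
      rw [ht', pow_two, ← QuotientGroup.mk_mul, QuotientGroup.eq_one_iff] at this
      exact this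
    obtain ⟨v, hv, hvt⟩ : ∃ v ∈ N, v * t ≠ t * v := by
      by_contra hcon
      push Not at hcon
      exact htC (mem_centralizer_iff.mpr hcon)
    have hvv : ∀ a ∈ N, a * a = 1 := fun a ha => by rw [← pow_two]; exact hexp a ha
    -- two elements over `t` with different squares, one of them trivial
    have hsplit : ∃ u u' : G, (u : G ⧸ N) = t ∧ (u' : G ⧸ N) = t ∧ u * u = 1 ∧ u' * u' ≠ 1 := by
      by_cases ht1 : t * t = 1
      · refine ⟨t, t * v, rfl, QuotientGroup.mk_mul_of_mem _ hv, ht1, fun e => hvt ?_⟩
        have e1 : v * t = t⁻¹ * (t * v * (t * v)) * v⁻¹ := by group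
        rw [e1, e, mul_one, inv_eq_of_mul_eq_one_right ht1, inv_eq_of_mul_eq_one_right (hvv v hv)]
      · -- `t² = [t, v]`
        set w := t⁻¹ * v * t * v with hw
        have hwN : w ∈ N := mul_mem (by simpa using hN.conj_mem v hv t⁻¹) hv
        have hw1 : w ≠ 1 := fun e => hvt (by
          have e2 : v * t = t * (t⁻¹ * v * t * v) * v⁻¹ := by group
          rw [e2, ← hw, e, mul_one, inv_eq_of_mul_eq_one_right (hvv v hv)])
        refine ⟨t * v, t, QuotientGroup.mk_mul_of_mem _ hv, rfl, ?_, ht1⟩
        have e : t * v * (t * v) = t * t * w := by rw [hw]; group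
        rw [e]
        have hfix_t : t * (t * t) = (t * t) * t := (mul_assoc t t t).symm
        by_contra hne
        -- `t²`, `w` are distinct fixed points of `t`
        have hwfix : t * w = w * t := by
          have hvtN : t⁻¹ * v * t ∈ N := by simpa using hN.conj_mem v hv t⁻¹
          have e4 : t⁻¹ * (t⁻¹ * v * t) * t = v := by
            have e5 : t⁻¹ * (t⁻¹ * v * t) * t = (t * t)⁻¹ * v * (t * t) := by group
            rw [e5, mul_assoc, hc v hv _ ht2, ← mul_assoc, inv_mul_cancel, one_mul]
          have e6 : t⁻¹ * w * t = w := by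
            calc t⁻¹ * w * t = (t⁻¹ * (t⁻¹ * v * t) * t) * (t⁻¹ * v * t) := by rw [hw]; group
              _ = v * (t⁻¹ * v * t) := by rw [e4]
              _ = (t⁻¹ * v * t) * v := hc v hv _ hvtN
              _ = w := rfl
          calc t * w = t * (t⁻¹ * w * t) := by rw [e6]
            _ = _ := by group
        have hfour : (N : Set G) = {1, t * t, w, v} := by
          refine (Set.eq_of_subset_of_ncard_le ?_ ?_ (Set.toFinite _)).symm
          · rintro x (rfl | rfl | rfl | rfl)
            exacts [one_mem N, ht2, hwN, hv]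
          · have hNc : (N : Set G).ncard = 4 := by rw [← Nat.card_coe_set_eq]; exact hN4
            rw [hNc]
            have hd1 : (1 : G) ≠ t * t := fun e => ht1 e.symm
            have hd2 : (1 : G) ≠ w := fun e => hw1 e.symm
            have hd3 : (1 : G) ≠ v := fun e => hvt (by rw [← e]; simp)
            have hd4 : t * t ≠ w := fun e => hne (by rw [← e]; exact hvv _ ht2)
            have hd5 : t * t ≠ v := fun e => hvt (by rw [← e]; exact hfix_t.symm)
            have hd6 : w ≠ v := fun e => hvt (by rw [← e]; exact hwfix.symm)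
            rw [Set.ncard_insert_of_notMem (by simp [hd1, hd2, hd3]),
              Set.ncard_insert_of_notMem (by simp [hd4, hd5]), Set.ncard_pair hd6]
        -- their product is a fixed point too
        have hp : t * t * w ∈ (N : Set G) := mul_mem ht2 hwN
        rw [hfour] at hp
        rcases hp with hp | hp | hp | hp
        · exact hne hp
        · exact hw1 (mul_left_cancel (hp.trans (mul_one _).symm))
        · exact ht1 (mul_right_cancel (hp.trans (one_mul _).symm))
        · refine hvt ?_
          have hp' : t * t * w = v := hp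
          rw [← hp']
          calc t * t * w * t = t * t * (t * w) := by rw [hwfix]; group
            _ = t * (t * t * w) := by group
    obtain ⟨u, u', hu, hu', h1u, h1u'⟩ := hsplit
    obtain ⟨y', hy'⟩ := exists_prime_orderOf_dvd_card' (G := G ⧸ N) (p := 3) (hp := ⟨Nat.prime_three⟩)
      (by rw [hq]; norm_num)
    obtain ⟨y, rfl⟩ := QuotientGroup.mk_surjective y'
    -- five classes
    have hfive : 5 ≤ Nat.card (ConjClasses G) := by
      have key : ∀ a b : G, ConjClasses.mk a = ConjClasses.mk b → orderOf (a : G ⧸ N) = orderOf (b : G ⧸ N) := by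
        intro a b e
        have h' : IsConj (a : G ⧸ N) (b : G ⧸ N) :=
          MonoidHom.map_isConj (QuotientGroup.mk' N) (ConjClasses.mk_eq_mk_iff_isConj.mp e)
        obtain ⟨c, hc'⟩ := isConj_iff.mp h'
        rw [← hc', orderOf_injective (MulAut.conj c).toMonoidHom (MulAut.conj c).injective (a : G ⧸ N) |>.symm]
        rfl
      have hu1 : orderOf (u : G ⧸ N) = 2 := by rw [hu, ht']
      have hu1' : orderOf (u' : G ⧸ N) = 2 := by rw [hu', ht']
      have hu0 : orderOf ((1 : G) : G ⧸ N) = 1 := orderOf_one
      have hx0' : orderOf (x0 : G ⧸ N) = 1 := by rw [(QuotientGroup.eq_one_iff x0).mpr hx0N, orderOf_one]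
      have hne12 : ConjClasses.mk (1 : G) ≠ ConjClasses.mk x0 := fun e => hx0 (by
        obtain ⟨g, hg⟩ := isConj_iff.mp (ConjClasses.mk_eq_mk_iff_isConj.mp e)
        rw [← hg]; group)
      have hne45 : ConjClasses.mk u ≠ ConjClasses.mk u' := fun e => h1u' (by
        obtain ⟨g, hg⟩ := isConj_iff.mp (ConjClasses.mk_eq_mk_iff_isConj.mp e)
        rw [← hg, show g * u * g⁻¹ * (g * u * g⁻¹) = g * (u * u) * g⁻¹ by group, h1u, mul_one, mul_inv_cancel])
      have hinj : Function.Injective ![ConjClasses.mk (1 : G), ConjClasses.mk x0, ConjClasses.mk y,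
          ConjClasses.mk u, ConjClasses.mk u'] := by
        intro i k hik
        fin_cases i <;> fin_cases k <;> first | rfl | (exfalso; simp at hik) <;>
          first
          | exact hne12 hik | exact hne12 hik.symm | exact hne45 hik | exact hne45 hik.symm
          | (have := key _ _ hik; simp only [hu1, hu1', hu0, hx0', hy'] at this; omega)
      have := Nat.card_le_card_of_injective _ hinj
      rwa [Nat.card_eq_fintype_card, Fintype.card_fin] at this
    omega
  · -- a bigger abelian centraliser
    have hCne : C ≠ N := hCN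
    have hdlt : d ≤ 3 := by
      obtain ⟨c, hc'⟩ := hdq
      rw [hq] at hc'
      have hne6 : d ≠ 6 := by
        intro h6
        refine hCne (le_antisymm ?_ hNC)
        have h' := relIndex_mul_index hNC
        rw [← hd, h6, show N.index = 6 by rw [index_eq_card, hq]] at h'
        exact relIndex_eq_one.mp (by omega)
      have hdv : d ∣ 6 := ⟨c, hc'⟩
      have hle6 := Nat.le_of_dvd (by norm_num) hdv
      interval_cases d <;> omega
    have hN3 : Nat.card N = 3 ∨ Nat.card N = 4 := by rw [hq] at hcard; omega
    have hd2 : d ≠ 3 := by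
      -- the quotient has no quotient of order three
      intro h3'
      have hCidx : C.index = 3 := h3'
      have hCn : C.Normal := by
        haveI := hN
        exact inferInstance
      haveI : Fact (Nat.Prime 3) := ⟨Nat.prime_three⟩
      haveI := isCyclic_of_prime_card (show Nat.card (G ⧸ C) = 3 by rw [← index_eq_card, hCidx])
      refine hnc ?_
      exfalso
      let π : G ⧸ N →* G ⧸ C := QuotientGroup.map N C (MonoidHom.id G) (fun x hx => hNC hx)
      have hsur : Function.Surjective (ConjClasses.map π) := fun c => by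
        obtain ⟨q, rfl⟩ := ConjClasses.mk_surjective c
        induction q using QuotientGroup.induction_on with
        | _ g => exact ⟨ConjClasses.mk (g : G ⧸ N), rfl⟩
      letI := IsCyclic.commGroup (α := G ⧸ C)
      have hk3 : Nat.card (ConjClasses (G ⧸ C)) = 3 := by
        rw [classes_eq_card_of_comm (fun a b => mul_comm a b), ← index_eq_card, hCidx]
      -- a bijection on classes, so `C / N` has one class
      haveI := Fintype.ofFinite (ConjClasses (G ⧸ N))
      haveI := Fintype.ofFinite (ConjClasses (G ⧸ C))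
      have hbij := (Fintype.bijective_iff_surjective_and_card (ConjClasses.map π)).mpr ⟨hsur, by
        rw [← Nat.card_eq_fintype_card, ← Nat.card_eq_fintype_card, hk3, hkq]⟩
      refine hCne (le_antisymm (fun x hx => ?_) hNC)
      rw [← QuotientGroup.eq_one_iff]
      have e : ConjClasses.map π (ConjClasses.mk (x : G ⧸ N)) = ConjClasses.map π (ConjClasses.mk 1) :=
        congrArg ConjClasses.mk ((QuotientGroup.eq_one_iff (N := C) x).mpr hx)
      obtain ⟨g, hg⟩ := isConj_iff.mp (ConjClasses.mk_eq_mk_iff_isConj.mp (hbij.1 e).symm)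
      rw [← hg]; group
    have hN' : Nat.card N = 3 := by omega
    have hC9 : Nat.card C = 9 := by
      have hd2' : d = 2 := by omega
      have := C.card_mul_index
      rw [← hd, hd2', hcard, hq, hN'] at this
      omega
    haveI : Fact (Nat.Prime 3) := ⟨Nat.prime_three⟩
    have hCc : ∀ a ∈ C, ∀ b ∈ C, a * b = b * a := fun a ha b hb =>
      congrArg Subtype.val (IsPGroup.commutative_of_card_eq_prime_sq (p := 3) (by rw [hC9]; norm_num) (⟨a, ha⟩ : C) ⟨b, hb⟩)
    have h8 := card_sub_one_le_inN_mul C
    have hd' : (Subgroup.centralizer (C : Set G)).index ≤ 2 := by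
      have : C ≤ Subgroup.centralizer (C : Set G) := fun a ha => mem_centralizer_iff.mpr fun b hb => hCc b hb a ha
      exact (Nat.le_of_dvd (by omega) (index_dvd_of_le this)).trans (by omega)
    rw [hC9] at h8
    have h9 := Nat.mul_le_mul_left (inN (C : Set G) - 1) hd'
    haveI : C.Normal := inferInstance
    have h10 := classes_quotient_add C
    haveI : Nontrivial (G ⧸ C) := QuotientGroup.nontrivial_iff.mpr fun e => by
      rw [e, Subgroup.card_top, hcard, hq, hN'] at hC9
      omega
    haveI : Nonempty (ConjClasses (G ⧸ C)) := ⟨ConjClasses.mk 1⟩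
    have h11 : 1 ≤ Nat.card (ConjClasses (G ⧸ C)) := Nat.card_pos
    omega

/-- A solvable group of order above twelve has five classes. -/
theorem five_le_classes [Group.IsSolvable G] (h : 12 < Nat.card G) : 5 ≤ Nat.card (ConjClasses G) := by
  by_contra h5
  have := card_le_twelve_of_classes_le_four (G := G) (by omega)
  omega

end Cfsg.Agent.SolvClassNum
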