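import Cfsg.Agent.Lib.SolvClassNum.Defs

/-! Blocks of imprimitivity from idempotents. -/

set_option autoImplicit false
set_option linter.style.haveILetI false

namespace Cfsg.Agent.SolvClassNum

open Nearfield

variable {p : ℕ} [Fact p.Prime] {G V : Type} [Group G] [Finite G] [AddCommGroup V] [Module (ZMod p) V] [Finite V]

/-- A system of blocks, given by orthogonal idempotents permuted transitively. -/
structure BlockSys (ρ : G →* (V ≃ₗ[ZMod p] V)) where
  O : Finset (Module.End (ZMod p) V)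
  two : 2 ≤ O.card
  conj : ∀ g : G, ∀ x ∈ O, toEnd ρ g * x * toEnd ρ g⁻¹ ∈ O
  trans : ∀ x ∈ O, ∀ y ∈ O, ∃ g : G, toEnd ρ g * x * toEnd ρ g⁻¹ = y
  idem : ∀ x ∈ O, x * x = x
  ne : ∀ x ∈ O, x ≠ 0
  orth : ∀ x ∈ O, ∀ y ∈ O, x ≠ y → x * y = 0
  sum : ∑ x ∈ O, x = 1

/-- Some power of an element of a finite monoid is idempotent. -/
theorem exists_idem_pow {M : Type*} [Monoid M] [Finite M] (x : M) : ∃ k, 1 ≤ k ∧ x ^ k * x ^ k = x ^ k := by
  obtain ⟨a, b, hne, he⟩ := Finite.exists_ne_map_eq_of_infinite (fun k : ℕ => x ^ (k + 1))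
  wlog h : a < b generalizing a b
  · exact this b a hne.symm he.symm (by omega)
  set d := b - a
  have hper : ∀ i j, a + 1 ≤ i → x ^ (i + j * d) = x ^ i := by
    intro i j hi
    induction j with
    | zero => rw [zero_mul, add_zero]
    | succ j ih =>
      have e1 : x ^ (i + d) = x ^ i := by
        rw [show i + d = (i - (a + 1)) + (b + 1) by omega, pow_add, ← he, ← pow_add]
        congr 1
        omega
      rw [show i + (j + 1) * d = i + d + j * d by ring, pow_add, e1, ← pow_add, ih]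
  refine ⟨(a + 1) * d, Nat.mul_pos (by omega) (by omega), ?_⟩
  rw [← pow_add]
  exact hper _ (a + 1) (Nat.le_mul_of_pos_right _ (by omega))

/-- A singular element of the algebra of a normal abelian subgroup gives blocks. -/
theorem exists_blockSys {ρ : G →* (V ≃ₗ[ZMod p] V)} (hirr : IrrRep ρ) [Nontrivial V] (A : Subgroup G) [A.Normal]
    (hA : ∀ x ∈ A, ∀ y ∈ A, x * y = y * x) {x : Module.End (ZMod p) V}
    (hx : x ∈ Algebra.adjoin (ZMod p) (toEnd ρ '' (A : Set G))) {v : V} (hv : v ≠ 0) (hxv : x v = 0) (hx0 : x ≠ 0) :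
    Nonempty (BlockSys ρ) := by
  classical
  haveI : Finite (Module.End (ZMod p) V) := Finite.of_injective (fun f : Module.End (ZMod p) V => (f : V → V))
    DFunLike.coe_injective
  haveI := Fintype.ofFinite (Module.End (ZMod p) V)
  set E := Algebra.adjoin (ZMod p) (toEnd ρ '' (A : Set G))
  have hcomm := adjoin_comm ρ A hA
  have hconj := fun g => adjoin_conj ρ A g
  set c : G → Module.End (ZMod p) V → Module.End (ZMod p) V := fun g y => toEnd ρ g * y * toEnd ρ g⁻¹ with hc
  have hcmul : ∀ g y z, c g (y * z) = c g y * c g z := fun g y z => by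
    simp only [hc]
    calc _ = toEnd ρ g * y * (toEnd ρ g⁻¹ * toEnd ρ g) * z * toEnd ρ g⁻¹ := by
          rw [toEnd_cancel, mul_one]; simp only [mul_assoc]
      _ = _ := by simp only [mul_assoc]
  have hccomp : ∀ g k y, c g (c k y) = c (g * k) y := fun g k y => by
    simp only [hc, mul_inv_rev, map_mul, mul_assoc]
  have hcone : ∀ y, c 1 y = y := fun y => by simp only [hc, inv_one, map_one, one_mul, mul_one]
  have hcinj : ∀ g y z, c g y = c g z → y = z := fun g y z h => by
    have := congrArg (c g⁻¹) h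
    rwa [hccomp, hccomp, inv_mul_cancel, hcone, hcone] at this
  have hc0 : ∀ g, c g 0 = 0 := fun g => by simp [hc]
  -- no nilpotent element
  have hnil : ∀ y ∈ E, ∀ k : ℕ, y ^ k = 0 → y = 0 := by
    intro y hy k hk
    set S := (Finset.univ : Finset (Module.End (ZMod p) V)).filter fun z => z ∈ E ∧ ∃ k : ℕ, z ^ k = 0
    -- a common kernel
    have hker : ∀ T : Finset (Module.End (ZMod p) V), T ⊆ S → ∃ u : V, u ≠ 0 ∧ ∀ z ∈ T, z u = 0 := by
      intro T
      induction T using Finset.induction_on with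
      | empty => exact fun _ => ⟨v, hv, by simp⟩
      | @insert z T hz ih =>
        intro hT
        obtain ⟨u, hu, hTu⟩ := ih ((Finset.subset_insert _ _).trans hT)
        obtain ⟨hzE, k, hzk⟩ := (Finset.mem_filter.mp (hT (Finset.mem_insert_self _ _))).2
        have hex : ∃ i, (z ^ i) u = 0 := ⟨k, by rw [hzk]; rfl⟩
        set i := Nat.find hex with hi
        have hi0 : i ≠ 0 := fun h0 => hu (by
          have := Nat.find_spec hex
          rw [show Nat.find hex = 0 from h0, pow_zero] at this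
          simpa using this)
        refine ⟨(z ^ (i - 1)) u, Nat.find_min hex (by omega), fun w hw => ?_⟩
        rcases Finset.mem_insert.mp hw with rfl | hw
        · have := Nat.find_spec hex
          rw [← hi, show i = i - 1 + 1 by omega, pow_succ'] at this
          exact this
        · have hwE := (Finset.mem_filter.mp ((Finset.subset_insert _ _).trans hT hw)).2.1
          rw [← Module.End.mul_apply, hcomm w hwE _ (pow_mem hzE _), Module.End.mul_apply, hTu w hw, map_zero]
    obtain ⟨u, hu, hSu⟩ := hker S subset_rfl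
    let U : Submodule (ZMod p) V := ⨅ z ∈ S, LinearMap.ker z
    have hmem : ∀ w, w ∈ U ↔ ∀ z ∈ S, z w = 0 := fun w => by simp [U]
    have hinv : ∀ g : G, ∀ w ∈ U, ρ g w ∈ U := by
      intro g w hw
      rw [hmem] at hw ⊢
      intro z hz
      obtain ⟨hzE, k, hzk⟩ := (Finset.mem_filter.mp hz).2
      have hz' : c g⁻¹ z ∈ S := by
        refine Finset.mem_filter.mpr ⟨Finset.mem_univ _, hconj g⁻¹ z hzE, k, ?_⟩
        rcases Nat.eq_zero_or_pos k with rfl | hk0
        · rw [pow_zero] at hzk ⊢; exact hzk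
        have hpow : ∀ i, 1 ≤ i → (c g⁻¹ z) ^ i = c g⁻¹ (z ^ i) := by
          intro i hi
          induction i, hi using Nat.le_induction with
          | base => rw [pow_one, pow_one]
          | succ i hi ih => rw [pow_succ, pow_succ, hcmul, ih]
        rw [hpow k hk0, hzk, hc0]
      have h1 := hw _ hz'
      simp only [hc, inv_inv, Module.End.mul_apply, toEnd_apply] at h1
      exact (ρ g⁻¹).map_eq_zero_iff.mp h1
    rcases hirr U hinv with hU | hU
    · exact absurd ((Submodule.mem_bot (ZMod p)).mp (hU ▸ (hmem u).mpr hSu)) hu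
    · refine LinearMap.ext fun w => ?_
      have hwU : w ∈ U := hU ▸ Submodule.mem_top
      exact (hmem w).mp hwU y (Finset.mem_filter.mpr ⟨Finset.mem_univ _, hy, k, hk⟩)
  -- a minimal idempotent
  obtain ⟨k, hk, hidem⟩ := exists_idem_pow x
  set P := (Finset.univ : Finset (Module.End (ZMod p) V)).filter fun z => z ∈ E ∧ z * z = z ∧ z ≠ 0 ∧ z ≠ 1
  have hP : x ^ k ∈ P := by
    refine Finset.mem_filter.mpr ⟨Finset.mem_univ _, pow_mem hx k, hidem, fun h => hx0 (hnil x hx k h), fun h => hv ?_⟩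
    have h1 : (x ^ k) v = 0 := by
      rw [show k = k - 1 + 1 by omega, pow_succ, Module.End.mul_apply, hxv, map_zero]
    rwa [h, Module.End.one_apply] at h1
  let range' : Module.End (ZMod p) V → Submodule (ZMod p) V := LinearMap.range
  obtain ⟨ε, hεP, hεmin⟩ : ∃ ε ∈ P, ∀ z ∈ P, ¬ range' z < range' ε := by
    haveI : WellFoundedLT (Submodule (ZMod p) V) := inferInstance
    obtain ⟨W, ⟨ε, hε, rfl⟩, hmin⟩ := (wellFounded_lt (α := Submodule (ZMod p) V)).has_min
      (range' '' (P : Set (Module.End (ZMod p) V))) ⟨_, _, hP, rfl⟩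
    exact ⟨ε, hε, fun z hz => hmin _ ⟨z, hz, rfl⟩⟩
  obtain ⟨-, hεE, hεi, hε0, hε1⟩ := Finset.mem_filter.mp hεP
  have hmemc : ∀ g z, z ∈ P → c g z ∈ P := by
    intro g z hz
    obtain ⟨-, hzE, hzi, hz0, hz1⟩ := Finset.mem_filter.mp hz
    refine Finset.mem_filter.mpr ⟨Finset.mem_univ _, hconj g z hzE, by rw [← hcmul, hzi], fun h => hz0 ?_, fun h => hz1 ?_⟩
    · exact hcinj g _ _ (h.trans (hc0 g).symm)
    · exact hcinj g _ _ (h.trans (by simp only [hc, mul_one, toEnd_cancel']))
  have hlow : ∀ g, ∀ z ∈ E, z * z = z → z * c g ε = 0 ∨ z * c g ε = c g ε := by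
    intro g z hz hzi
    -- transported to `ε`
    set z' := c g⁻¹ z
    have hz'E : z' ∈ E := hconj g⁻¹ z hz
    have hback : c g (z' * ε) = z * c g ε := by rw [hcmul, hccomp, mul_inv_cancel, hcone]
    by_cases h0 : z' * ε = 0
    · exact Or.inl (by rw [← hback, h0, hc0])
    refine Or.inr ?_
    rw [← hback]
    congr 1
    by_contra hne
    have hz'i : z' * z' = z' := by rw [← hcmul, hzi]
    have hw : z' * ε ∈ P := by
      refine Finset.mem_filter.mpr ⟨Finset.mem_univ _, mul_mem hz'E hεE, ?_, h0, fun h => hε1 ?_⟩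
      · calc z' * ε * (z' * ε) = z' * (ε * z') * ε := by simp only [mul_assoc]
          _ = z' * (z' * ε) * ε := by rw [hcomm ε hεE z' hz'E]
          _ = (z' * z') * (ε * ε) := by simp only [mul_assoc]
          _ = _ := by rw [hz'i, hεi]
      · rw [← h]
        calc ε = 1 * ε := (one_mul ε).symm
          _ = z' * ε * ε := by rw [h]
          _ = _ := by rw [mul_assoc, hεi]
    have hle : range' (z' * ε) ≤ range' ε := by
      rintro _ ⟨w, rfl⟩
      rw [hcomm z' hz'E ε hεE]
      exact ⟨z' w, rfl⟩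
    refine hεmin _ hw (lt_of_le_of_ne hle fun e => hne ?_)
    refine LinearMap.ext fun w => ?_
    have hw' : ε w ∈ range' (z' * ε) := e ▸ ⟨w, rfl⟩
    obtain ⟨u, hu⟩ := hw'
    rw [Module.End.mul_apply, ← hu, Module.End.mul_apply]
    exact LinearMap.congr_fun hz'i (ε u)
  haveI := Fintype.ofFinite G
  set O := Finset.univ.image fun g => c g ε with hO
  have hOP : ∀ y ∈ O, y ∈ P := fun y hy => by
    obtain ⟨g, -, rfl⟩ := Finset.mem_image.mp hy
    exact hmemc g ε hεP
  have horth : ∀ y ∈ O, ∀ z ∈ O, y ≠ z → y * z = 0 := by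
    intro y hy z hz hne
    obtain ⟨-, hyE, hyi, -⟩ := Finset.mem_filter.mp (hOP y hy)
    obtain ⟨-, hzE, hzi, -⟩ := Finset.mem_filter.mp (hOP z hz)
    obtain ⟨g, -, rfl⟩ := Finset.mem_image.mp hy
    obtain ⟨g', -, rfl⟩ := Finset.mem_image.mp hz
    rcases hlow g' (c g ε) hyE hyi with h | h
    · exact h
    rcases hlow g (c g' ε) hzE hzi with h' | h'
    · rwa [hcomm _ hyE _ hzE]
    · exact absurd (by rw [← h', hcomm _ hzE _ hyE, h]) hne
  have hOconj : ∀ g, ∀ y ∈ O, c g y ∈ O := fun g y hy => by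
    obtain ⟨g', -, rfl⟩ := Finset.mem_image.mp hy
    exact Finset.mem_image.mpr ⟨g * g', Finset.mem_univ _, (hccomp g g' ε).symm⟩
  have hεO : ε ∈ O := Finset.mem_image.mpr ⟨1, Finset.mem_univ _, hcone ε⟩
  set s := ∑ y ∈ O, y with hs
  have hsy : ∀ y ∈ O, s * y = y := fun y hy => by
    rw [hs, Finset.sum_mul, Finset.sum_eq_single y (fun z hz hne => horth z hz y hy hne) (fun h => absurd hy h)]
    exact (Finset.mem_filter.mp (hOP y hy)).2.2.1
  have hsc : ∀ g, c g s = s := fun g => by
    have e : c g s = ∑ y ∈ O, c g y := by simp only [hc, hs, Finset.mul_sum, Finset.sum_mul]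
    rw [e]
    refine Finset.sum_nbij (c g) (hOconj g) (fun a _ b _ h => hcinj g a b h)
      (fun y hy => ⟨c g⁻¹ y, hOconj g⁻¹ y hy, by rw [hccomp, mul_inv_cancel, hcone]⟩) (fun a _ => rfl)
  have hs1 : s = 1 := by
    have hinv : ∀ g : G, ∀ u ∈ LinearMap.range s, ρ g u ∈ LinearMap.range s := by
      rintro g _ ⟨w, rfl⟩
      refine ⟨ρ g w, ?_⟩
      have h1 := LinearMap.congr_fun (hsc g) (ρ g w)
      simp only [hc, Module.End.mul_apply, toEnd_apply] at h1
      rw [← h1, ← LinearEquiv.mul_apply, ← map_mul, inv_mul_cancel, map_one, LinearEquiv.coe_one, id]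
    have hss : s * s = s := by
      conv_lhs => rw [hs, Finset.mul_sum]
      exact Finset.sum_congr rfl fun y hy => hsy y hy
    rcases hirr _ hinv with h | h
    · exfalso
      refine hε0 ?_
      rw [← hsy ε hεO, LinearMap.range_eq_bot.mp h, zero_mul]
    · refine LinearMap.ext fun w => ?_
      obtain ⟨u, rfl⟩ := (h ▸ Submodule.mem_top : w ∈ LinearMap.range s)
      rw [Module.End.one_apply]
      exact LinearMap.congr_fun hss u
  refine ⟨⟨O, ?_, hOconj, fun y hy z hz => ?_, fun y hy => (Finset.mem_filter.mp (hOP y hy)).2.2.1,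
    fun y hy => (Finset.mem_filter.mp (hOP y hy)).2.2.2.1, horth, hs1⟩⟩
  · by_contra h2
    refine hε1 ?_
    have hO1 : O = {ε} := (Finset.eq_singleton_iff_unique_mem).mpr ⟨hεO, fun y hy =>
      Finset.card_le_one.mp (by omega) y hy ε hεO⟩
    rw [← hs1, hs, hO1, Finset.sum_singleton]
  · obtain ⟨g, -, rfl⟩ := Finset.mem_image.mp hy
    obtain ⟨g', -, rfl⟩ := Finset.mem_image.mp hz
    exact ⟨g' * g⁻¹, by show c (g' * g⁻¹) (c g ε) = _; rw [hccomp, inv_mul_cancel_right]⟩

/-- Either no singular elements or a block system. -/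
theorem nonSingular_or_blockSys {ρ : G →* (V ≃ₗ[ZMod p] V)} (hirr : IrrRep ρ) [Nontrivial V] :
    NonSingular ρ ∨ Nonempty (BlockSys ρ) := by
  by_cases h : NonSingular ρ
  · exact Or.inl h
  simp only [NonSingular, not_forall] at h
  obtain ⟨A, hAn, hA, x, hx, v, hv, hxv, hx0⟩ := h
  haveI := hAn
  exact Or.inr (exists_blockSys hirr A hA hx hv hxv hx0)

end Cfsg.Agent.SolvClassNum
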