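import Cfsg.Agent.Lib.SolvClassNum.Defs
import Cfsg.Agent.Lib.SolvClassNum.Basic

/-! The two dimensional groups with a four element layer. -/

set_option autoImplicit false
set_option linter.style.haveILetI false

namespace Cfsg.Agent.SolvClassNum

open Module

/-- A scalar multiple of a nonscalar map of the plane that is conjugate to it. -/
theorem scalar_conj {F W : Type*} [Field F] [AddCommGroup W] [Module F W] (h2 : finrank F W = 2)
    (h : W ≃ₗ[F] W) (g : W ≃ₗ[F] W) (s : F) (hns : ¬ ∃ c : F, ∀ v, g v = c • v)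
    (hconj : ∀ v, h (g v) = s • g (h v)) :
    s * s = 1 ∧ ((¬ ∃ c : F, ∀ v, g (g v) = c • v) → s = 1) := by
  classical
  haveI : FiniteDimensional F W := FiniteDimensional.of_finrank_pos (by omega)
  have hvec : ∃ v, LinearIndependent F ![v, g v] := by
    by_contra hc
    push Not at hc
    refine hns ?_
    -- every vector is an eigenvector
    have heig : ∀ v : W, v ≠ 0 → ∃ c : F, c • v = g v := fun v hv => by
      have := hc v
      rw [linearIndependent_fin2] at this
      simp only [Matrix.cons_val_one, Matrix.cons_val_fin_one, Matrix.cons_val_zero, not_and, not_forall, not_not] at this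
      obtain ⟨a, ha⟩ := this (fun e => hv (g.map_eq_zero_iff.mp e))
      have ha0 : a ≠ 0 := fun e => hv (by rw [← ha, e, zero_smul])
      refine ⟨a⁻¹, ?_⟩
      conv_lhs => rw [← ha]
      rw [smul_smul, inv_mul_cancel₀ ha0, one_smul]
    obtain ⟨v, hv⟩ : ∃ v : W, v ≠ 0 := by
      haveI : Nontrivial W := Module.nontrivial_of_finrank_pos (R := F) (by omega)
      exact exists_ne 0
    obtain ⟨c, hcv⟩ := heig v hv
    refine ⟨c, fun w => ?_⟩
    by_cases hw : LinearIndependent F ![v, w]
    · have hw0 : w ≠ 0 := by simpa using hw.ne_zero 1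
      have hvw : v + w ≠ 0 := fun e => by
        have := LinearIndependent.pair_iff.mp hw 1 1 (by simpa using e)
        exact one_ne_zero this.1
      obtain ⟨d, hd⟩ := heig w hw0
      obtain ⟨u, hu⟩ := heig (v + w) hvw
      have h1 : (u - c) • v + (u - d) • w = 0 := by
        rw [map_add, ← hcv, ← hd, smul_add] at hu
        rw [sub_smul, sub_smul, sub_add_sub_comm, hu, sub_self]
      obtain ⟨e1, e2⟩ := LinearIndependent.pair_iff.mp hw _ _ h1
      rw [← hd, ← sub_eq_zero.mp e2, sub_eq_zero.mp e1]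
    · rw [LinearIndependent.pair_iff' hv] at hw
      push Not at hw
      obtain ⟨a, rfl⟩ := hw
      rw [map_smul, ← hcv, smul_comm]
  obtain ⟨v, hv⟩ := hvec
  let B := basisOfLinearIndependentOfCardEqFinrank hv (by simp [h2])
  obtain ⟨a, b, hab⟩ : ∃ a b : F, g (g v) = a • v + b • g v := by
    refine ⟨B.repr (g (g v)) 0, B.repr (g (g v)) 1, ?_⟩
    conv_lhs => rw [← B.sum_repr (g (g v))]
    simp [Fin.sum_univ_two, B]
  have hpoly : ∀ w, g (g w) = a • w + b • g w := by
    intro w
    rw [← B.sum_repr w]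
    simp only [Fin.sum_univ_two, B, coe_basisOfLinearIndependentOfCardEqFinrank, Matrix.cons_val_zero,
      Matrix.cons_val_one, map_add, map_smul, hab]
    module
  have hs2 : ∀ w, h (g (g w)) = (s * s) • g (g (h w)) := fun w => by
    rw [hconj, hconj, map_smul, smul_smul]
  have key : ∀ u, (a * (1 - s * s)) • u + (b * (s - s * s)) • g u = 0 := fun u => by
    obtain ⟨w, rfl⟩ := h.surjective u
    have e1 := hs2 w
    rw [hpoly, hpoly, map_add, map_smul, map_smul, hconj] at e1
    linear_combination (norm := module) e1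
  obtain ⟨k1, k2⟩ := LinearIndependent.pair_iff.mp hv _ _ (key v)
  have ha : a ≠ 0 := fun e => hns ⟨b, fun w => g.injective (by rw [hpoly, e, zero_smul, zero_add, map_smul])⟩
  have hs : s * s = 1 := (sub_eq_zero.mp ((mul_eq_zero.mp k1).resolve_left ha)).symm
  refine ⟨hs, fun hg2 => ?_⟩
  have hb : b ≠ 0 := fun e => hg2 ⟨a, fun w => by rw [hpoly, e, zero_smul, add_zero]⟩
  have := (mul_eq_zero.mp k2).resolve_left hb
  rw [hs, sub_eq_zero] at this
  exact this

theorem exact_final {p z k r : ℕ} (hp : p.Prime) (hp7 : 7 ≤ p) (hz : z ∣ p - 1) (hk : 4 * z ≤ k)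
    (hr : p ^ 2 - 1 ≤ 24 * z * r) : 49 * p ≤ 60 * (k + r) := by
  by_contra hlt
  obtain ⟨q, hq⟩ := hz
  have hz0 : 0 < z := by
    rcases Nat.eq_zero_or_pos z with rfl | h
    · omega
    · exact h
  have hp2 : 1 ≤ p ^ 2 := Nat.one_le_pow _ _ (by omega)
  have h60 : 60 * r + 240 * z + 1 ≤ 49 * p := by omega
  have hmain : 5760 * z * z + 24 * z + 60 * p ^ 2 ≤ 1176 * z * p + 60 := by
    have := Nat.mul_le_mul_left (24 * z) h60
    have e : 24 * z * (60 * r + 240 * z + 1) = 60 * (24 * z * r) + 5760 * z * z + 24 * z := by ring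
    have e2 : 24 * z * (49 * p) = 1176 * z * p := by ring
    omega
  obtain rfl : p = z * q + 1 := by omega
  rcases Nat.lt_or_ge q 10 with hq10 | hq10
  · have hsmall : z ≤ 2 := by
      interval_cases q <;> nlinarith
    interval_cases z <;> interval_cases q <;> first | omega | norm_num at hp | skip
  · have h1 : 0 ≤ (5 * (q : ℤ) - 48) * ((q : ℤ) - 10) := mul_nonneg (by omega) (by omega)
    have h2 : (5760 : ℤ) * z * z + 24 * z + 60 * ((z : ℤ) * q + 1) ^ 2 ≤ 1176 * z * ((z : ℤ) * q + 1) + 60 := by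
      exact_mod_cast hmain
    have h3 : 0 ≤ (z : ℤ) * z * ((5 * (q : ℤ) - 48) * ((q : ℤ) - 10)) := mul_nonneg (by positivity) h1
    have h4 : (10 : ℤ) * z ≤ (q : ℤ) * z := mul_le_mul_of_nonneg_right (by exact_mod_cast hq10) (by positivity)
    nlinarith

variable {p : ℕ} [Fact p.Prime] {H V : Type} [Group H] [Finite H] [AddCommGroup V] [Module (ZMod p) V]

set_option maxHeartbeats 800000 in
/-- The exceptional groups satisfy the bound. -/
theorem exact_bound [Group.IsSolvable H] [Finite V] (hp7 : 7 ≤ p) (ρ : H →* (V ≃ₗ[ZMod p] V)) (hρ : Function.Injective ρ)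
    (hn : finrank (ZMod p) V = 2) (A : Subgroup H) [A.Normal] (hsc : SmallCase ρ A) (r : ℕ)
    (hr : p ^ 2 - 1 ≤ r * Nat.card H) : 49 * p ≤ 60 * (Nat.card (ConjClasses H) + r) := by
  classical
  have hp : p.Prime := Fact.out
  obtain ⟨hscal, M, hMn, hAM, hM4, hMi, hMsq, hMK, hMnd⟩ := hsc
  haveI := hMn
  haveI : Nontrivial V := Module.nontrivial_of_finrank_pos (R := ZMod p) (by omega)
  -- scalar elements lie in `A`
  have hscalA : ∀ g : H, (∃ c : ZMod p, ∀ v, ρ g v = c • v) → g ∈ A := by
    rintro g ⟨c, hc⟩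
    have hcomm : ∀ h : H, g * h = h * g := fun h => hρ (LinearEquiv.ext fun v => by
      rw [map_mul, map_mul, LinearEquiv.mul_apply, LinearEquiv.mul_apply, hc, hc, map_smul])
    have hgM : g ∈ M := hMK g fun v _ => by rw [hcomm v, mul_inv_cancel_right, mul_inv_cancel]; exact one_mem A
    exact hMnd g hgM fun v _ => hcomm v
  choose s hs using fun a : A => hscal a a.2
  obtain ⟨v0, hv0⟩ := exists_ne (0 : V)
  have hsinj : Function.Injective s := fun a b h => Subtype.ext (hρ (LinearEquiv.ext fun v => by rw [hs, hs, h]))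
  have hs_eq : ∀ (a : A) (c : ZMod p), (∀ v, ρ (a : H) v = c • v) → s a = c := fun a c h => by
    have h1 := (hs a v0).symm.trans (h v0)
    exact smul_left_injective (ZMod p) hv0 h1
  let sh : A →* ZMod p :=
    { toFun := s
      map_one' := hs_eq 1 1 fun v => by simp
      map_mul' := fun a b => hs_eq (a * b) _ fun v => by
        rw [Subgroup.coe_mul, map_mul, LinearEquiv.mul_apply, hs, hs, smul_smul] }
  have hzdvd : Nat.card A ∣ p - 1 := by
    have h1 := Subgroup.card_dvd_of_injective (MonoidHom.toHomUnits sh)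
      (fun a b h => hsinj (congrArg Units.val h))
    rwa [Nat.card_units, Nat.card_zmod] at h1
  set z := Nat.card A with hz
  -- lifting the classes of the quotient
  haveI := Fintype.ofFinite (ConjClasses H)
  haveI := Fintype.ofFinite (ConjClasses (H ⧸ A))
  haveI := Fintype.ofFinite A
  let F : ConjClasses H → ConjClasses (H ⧸ A) := ConjClasses.map (QuotientGroup.mk' A)
  let fib : ConjClasses (H ⧸ A) → ℕ := fun c => (Finset.univ.filter fun C => F C = c).card
  have hcen : ∀ (a : A) (g : H), Commute (a : H) g := fun a g => hρ (LinearEquiv.ext fun v => by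
    rw [map_mul, map_mul, LinearEquiv.mul_apply, LinearEquiv.mul_apply, hs, hs, map_smul])
  -- how many multiples share a class
  have hfib : ∀ (g : H) (d : ℕ), (∀ a : A, Nat.card {b : A // IsConj ((a : H) * g) ((b : H) * g)} ≤ d) →
      z ≤ fib (ConjClasses.mk (g : H ⧸ A)) * d := by
    intro g d hd
    have h := Finset.card_le_mul_card_image (f := fun a : A => ConjClasses.mk ((a : H) * g)) Finset.univ d
      fun c hc => by
        obtain ⟨a, -, rfl⟩ := Finset.mem_image.mp hc
        refine le_trans (le_of_eq ?_) (hd a)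
        rw [Nat.card_eq_fintype_card, Fintype.card_subtype]
        refine congrArg Finset.card (Finset.filter_congr fun b _ => ?_)
        rw [ConjClasses.mk_eq_mk_iff_isConj]
        exact ⟨IsConj.symm, IsConj.symm⟩
    rw [Finset.card_univ, ← Nat.card_eq_fintype_card] at h
    refine le_trans h (le_trans (le_of_eq (mul_comm _ _)) (Nat.mul_le_mul_right _ (Finset.card_le_card ?_)))
    intro c hc
    obtain ⟨a, -, rfl⟩ := Finset.mem_image.mp hc
    refine Finset.mem_filter.mpr ⟨Finset.mem_univ _, congrArg ConjClasses.mk ?_⟩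
    show ((((a : H) * g : H)) : H ⧸ A) = g
    rw [QuotientGroup.mk_mul, (QuotientGroup.eq_one_iff (a : H)).mpr a.2, one_mul]
  -- a multiple conjugate to the element
  have hmult : ∀ (g : H) (a b : A), IsConj ((a : H) * g) ((b : H) * g) → IsConj g (((a⁻¹ * b : A) : H) * g) := by
    intro g a b hab
    obtain ⟨h, hh⟩ := isConj_iff.mp hab
    refine isConj_iff.mpr ⟨h, ?_⟩
    have e : h * g * h⁻¹ = (a : H)⁻¹ * (h * ((a : H) * g) * h⁻¹) := by
      calc h * g * h⁻¹ = (a : H)⁻¹ * (((a : H) * h) * g * h⁻¹) := by group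
        _ = _ := by rw [(hcen a h).eq]; group
    rw [e, hh]
    push_cast
    group
  have hscalar : ∀ g : H, g ∉ A → ∀ u : A, IsConj g ((u : H) * g) → s u * s u = 1 ∧ (g * g ∉ A → u = 1) := by
    intro g hg u hu
    obtain ⟨h, hh⟩ := isConj_iff.mp hu
    have hsc := scalar_conj hn (ρ h) (ρ g) (s u) (fun h' => hg (hscalA g h')) fun v => by
      rw [← hs u, ← LinearEquiv.mul_apply, ← LinearEquiv.mul_apply, ← LinearEquiv.mul_apply, ← map_mul, ← map_mul,
        ← map_mul, ← hh, inv_mul_cancel_right]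
    refine ⟨hsc.1, fun hg2 => ?_⟩
    have h1 : s u = 1 := hsc.2 fun ⟨c, hc⟩ => hg2 (hscalA _ ⟨c, fun v => by
      rw [map_mul, LinearEquiv.mul_apply]; exact hc v⟩)
    exact hsinj (h1.trans (map_one sh).symm)
  have hfib1 : z ≤ fib (ConjClasses.mk 1) := by
    have := hfib 1 1 fun a => by
      refine Finite.card_le_one_iff_subsingleton.mpr ⟨fun b c => Subtype.ext (Subtype.ext ?_)⟩
      have key : ∀ b : A, IsConj ((a : H) * 1) ((b : H) * 1) → (b : H) = a := by
        intro b hb
        rw [mul_one, mul_one] at hb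
        obtain ⟨h, hh⟩ := isConj_iff.mp hb
        rw [← hh, ← (hcen a h).eq, mul_inv_cancel_right]
      rw [key b.1 b.2, key c.1 c.2]
    rwa [mul_one, show ((1 : H) : H ⧸ A) = 1 from rfl] at this
  have hfib2 : ∀ c : ConjClasses (H ⧸ A), c ≠ ConjClasses.mk 1 → z ≤ 2 * fib c := by
    intro c hc
    obtain ⟨q, rfl⟩ := ConjClasses.mk_surjective c
    induction q using QuotientGroup.induction_on with
    | _ g =>
      have hg : g ∉ A := fun hg => hc (by rw [(QuotientGroup.eq_one_iff g).mpr hg])
      rw [mul_comm]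
      refine hfib g 2 fun a => ?_
      let T := {c : ZMod p // c = 1 ∨ c = -1}
      have hT : Nat.card T ≤ 2 := by
        rw [show Nat.card T = Nat.card (({1, -1} : Set (ZMod p))) from rfl, Nat.card_coe_set_eq]
        exact (Set.ncard_insert_le _ _).trans (by rw [Set.ncard_singleton])
      refine le_trans (Nat.card_le_card_of_injective
        (fun b : {b : A // IsConj ((a : H) * g) ((b : H) * g)} =>
          (⟨s (a⁻¹ * b.1), mul_self_eq_one_iff.mp (hscalar g hg _ (hmult g a b.1 b.2)).1⟩ : T))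
        fun b c h => Subtype.ext (mul_left_cancel (hsinj (congrArg Subtype.val h)))) hT
  have hfib3 : ∀ g : H, g * g ∉ A → z ≤ fib (ConjClasses.mk (g : H ⧸ A)) := by
    intro g hg2
    have hg : g ∉ A := fun hg => hg2 (mul_mem hg hg)
    have := hfib g 1 fun a => by
      refine Finite.card_le_one_iff_subsingleton.mpr ⟨fun b c => Subtype.ext ?_⟩
      have hb := (hscalar g hg _ (hmult g a b.1 b.2)).2 hg2
      have hc := (hscalar g hg _ (hmult g a c.1 c.2)).2 hg2
      exact mul_left_cancel (hb.trans hc.symm)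
    rwa [mul_one] at this
  have hsum : Nat.card (ConjClasses H) = ∑ c : ConjClasses (H ⧸ A), fib c := by
    rw [Nat.card_eq_fintype_card, ← Finset.card_univ]
    exact Finset.card_eq_sum_card_fiberwise fun _ _ => Finset.mem_univ _
  -- sums over sets of classes
  have hcount : ∀ S : Finset (ConjClasses (H ⧸ A)), (∀ c ∈ S, z ≤ fib c) → ConjClasses.mk 1 ∈ S →
      z * (S.card + Fintype.card (ConjClasses (H ⧸ A))) ≤ 2 * Nat.card (ConjClasses H) := by
    intro S hS h1
    rw [hsum, Finset.mul_sum, mul_add, ← Finset.card_univ]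
    calc z * S.card + z * Finset.univ.card = ∑ c : ConjClasses (H ⧸ A), ((if c ∈ S then z else 0) + z) := by
          rw [Finset.sum_add_distrib, Finset.sum_ite_mem, Finset.univ_inter, Finset.sum_const, Finset.sum_const,
            smul_eq_mul, smul_eq_mul]
          ring
      _ ≤ _ := Finset.sum_le_sum fun c _ => by
          by_cases h : c ∈ S
          · rw [if_pos h]; have := hS c h; omega
          · rw [if_neg h, zero_add]; exact hfib2 c fun e => h (e ▸ h1)
  have hQ : Nat.card (H ⧸ A) = 4 * M.index := by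
    rw [← Subgroup.index_eq_card, ← Subgroup.relIndex_mul_index hAM, hM4]
  have hH : Nat.card H = z * (4 * M.index) := by rw [← hQ, card_eq_index_mul A, mul_comm]
  haveI : Group.IsSolvable (H ⧸ A) := Group.isSolvable_of_surjective (QuotientGroup.mk'_surjective A)
  have hk4 : 4 ≤ Fintype.card (ConjClasses (H ⧸ A)) := by
    rw [← Nat.card_eq_fintype_card]
    by_contra hk
    have h6 := card_le_six_of_classes_le_three (G := H ⧸ A) (by omega)
    have hM1 : M.index ≠ 0 := Subgroup.index_ne_zero_of_finite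
    have := classes_eq_card_of_comm (G := H ⧸ A) fun a b => by
      haveI := Fact.mk Nat.prime_two
      exact IsPGroup.commutative_of_card_eq_prime_sq (p := 2) (by rw [hQ]; omega) a b
    omega
  have hM6 := Nat.le_of_dvd (by norm_num) hMi
  rcases Nat.lt_or_ge M.index 6 with hlt | hge
  · -- small quotient
    have hd3 : M.index ≤ 3 := by
      interval_cases hd : M.index <;> omega
    have hk := hcount {ConjClasses.mk 1} (fun c hc => by rw [Finset.mem_singleton.mp hc]; exact hfib1)
      (Finset.mem_singleton_self _)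
    rw [Finset.card_singleton] at hk
    have hk5 : 5 * z ≤ 2 * Nat.card (ConjClasses H) := le_trans (by rw [mul_comm]; exact Nat.mul_le_mul_left _ (by omega)) hk
    have hr' : p ^ 2 - 1 ≤ 12 * (z * r) := by
      refine hr.trans ?_
      rw [hH, ← mul_assoc, mul_comm (12 : ℕ), mul_comm r z]
      exact Nat.mul_le_mul_left _ (by omega)
    by_contra hlt2
    set k := Nat.card (ConjClasses H)
    have h1 : 3600 * (k + r) ^ 2 + 1 ≤ 2401 * p ^ 2 := by
      calc 3600 * (k + r) ^ 2 + 1 = (60 * (k + r)) ^ 2 + 1 := by ring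
        _ ≤ (49 * p) ^ 2 := Nat.pow_lt_pow_left (by omega) (by norm_num)
        _ = _ := by ring
    have h2 : 4 * (k * r) ≤ (k + r) ^ 2 := by
      have : (4 : ℤ) * (k * r) ≤ ((k : ℤ) + r) ^ 2 := by nlinarith [sq_nonneg ((k : ℤ) - r)]
      exact_mod_cast this
    have h3 : 5 * (z * r) ≤ 2 * (k * r) := by
      rw [← mul_assoc, ← mul_assoc]; exact Nat.mul_le_mul_right _ hk5
    have h49 : 49 ≤ p ^ 2 := Nat.pow_le_pow_left hp7 2
    omega
  · -- the largest quotient
    have hd : M.index = 6 := by omega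
    have hk5 : 5 ≤ Fintype.card (ConjClasses (H ⧸ A)) := by
      rw [← Nat.card_eq_fintype_card]; exact five_le_classes (by rw [hQ, hd]; norm_num)
    have hHM : Nat.card (H ⧸ M) = 6 := by rw [← Subgroup.index_eq_card, hd]
    obtain ⟨y', hy'⟩ := exists_prime_orderOf_dvd_card' (G := H ⧸ M) (p := 3) (hp := ⟨Nat.prime_three⟩) (by rw [hHM]; norm_num)
    obtain ⟨y, rfl⟩ := QuotientGroup.mk_surjective y'
    obtain ⟨t', ht'⟩ := exists_prime_orderOf_dvd_card' (G := H ⧸ M) (p := 2) (hp := ⟨Nat.prime_two⟩) (by rw [hHM]; norm_num)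
    obtain ⟨t, rfl⟩ := QuotientGroup.mk_surjective t'
    have hy2 : y * y ∉ A := fun h => by
      have h1 : (y : H ⧸ M) ^ 2 = 1 := by
        rw [pow_two, ← QuotientGroup.mk_mul, QuotientGroup.eq_one_iff]; exact hAM h
      have := orderOf_dvd_of_pow_eq_one h1
      rw [hy'] at this
      norm_num at this
    have htM : t ∉ M := fun h => by
      rw [(QuotientGroup.eq_one_iff t).mpr h, orderOf_one] at ht'
      norm_num at ht'
    obtain ⟨u, hu, hu2⟩ : ∃ u : H, (u : H ⧸ M) = t ∧ u * u ∉ A := by
      by_cases ht2 : t * t ∈ A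
      swap
      · exact ⟨t, rfl, ht2⟩
      obtain ⟨v, hv, hvA⟩ : ∃ v ∈ M, t * v * t⁻¹ * v⁻¹ ∉ A := by
        by_contra hc
        push Not at hc
        exact htM (hMK t hc)
      refine ⟨t * v, QuotientGroup.mk_mul_of_mem _ hv, fun h => hvA ?_⟩
      rw [← QuotientGroup.eq_one_iff (N := A)] at ht2 h ⊢
      have hv2 : ((v * v : H) : H ⧸ A) = 1 := (QuotientGroup.eq_one_iff _).mpr (hMsq v hv)
      simp only [QuotientGroup.mk_mul, QuotientGroup.mk_inv] at ht2 h hv2 ⊢
      rw [inv_eq_of_mul_eq_one_right ht2, inv_eq_of_mul_eq_one_right hv2, ← h]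
      group
    let S : Finset (ConjClasses (H ⧸ A)) := {ConjClasses.mk 1, ConjClasses.mk (y : H ⧸ A), ConjClasses.mk (u : H ⧸ A)}
    have hmapne : ∀ a b : H, orderOf (a : H ⧸ M) ≠ orderOf (b : H ⧸ M) →
        ConjClasses.mk (a : H ⧸ A) ≠ ConjClasses.mk (b : H ⧸ A) := by
      intro a b hne e
      let π : H ⧸ A →* H ⧸ M := QuotientGroup.map A M (MonoidHom.id H) fun x hx => hAM hx
      have hc : IsConj (π a) (π b) := MonoidHom.map_isConj π (ConjClasses.mk_eq_mk_iff_isConj.mp e)
      obtain ⟨c, hc'⟩ := isConj_iff.mp hc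
      refine hne ?_
      show orderOf (π a) = orderOf (π b)
      rw [← hc', ← orderOf_injective (MulAut.conj c).toMonoidHom (MulAut.conj c).injective (π a)]
      rfl
    have hScard : S.card = 3 := by
      have h1y := hmapne 1 y (by rw [hy', show ((1 : H) : H ⧸ M) = 1 from rfl, orderOf_one]; norm_num)
      have h1u := hmapne 1 u (by rw [hu, ht', show ((1 : H) : H ⧸ M) = 1 from rfl, orderOf_one]; norm_num)
      have hyu := hmapne y u (by rw [hy', hu, ht']; norm_num)
      exact Finset.card_eq_three.mpr ⟨_, _, _, h1y, h1u, hyu, rfl⟩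
    have hk := hcount S (fun c hc => by
        simp only [S, Finset.mem_insert, Finset.mem_singleton] at hc
        rcases hc with rfl | rfl | rfl
        exacts [hfib1, hfib3 y hy2, hfib3 u hu2]) (by simp [S])
    rw [hScard] at hk
    have h8 : z * 8 ≤ 2 * Nat.card (ConjClasses H) := le_trans (Nat.mul_le_mul_left _ (by omega)) hk
    refine exact_final hp hp7 hzdvd (by omega) (hr.trans (le_of_eq ?_))
    rw [hH, hd]
    ring

end Cfsg.Agent.SolvClassNum
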