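import Cfsg.Agent.S0547
import Mathlib.GroupTheory.GroupAction.Primitive
import Mathlib.Tactic

/-!
# A solvable permutation group on `n` points with `o` orbits has order at most the cube root of `24 ^ (n - o)`

Follows the scheme of `ClassBound/Main`.
-/

set_option autoImplicit false
set_option linter.style.haveILetI false

open scoped Pointwise
open MulAction

namespace Cfsg.Agent.SolvClassNum

theorem cube_ker_mul_range {G H : Type} [Group G] [Group H] (f : G →* H) :
    Nat.card G ^ 3 = Nat.card f.ker ^ 3 * Nat.card f.range ^ 3 := by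
  rw [← mul_pow, ← Subgroup.index_ker f, Subgroup.card_mul_index]

/-- The bound, for faithful actions of degree `n`. -/
def PermBound (n : ℕ) : Prop :=
  ∀ (G α : Type) [Group G] [Finite G] [Group.IsSolvable G] [Finite α] [MulAction G α] [FaithfulSMul G α],
    Nat.card α = n → Nat.card G ^ 3 ≤ 24 ^ (n - Nat.card (orbitRel.Quotient G α))

theorem card_quotient_of_transitive (G α : Type) [Group G] [MulAction G α] [IsPretransitive G α]
    [Nonempty α] : Nat.card (orbitRel.Quotient G α) = 1 := by
  have : Subsingleton (orbitRel.Quotient G α) := ⟨fun a b => by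
    induction a using Quotient.inductionOn'
    induction b using Quotient.inductionOn'
    exact Quotient.sound' (orbitRel_apply.2 (mem_orbit_iff.2 (exists_smul_eq G _ _)))⟩
  obtain ⟨x⟩ := ‹Nonempty α›
  exact Nat.card_of_subsingleton (Quotient.mk'' x)

/-- Intransitive groups. -/
theorem bound_intransitive {n : ℕ} (ih : ∀ m < n, PermBound m) (G α : Type) [Group G] [Finite G] [Group.IsSolvable G]
    [Finite α] [MulAction G α] [FaithfulSMul G α] (hn : Nat.card α = n)
    (hr : 2 ≤ Nat.card (orbitRel.Quotient G α)) :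
    Nat.card G ^ 3 ≤ 24 ^ (n - Nat.card (orbitRel.Quotient G α)) := by
  classical
  cases nonempty_fintype α
  have : Nontrivial (orbitRel.Quotient G α) := by
    rw [← Finite.one_lt_card_iff_nontrivial]; omega
  obtain ⟨q, q', hqq⟩ := exists_pair_ne (orbitRel.Quotient G α)
  obtain ⟨a, rfl⟩ := Quotient.mk''_surjective q
  obtain ⟨a', rfl⟩ := Quotient.mk''_surjective q'
  let O : SubMulAction G α := ⟨orbit G a, fun g x hx => by
    obtain ⟨k, rfl⟩ := hx; exact ⟨g * k, mul_smul g k a⟩⟩
  have ha' : a' ∉ O := fun h => hqq (Quotient.sound' (orbitRel_apply.2 (mem_orbit_symm.1 h)))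
  let f : G →* Equiv.Perm O := MulAction.toPermHom G O
  have hfO : ∀ (k : f.ker) (x : O), (k : G) • (x : α) = x := fun k x =>
    congrArg Subtype.val (Equiv.ext_iff.1 (MonoidHom.mem_ker.1 k.2) x)
  let C : SubMulAction f.ker α := ⟨(orbit G a)ᶜ, fun k x hx => by
    intro h
    refine hx ?_
    obtain ⟨g, hg⟩ := h
    exact ⟨(k : G)⁻¹ * g, by
      show ((k : G)⁻¹ * g) • a = x
      rw [mul_smul]
      show (k : G)⁻¹ • (g • a) = x
      rw [show g • a = k • x from hg, show k • x = (k : G) • x from rfl, inv_smul_smul]⟩⟩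
  have : FaithfulSMul f.ker C := ⟨fun {k k'} h => Subtype.ext (eq_of_smul_eq_smul (α := α) fun x => by
    by_cases hx : x ∈ O
    · rw [hfO k ⟨x, hx⟩, hfO k' ⟨x, hx⟩]
    · exact congrArg Subtype.val (h ⟨x, hx⟩))⟩
  have hsum : Nat.card O + Nat.card C = n := by
    rw [← Nat.card_sum, ← hn]
    exact Nat.card_congr (Equiv.Set.sumCompl (orbit G a))
  have : Nonempty O := ⟨⟨a, mem_orbit_self a⟩⟩
  have : Nonempty C := ⟨⟨a', ha'⟩⟩
  have hO0 : 0 < Nat.card O := Nat.card_pos
  have hC0 : 0 < Nat.card C := Nat.card_pos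
  -- the image
  have : IsPretransitive f.range O := ⟨fun x y => by
    obtain ⟨g, hg⟩ := x.2
    obtain ⟨g', hg'⟩ := y.2
    refine ⟨⟨f (g' * g⁻¹), _, rfl⟩, Subtype.ext ?_⟩
    show (g' * g⁻¹) • (x : α) = y
    rw [← hg, ← hg']
    show (g' * g⁻¹) • (g • a) = g' • a
    rw [← mul_smul, inv_mul_cancel_right]⟩
  haveI : Group.IsSolvable f.range := Group.isSolvable_of_surjective f.rangeRestrict_surjective
  have h1 : Nat.card f.range ^ 3 ≤ 24 ^ (Nat.card O - 1) := by
    have := ih (Nat.card O) (by omega) f.range O rfl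
    rwa [card_quotient_of_transitive] at this
  -- the kernel
  have h2 := ih (Nat.card C) (by omega) f.ker C rfl
  -- the orbits
  have h3 : Nat.card (orbitRel.Quotient G α) ≤ Nat.card (orbitRel.Quotient f.ker C) + 1 := by
    let g : Option (orbitRel.Quotient f.ker C) → orbitRel.Quotient G α := fun o =>
      o.elim (Quotient.mk'' a) (Quotient.map' (fun x : C => (x : α)) fun x y hxy => by
        obtain ⟨k, hk⟩ := orbitRel_apply.1 hxy
        exact orbitRel_apply.2 ⟨(k : G), congrArg Subtype.val hk⟩)
    have hg : Function.Surjective g := fun q => by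
      obtain ⟨x, rfl⟩ := Quotient.mk''_surjective q
      by_cases hx : x ∈ O
      · exact ⟨none, Quotient.sound' (orbitRel_apply.2 (mem_orbit_symm.1 hx))⟩
      · exact ⟨some (Quotient.mk'' ⟨x, hx⟩), rfl⟩
    exact (Nat.card_le_card_of_surjective g hg).trans Finite.card_option.le
  refine (cube_ker_mul_range f).le.trans ?_
  refine (Nat.mul_le_mul h2 h1).trans ?_
  rw [← pow_add]
  refine Nat.pow_le_pow_right (by norm_num) ?_
  have h4 : Nat.card (orbitRel.Quotient f.ker C) ≤ Nat.card C :=
    Nat.card_le_card_of_surjective _ Quotient.mk''_surjective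
  omega

/-- Transitive, imprimitive groups. -/
theorem bound_imprimitive {n : ℕ} (ih : ∀ m < n, PermBound m) (G α : Type) [Group G] [Finite G] [Group.IsSolvable G]
    [Finite α] [MulAction G α] [FaithfulSMul G α] [IsPretransitive G α] (hn : Nat.card α = n)
    (hp : ¬ IsPreprimitive G α) : Nat.card G ^ 3 ≤ 24 ^ (n - 1) := by
  classical
  obtain ⟨B, hB, hBt⟩ : ∃ B : Set α, IsBlock G B ∧ ¬ IsTrivialBlock B := by
    by_contra! hall
    exact hp { isTrivialBlock_of_isBlock := fun {B} hB => hall B hB }
  rw [IsTrivialBlock, not_or, Set.not_subsingleton_iff] at hBt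
  obtain ⟨hB2, hBu⟩ := hBt
  have hBne : B.Nonempty := hB2.nonempty
  have hkey := hB.ncard_block_mul_ncard_orbit_eq hBne
  rw [hn] at hkey
  have hBm : 2 ≤ B.ncard := (Set.one_lt_ncard_iff_nontrivial).2 hB2
  let Ω := orbit G B
  have hΩ : Nat.card Ω = (orbit G B).ncard := Nat.card_coe_set_eq _
  have : Nonempty Ω := ⟨⟨B, mem_orbit_self B⟩⟩
  have hΩ0 : 0 < Nat.card Ω := Nat.card_pos
  have hΩn : Nat.card Ω < n := by
    rw [← hkey, hΩ]; rw [hΩ] at hΩ0; nlinarith
  have hΩ2 : 2 ≤ Nat.card Ω := by
    by_contra hlt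
    refine hBu (Set.eq_univ_of_forall fun x => ?_)
    obtain ⟨b, hb⟩ := hBne
    obtain ⟨g, rfl⟩ := exists_smul_eq G b x
    have : Subsingleton Ω := Finite.card_le_one_iff_subsingleton.1 (by omega)
    have he : g • B = B := congrArg Subtype.val
      (Subsingleton.elim (⟨g • B, mem_orbit B g⟩ : Ω) ⟨B, mem_orbit_self B⟩)
    rw [← he]
    exact Set.smul_mem_smul_set hb
  let f : G →* Equiv.Perm Ω := MulAction.toPermHom G Ω
  have : IsPretransitive f.range Ω := ⟨fun x y => by
    obtain ⟨g, hg⟩ := exists_smul_eq G x y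
    exact ⟨⟨f g, g, rfl⟩, hg⟩⟩
  haveI : Group.IsSolvable f.range := Group.isSolvable_of_surjective f.rangeRestrict_surjective
  have h1 : Nat.card f.range ^ 3 ≤ 24 ^ (Nat.card Ω - 1) := by
    have := ih (Nat.card Ω) hΩn f.range Ω rfl
    rwa [card_quotient_of_transitive] at this
  have : FaithfulSMul f.ker α := ⟨fun {k k'} h => Subtype.ext (eq_of_smul_eq_smul (α := α) h)⟩
  have hfix : ∀ (k : f.ker) (x : Ω), (k : G) • (x : Set α) = x := fun k x =>
    congrArg Subtype.val (Equiv.ext_iff.1 (MonoidHom.mem_ker.1 k.2) x)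
  have h3 : Nat.card Ω ≤ Nat.card (orbitRel.Quotient f.ker α) := by
    have hne : ∀ x : Ω, (x : Set α).Nonempty := fun x => by
      obtain ⟨g, hg⟩ := x.2
      rw [← hg]
      exact hBne.smul_set
    obtain ⟨c, hc⟩ := Classical.axiomOfChoice hne
    refine Nat.card_le_card_of_injective (fun x : Ω => Quotient.mk'' (c x)) fun x y hxy => ?_
    obtain ⟨k, hk⟩ := orbitRel_apply.1 (Quotient.eq''.1 hxy)
    have hx : c x ∈ (y : Set α) := by
      have hm := Set.smul_mem_smul_set (a := (k : G)) (hc y)
      rw [hfix k y, show (k : G) • c y = c x from hk] at hm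
      exact hm
    obtain ⟨g, hg⟩ := x.2
    obtain ⟨g', hg'⟩ := y.2
    apply Subtype.ext
    have hcx := hc x
    rw [← hg] at hcx ⊢
    rw [← hg'] at hx ⊢
    exact hB.smul_eq_smul_of_nonempty ⟨c x, hcx, hx⟩
  have h2 := bound_intransitive ih f.ker α hn (hΩ2.trans h3)
  have h4 : Nat.card (orbitRel.Quotient f.ker α) ≤ Nat.card α :=
    Nat.card_le_card_of_surjective _ Quotient.mk''_surjective
  refine (cube_ker_mul_range f).le.trans ((Nat.mul_le_mul h2 h1).trans ?_)
  rw [← pow_add]
  exact Nat.pow_le_pow_right (by norm_num) (by omega)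

/-- Bound on automorphisms fixing `s` points, by fuel. -/
def autB : ℕ → ℕ → ℕ → ℕ → ℕ
  | 0, _, _, _ => 1
  | f + 1, r, n, s => if n ≤ s then 1 else (n - s) * autB f r n (s * r)

theorem autB_le_pow : ∀ f r n s, 1 ≤ n → autB f r n s ≤ n ^ f := by
  intro f
  induction f with
  | zero => intro r n s _; simp [autB]
  | succ f ih =>
    intro r n s hn
    rw [autB]
    split_ifs
    · exact Nat.one_le_pow _ _ hn
    · rw [pow_succ']; exact Nat.mul_le_mul (Nat.sub_le _ _) (ih r n _ hn)

/-- Permutations of a group by automorphisms are determined on generators. -/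
theorem card_le_autB {M : Type} [Group M] [Finite M] {H : Type} [Group H] [Finite H] [MulDistribMulAction H M]
    [FaithfulSMul H M] {r d : ℕ} (hr : r.Prime) (hM : Nat.card M = r ^ d) :
    ∀ (f : ℕ) (K : Subgroup M) (j : ℕ), Nat.card K = r ^ j → d ≤ f + j →
      Nat.card (fixingSubgroup H (K : Set M)) ≤ autB f r (Nat.card M) (r ^ j) := by
  classical
  intro f
  induction f with
  | zero =>
    intro K j hK hd
    have htop : K = ⊤ := Subgroup.eq_top_of_le_card _ (by
      rw [hM, hK]; exact Nat.pow_le_pow_right hr.pos (by omega))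
    have : Subsingleton (fixingSubgroup H (K : Set M)) := ⟨fun a b => Subtype.ext (eq_of_smul_eq_smul fun x : M => by
      rw [(mem_fixingSubgroup_iff H).1 a.2 x (by simp [htop]),
        (mem_fixingSubgroup_iff H).1 b.2 x (by simp [htop])])⟩
    simp [autB, Nat.card_eq_one_iff_unique.2 ⟨this, inferInstance⟩]
  | succ f ih =>
    intro K j hK hd
    rw [autB]
    by_cases hle : Nat.card M ≤ r ^ j
    · rw [if_pos hle]
      have htop : K = ⊤ := Subgroup.eq_top_of_le_card _ (hK ▸ hle)
      have : Subsingleton (fixingSubgroup H (K : Set M)) := ⟨fun a b => Subtype.ext (eq_of_smul_eq_smul fun x : M => by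
        rw [(mem_fixingSubgroup_iff H).1 a.2 x (by simp [htop]),
          (mem_fixingSubgroup_iff H).1 b.2 x (by simp [htop])])⟩
      exact Finite.card_le_one_iff_subsingleton.2 this
    rw [if_neg hle]
    obtain ⟨x, hx⟩ : ∃ x, x ∉ K := by
      by_contra hc
      push Not at hc
      refine hle (le_of_eq ?_)
      rw [← hK, show K = ⊤ from eq_top_iff.2 fun x _ => hc x, Subgroup.card_top]
    set F := fixingSubgroup H (K : Set M)
    set K' := K ⊔ Subgroup.zpowers x
    obtain ⟨j', -, hj'⟩ := (Nat.dvd_prime_pow hr).1 (hM ▸ Subgroup.card_subgroup_dvd_card K')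
    have hlt : j < j' := by
      have h1 : Nat.card K < Nat.card K' := by
        refine lt_of_le_of_ne (Subgroup.card_le_of_le le_sup_left) fun e => hx ?_
        have := Subgroup.eq_of_le_of_card_ge (le_sup_left : K ≤ K') e.ge
        exact this ▸ Subgroup.mem_sup_right (Subgroup.mem_zpowers x)
      rw [hK, hj'] at h1
      exact (Nat.pow_lt_pow_iff_right hr.one_lt).1 h1
    have horb : (orbit F x).ncard ≤ Nat.card M - r ^ j := by
      refine le_trans (Set.ncard_le_ncard (t := (K : Set M)ᶜ) ?_ (Set.toFinite _)) ?_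
      · rintro _ ⟨g, rfl⟩ hgx
        refine hx ?_
        have := (mem_fixingSubgroup_iff H).1 (inv_mem g.2) _ hgx
        simp only [Subgroup.smul_def, inv_smul_smul] at this
        rw [this]; exact hgx
      · rw [Set.ncard_compl, ← Nat.card_coe_set_eq, show Nat.card (K : Set M) = Nat.card K from rfl, hK]
    have hstab : Nat.card (stabilizer F x) ≤ Nat.card (fixingSubgroup H (K' : Set M)) := by
      refine Nat.card_le_card_of_injective (fun g => ⟨((g : F) : H), (mem_fixingSubgroup_iff H).2 ?_⟩)
        fun a b e => Subtype.ext (Subtype.ext (congrArg Subtype.val e :))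
      have : K' ≤ {carrier := {y | ((g : F) : H) • y = y}
                   one_mem' := smul_one _
                   mul_mem' := fun {a b} ha hb => by
                     show ((g : F) : H) • (a * b) = a * b
                     rw [smul_mul', show ((g : F) : H) • a = a from ha, show ((g : F) : H) • b = b from hb]
                   inv_mem' := fun {a} ha => by
                     show ((g : F) : H) • a⁻¹ = a⁻¹
                     rw [smul_inv', show ((g : F) : H) • a = a from ha] : Subgroup M} := by
        refine sup_le (fun y hy => (mem_fixingSubgroup_iff H).1 (g : F).2 y hy) (Subgroup.zpowers_le.2 ?_)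
        exact g.2
      intro y hy
      exact this hy
    have hrec := ih K' j' hj' (by omega)
    have hmono : ∀ (f : ℕ) (a b : ℕ), a ≤ b → autB f r (Nat.card M) b ≤ autB f r (Nat.card M) a := by
      intro f
      induction f with
      | zero => intro a b _; simp [autB]
      | succ f ih2 =>
        intro a b hab
        rw [autB, autB]
        split_ifs with h1 h2
        · exact le_rfl
        · refine Nat.one_le_iff_ne_zero.2 (Nat.mul_ne_zero (by omega) ?_)
          have : ∀ f s, autB f r (Nat.card M) s ≠ 0 := by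
            intro f
            induction f with
            | zero => intro s; simp [autB]
            | succ f ih3 =>
              intro s; rw [autB]; split_ifs with h
              · norm_num
              · exact Nat.mul_ne_zero (by omega) (ih3 _)
          exact this f _
        · omega
        · exact Nat.mul_le_mul (Nat.sub_le_sub_left hab _) (ih2 _ _ (Nat.mul_le_mul_right _ hab))
    calc Nat.card F = (orbit F x).ncard * Nat.card (stabilizer F x) := by
          rw [← index_stabilizer F x, Subgroup.index_mul_card]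
      _ ≤ (Nat.card M - r ^ j) * autB f r (Nat.card M) (r ^ j * r) := by
          refine Nat.mul_le_mul horb ((hstab.trans hrec).trans (hmono f _ _ ?_))
          rw [← pow_succ]; exact Nat.pow_le_pow_right hr.pos hlt

/-- The small prime powers, as a test. -/
def numOK (r d : ℕ) : Bool :=
  decide (r ^ d < 32 → (r ^ d * autB d r (r ^ d) 1) ^ 3 ≤ 24 ^ (r ^ d - 1))

theorem numeric_small : ∀ r ∈ [2, 3, 5, 7, 11, 13, 17, 19, 23, 29, 31], ∀ d ∈ [1, 2, 3, 4], numOK r d = true := by
  decide +kernel

theorem numeric_bound {r d : ℕ} (hr : r.Prime) (hd : 1 ≤ d) :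
    (r ^ d * autB d r (r ^ d) 1) ^ 3 ≤ 24 ^ (r ^ d - 1) := by
  rcases Nat.lt_or_ge (r ^ d) 32 with hsmall | hbig
  · have hd5 : d < 5 := by
      by_contra h
      have : 2 ^ 5 ≤ r ^ d := le_trans (Nat.pow_le_pow_left hr.two_le 5) (Nat.pow_le_pow_right hr.pos (by omega))
      omega
    have hr32 : r < 32 := lt_of_le_of_lt (Nat.le_self_pow (by omega) r) hsmall
    have hrl : r ∈ [2, 3, 5, 7, 11, 13, 17, 19, 23, 29, 31] := by
      interval_cases r <;> first | (simp; done) | (exfalso; norm_num at hr)
    have hdl : d ∈ [1, 2, 3, 4] := by simp; omega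
    exact of_decide_eq_true (numeric_small r hrl d hdl) hsmall
  set n := r ^ d
  set L := Nat.log 2 n
  have hL5 : 5 ≤ L := Nat.le_log_of_pow_le (by norm_num) (by omega)
  have hdL : d ≤ L := Nat.le_log_of_pow_le (by norm_num) (Nat.pow_le_pow_left hr.two_le d)
  have hkey : ∀ k, 5 ≤ k → 3 * ((k + 1) * (k + 1)) + 4 ≤ 4 * 2 ^ k := by
    intro k hk
    induction k, hk using Nat.le_induction with
    | base => norm_num
    | succ k hk ih => rw [pow_succ]; nlinarith
  calc (n * autB d r n 1) ^ 3 ≤ (n * n ^ d) ^ 3 :=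
        Nat.pow_le_pow_left (Nat.mul_le_mul_left _ (autB_le_pow _ _ _ _ (by omega))) 3
    _ = n ^ (3 * (d + 1)) := by rw [← pow_succ', ← pow_mul, mul_comm]
    _ ≤ (2 ^ (L + 1)) ^ (3 * (d + 1)) := Nat.pow_le_pow_left (Nat.lt_pow_succ_log_self (by norm_num) n).le _
    _ ≤ 2 ^ (4 * (n - 1)) := by
        rw [← pow_mul]
        refine Nat.pow_le_pow_right (by norm_num) ?_
        have := hkey L hL5
        have : 2 ^ L ≤ n := Nat.pow_log_le_self 2 (by omega)
        have : (L + 1) * (3 * (d + 1)) ≤ 3 * ((L + 1) * (L + 1)) := by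
          rw [mul_left_comm]; exact Nat.mul_le_mul_left _ (Nat.mul_le_mul_left _ (by omega))
        omega
    _ = 16 ^ (n - 1) := by rw [pow_mul]; norm_num
    _ ≤ 24 ^ (n - 1) := Nat.pow_le_pow_left (by norm_num) _

/-- Primitive groups. -/
theorem bound_primitive (G α : Type) [Group G] [Finite G] [Group.IsSolvable G] [Finite α] [MulAction G α]
    [FaithfulSMul G α] [Nontrivial α] {n : ℕ} (hn : Nat.card α = n) (hprim : IsPreprimitive G α) :
    Nat.card G ^ 3 ≤ 24 ^ (n - 1) := by
  classical
  obtain ⟨ω⟩ : Nonempty α := inferInstance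
  haveI := hprim
  haveI : Nontrivial G := by
    by_contra h
    rw [not_nontrivial_iff_subsingleton] at h
    obtain ⟨x, hx⟩ := exists_ne ω
    obtain ⟨g, hg⟩ := exists_smul_eq G ω x
    rw [Subsingleton.elim g 1, one_smul] at hg
    exact hx hg.symm
  obtain ⟨M, ⟨hMn, hM⟩, hMmin⟩ := (wellFounded_lt (α := Subgroup G)).has_min
    {M : Subgroup G | M.Normal ∧ M ≠ ⊥} ⟨⊤, inferInstance, top_ne_bot⟩
  haveI := hMn
  have hmin : ∀ K : Subgroup G, K.Normal → K ≤ M → K = ⊥ ∨ K = M := fun K hK hKM => by
    by_cases h : K = ⊥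
    · exact Or.inl h
    · exact Or.inr (hKM.eq_of_not_lt (hMmin K ⟨hK, h⟩))
  obtain ⟨-, -, r, d, hr, hd, hα, hMc⟩ := S0547.result hprim M hM hmin
  obtain ⟨hcompl, hfaith, -⟩ := S0548.result hprim M hM hmin ω
  set S := stabilizer G ω
  letI : MulDistribMulAction S M := MulDistribMulAction.compHom M ((MulAut.conjNormal : G →* MulAut M).comp S.subtype)
  haveI : FaithfulSMul S M := ⟨fun {a b} h => by
    have hmem : ((a : G)⁻¹ * b) ∈ S ⊓ Subgroup.centralizer (M : Set G) := by
      refine ⟨S.mul_mem (S.inv_mem a.2) b.2, Subgroup.mem_centralizer_iff.2 fun x hx => ?_⟩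
      have e : (a : G) * x * (a : G)⁻¹ = b * x * (b : G)⁻¹ := congrArg Subtype.val (h ⟨x, hx⟩)
      calc x * ((a : G)⁻¹ * b) = (a : G)⁻¹ * ((a : G) * x * (a : G)⁻¹) * b := by group
        _ = _ := by rw [e]; group
    rw [hfaith, Subgroup.mem_bot, inv_mul_eq_one] at hmem
    exact Subtype.ext hmem⟩
  have hS : Nat.card S ≤ autB d r (r ^ d) 1 := by
    have h := card_le_autB (H := S) hr hMc d (⊥ : Subgroup M) 0 (by rw [Subgroup.card_bot, pow_zero]) le_rfl
    rw [pow_zero, hMc] at h
    refine le_trans (Nat.card_le_card_of_injective (fun g : S => (⟨g, (mem_fixingSubgroup_iff S).2 fun x hx => by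
      rw [Subgroup.coe_bot, Set.mem_singleton_iff] at hx
      rw [hx, smul_one]⟩ : fixingSubgroup S ((⊥ : Subgroup M) : Set M))) fun a b e => congrArg Subtype.val e) h
  rw [← hcompl.card_mul_card, hMc, ← hn, hα]
  exact le_trans (Nat.pow_le_pow_left (Nat.mul_le_mul_left _ hS) 3) (numeric_bound hr hd)

/-- The bound holds in every degree. -/
theorem permBound (n : ℕ) : PermBound n := by
  induction n using Nat.strong_induction_on with
  | _ n ih =>
    intro G α _ _ _ _ _ _ hn
    classical
    cases nonempty_fintype α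
    rcases subsingleton_or_nontrivial α with hα | hα
    · have : Subsingleton G := ⟨fun a b => eq_of_smul_eq_smul fun x : α => Subsingleton.elim _ _⟩
      rw [Nat.card_eq_one_iff_unique.2 ⟨this, inferInstance⟩, one_pow]
      exact Nat.one_le_pow _ _ (by norm_num)
    have : Nonempty (orbitRel.Quotient G α) := (inferInstance : Nonempty α).map Quotient.mk''
    have hpos : 0 < Nat.card (orbitRel.Quotient G α) := Nat.card_pos
    rcases Nat.lt_or_ge 1 (Nat.card (orbitRel.Quotient G α)) with hr | hr
    · exact bound_intransitive ih G α hn hr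
    have h1 : Nat.card (orbitRel.Quotient G α) = 1 := by omega
    rw [h1]
    have : IsPretransitive G α := pretransitive_iff_subsingleton_quotient G α |>.2
      (Finite.card_le_one_iff_subsingleton.1 hr)
    by_cases hp : IsPreprimitive G α
    · exact bound_primitive G α hn hp
    · exact bound_imprimitive ih G α hn hp

/-- The image of a solvable group among the permutations of `m` points. -/
theorem solvable_perm_cube {G α : Type*} [Group G] [Group.IsSolvable G] [Finite α] [Nonempty α]
    (φ : G →* Equiv.Perm α) : Nat.card φ.range ^ 3 ≤ 24 ^ (Nat.card α - 1) := by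
  classical
  cases nonempty_fintype α
  let c := (Fintype.equivFin α).permCongrHom
  let ψ : G →* Equiv.Perm (Fin (Fintype.card α)) := c.toMonoidHom.comp φ
  have hcard : Nat.card φ.range = Nat.card ψ.range := by
    rw [show ψ.range = φ.range.map c.toMonoidHom from (MonoidHom.map_range _ _).symm]
    exact Nat.card_congr (Subgroup.equivMapOfInjective φ.range c.toMonoidHom c.injective).toEquiv
  haveI : Group.IsSolvable ψ.range := Group.isSolvable_of_surjective ψ.rangeRestrict_surjective
  haveI : FaithfulSMul ψ.range (Fin (Fintype.card α)) := ⟨fun {a b} h => Subtype.ext (Equiv.ext h)⟩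
  have h := permBound _ ψ.range (Fin (Fintype.card α)) rfl
  rw [← hcard] at h
  refine h.trans (Nat.pow_le_pow_right (by norm_num) ?_)
  have : Nonempty (Fin (Fintype.card α)) := ⟨⟨0, Fintype.card_pos⟩⟩
  haveI : Nonempty (orbitRel.Quotient ψ.range (Fin (Fintype.card α))) := this.map Quotient.mk''
  have h1 : 0 < Nat.card (orbitRel.Quotient ψ.range (Fin (Fintype.card α))) := Nat.card_pos
  rw [Nat.card_eq_fintype_card (α := α)]
  have := Nat.card_fin (Fintype.card α)
  omega

end Cfsg.Agent.SolvClassNum
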