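import Cfsg.Agent.Lib.SolvClassNum.Base
import Cfsg.Agent.Lib.SolvClassNum.Blocks
import Cfsg.Agent.Lib.SolvClassNum.PermBound

/-! Data for every irreducible solvable linear group. -/

set_option autoImplicit false
set_option linter.style.haveILetI false

namespace Cfsg.Agent.SolvClassNum

open Nearfield Module

variable {p : ℕ} [Fact p.Prime]

set_option maxHeartbeats 1000000 in
/-- The reduction to one block. -/
theorem data_of_blockSys {G V : Type} [Group G] [Finite G] [Group.IsSolvable G] [AddCommGroup V] [Module (ZMod p) V]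
    [Finite V] [Nontrivial V] (ρ : G →* (V ≃ₗ[ZMod p] V)) (hρ : Function.Injective ρ) (hirr : IrrRep ρ)
    (B : BlockSys ρ)
    (ih : ∀ {G' V' : Type} [Group G'] [Finite G'] [Group.IsSolvable G'] [AddCommGroup V'] [Module (ZMod p) V']
      [Finite V'] [Nontrivial V'] (ρ' : G' →* (V' ≃ₗ[ZMod p] V')), Function.Injective ρ' → IrrRep ρ' →
      finrank (ZMod p) V' < finrank (ZMod p) V → HasData ρ') : HasData ρ := by
  classical
  set Φ := toEnd ρ with hΦ
  let O := {y // y ∈ B.O}
  let act : G → O → O := fun g y => ⟨Φ g * y.1 * Φ g⁻¹, B.conj g y.1 y.2⟩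
  have hact1 : ∀ y, act 1 y = y := fun y => Subtype.ext (by simp [act])
  have hactm : ∀ g k y, act (g * k) y = act g (act k y) := fun g k y => Subtype.ext (by
    simp only [act, mul_inv_rev, map_mul, mul_assoc])
  letI : MulAction G O := { smul := act, one_smul := hact1, mul_smul := hactm }
  have hsm : ∀ (g : G) (y : O), ((g • y : O) : Module.End (ZMod p) V) = Φ g * y.1 * Φ g⁻¹ := fun _ _ => rfl
  -- applying an element
  have happ : ∀ (g : G) (y : O) (v : V), Φ g (y.1 v) = (g • y).1 (Φ g v) := fun g y v => by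
    rw [hsm, Module.End.mul_apply, Module.End.mul_apply, ← Module.End.mul_apply (Φ g⁻¹), toEnd_cancel,
      Module.End.one_apply]
  have hyy : ∀ (y : O) (v : V), y.1 (y.1 v) = y.1 v := fun y v => LinearMap.congr_fun (B.idem _ y.2) v
  have hyz : ∀ (y z : O) (v : V), y ≠ z → y.1 (z.1 v) = 0 := fun y z v h =>
    LinearMap.congr_fun (B.orth _ y.2 _ z.2 fun e => h (Subtype.ext e)) v
  have hsum : ∀ v : V, v = ∑ y : O, y.1 v := fun (v : V) => by
    conv_lhs => rw [← Module.End.one_apply (R := ZMod p) v, ← B.sum, LinearMap.sum_apply]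
    exact (Finset.sum_coe_sort B.O fun y => y v).symm
  have hm2 : 2 ≤ Fintype.card O := by rw [Fintype.card_coe]; exact B.two
  obtain ⟨ε⟩ : Nonempty O := Fintype.card_pos_iff.mp (by omega)
  set Gst := MulAction.stabilizer G ε
  let W : Submodule (ZMod p) V := LinearMap.range ε.1
  have hW : ∀ v ∈ W, ε.1 v = v := by rintro _ ⟨u, rfl⟩; exact hyy ε u
  have hmemW : ∀ g ∈ Gst, ∀ v ∈ W, Φ g v ∈ W := fun g hg v hv => ⟨Φ g v, by
    conv_rhs => rw [← hW v hv, happ, show g • ε = ε from hg]⟩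
  have hΦΦ : ∀ (g : G) (v : V), Φ g⁻¹ (Φ g v) = v := fun g v => by
    rw [← Module.End.mul_apply, toEnd_cancel, Module.End.one_apply]
  have hΦΦ' : ∀ (g : G) (v : V), Φ g (Φ g⁻¹ v) = v := fun g v => by
    rw [← Module.End.mul_apply, toEnd_cancel', Module.End.one_apply]
  let ρ1 : Gst →* (W ≃ₗ[ZMod p] W) :=
    { toFun := fun g =>
        { toFun := fun w => ⟨Φ (g : G) w, hmemW _ g.2 _ w.2⟩
          map_add' := fun a b => Subtype.ext (map_add _ _ _)
          map_smul' := fun r a => Subtype.ext (map_smul _ _ _)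
          invFun := fun w => ⟨Φ (g : G)⁻¹ w, hmemW _ (inv_mem g.2) _ w.2⟩
          left_inv := fun w => Subtype.ext (hΦΦ g w)
          right_inv := fun w => Subtype.ext (hΦΦ' g w) }
      map_one' := LinearEquiv.ext fun w => Subtype.ext (by
        show Φ ((1 : Gst) : G) (w : V) = w
        rw [OneMemClass.coe_one, map_one, Module.End.one_apply])
      map_mul' := fun a b => LinearEquiv.ext fun w => Subtype.ext (by
        show Φ ((a * b : Gst) : G) (w : V) = Φ (a : G) (Φ (b : G) w)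
        rw [Subgroup.coe_mul, map_mul, Module.End.mul_apply]) }
  haveI hfinE : Finite (W ≃ₗ[ZMod p] W) := Finite.of_injective (fun f : W ≃ₗ[ZMod p] W => (f : W → W)) DFunLike.coe_injective
  haveI : Group.IsSolvable ρ1.range := Group.isSolvable_of_surjective ρ1.rangeRestrict_surjective
  have ht : ∀ y : O, ∃ g : G, g • ε = y := fun y => by
    obtain ⟨g, hg⟩ := B.trans _ ε.2 _ y.2
    exact ⟨g, Subtype.ext hg⟩
  choose t ht using ht
  -- the decomposition
  have hcomp : ∀ (y : O) (v : V), Φ (t y)⁻¹ (y.1 v) ∈ W := fun y v => ⟨Φ (t y)⁻¹ v, by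
    rw [happ, show (t y)⁻¹ • y = ε by rw [inv_smul_eq_iff]; exact (ht y).symm]⟩
  let dec : V → (O → W) := fun v y => ⟨Φ (t y)⁻¹ (y.1 v), hcomp y v⟩
  have hty : ∀ (y : O) (w : W), y.1 (Φ (t y) w) = Φ (t y) (w : V) := fun y w => by
    conv_rhs => rw [← hW _ w.2, happ, ht y]
  have hty0 : ∀ (y z : O) (w : W), z ≠ y → z.1 (Φ (t y) w) = 0 := fun y z w h => by
    rw [← hty y w, hyz z y _ h]
  have hdecbij : Function.Bijective dec := by
    refine ⟨fun u v h => ?_, fun f => ⟨∑ y : O, Φ (t y) (f y : V), funext fun z => Subtype.ext ?_⟩⟩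
    · rw [hsum u, hsum v]
      refine Finset.sum_congr rfl fun y _ => ?_
      have h1 := congrArg (Φ (t y)) (congrArg Subtype.val (congrFun h y))
      rwa [hΦΦ', hΦΦ'] at h1
    · show Φ (t z)⁻¹ (z.1 (∑ y : O, Φ (t y) (f y : V))) = f z
      rw [map_sum, Finset.sum_eq_single z (fun y _ hne => hty0 y z _ (Ne.symm hne)) (fun h => absurd (Finset.mem_univ z) h),
        hty, hΦΦ]
  have hn : finrank (ZMod p) V = Fintype.card O * finrank (ZMod p) W := by
    have h1 := Nat.card_eq_of_bijective dec hdecbij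
    rw [Nat.card_fun, Module.natCard_eq_pow_finrank (K := ZMod p) (V := V),
      Module.natCard_eq_pow_finrank (K := ZMod p) (V := W), Nat.card_zmod, ← pow_mul, Nat.card_eq_fintype_card] at h1
    rw [Nat.pow_right_injective (Fact.out : p.Prime).two_le h1, mul_comm]
  haveI : Nontrivial W := by
    obtain ⟨v, hv⟩ : ∃ v, ε.1 v ≠ 0 := by
      by_contra hc
      push Not at hc
      exact B.ne _ ε.2 (LinearMap.ext hc)
    exact ⟨⟨0, ⟨_, v, rfl⟩, fun h => hv (congrArg Subtype.val h).symm⟩⟩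
  have hW0 : 0 < finrank (ZMod p) W := Module.finrank_pos
  -- irreducibility on a block
  have hirr1 : IrrRep (ρ1.range.subtype) := by
    intro U hU
    by_contra hne
    rw [not_or] at hne
    obtain ⟨hUb, hUt⟩ := hne
    let U0 : Submodule (ZMod p) V := U.map W.subtype
    let U' : Submodule (ZMod p) V := ⨆ g : G, U0.map (Φ g)
    have hinv : ∀ g : G, ∀ u ∈ U', ρ g u ∈ U' := by
      intro g u hu
      have h1 : U'.map (Φ g) ≤ U' := by
        rw [Submodule.map_iSup]
        refine iSup_le fun k => ?_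
        refine le_trans (le_of_eq ?_) (le_iSup (fun g => U0.map (Φ g)) (g * k))
        rw [← Submodule.map_comp, ← Module.End.mul_eq_comp, ← map_mul]
      exact h1 ⟨u, hu, rfl⟩
    rcases hirr U' hinv with h | h
    · refine hUb (eq_bot_iff.mpr fun w hw => ?_)
      have : (w : V) ∈ U' := Submodule.mem_iSup_of_mem 1 ⟨w, ⟨w, hw, rfl⟩, by rw [map_one]; rfl⟩
      rw [h, Submodule.mem_bot] at this
      rw [Submodule.mem_bot]
      exact Subtype.ext this
    · refine hUt (eq_top_iff.mpr fun w _ => ?_)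
      have hle : U'.map ε.1 ≤ U0 := by
        rw [Submodule.map_iSup]
        refine iSup_le fun g => ?_
        rintro _ ⟨_, ⟨_, ⟨u, hu, rfl⟩, rfl⟩, rfl⟩
        show ε.1 (Φ g (u : V)) ∈ U0
        by_cases hg : g • ε = ε
        · rw [← hW _ u.2, happ, hg, hyy, ← hg, ← happ, hW _ u.2]
          exact ⟨_, hU ⟨ρ1 ⟨g, hg⟩, ⟨g, hg⟩, rfl⟩ u hu, rfl⟩
        · rw [← hW _ u.2, happ, hyz _ _ _ (Ne.symm hg)]
          exact zero_mem _
      have hw : (w : V) ∈ U'.map ε.1 := ⟨w, h ▸ Submodule.mem_top, hW _ w.2⟩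
      obtain ⟨u, hu, huw⟩ := hle hw
      exact (Subtype.ext huw : u = w) ▸ hu
  have hlt : finrank (ZMod p) W < finrank (ZMod p) V := by
    rw [hn]; exact lt_mul_of_one_lt_left hW0 (by omega)
  obtain ⟨A1, m, a, e, P, hA1n, hA1c, hm, ha, he, hdim, hP, hI, hJ, horb, horb13, -, -, hprime⟩ :=
    ih ρ1.range.subtype Subtype.val_injective hirr1 hlt
  haveI := hA1n
  set m' := Fintype.card O
  -- the kernel on blocks
  let perm : G →* Equiv.Perm O := MulAction.toPermHom G O
  set K := perm.ker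
  have hK : ∀ g ∈ K, ∀ y : O, g • y = y := fun g hg y => Equiv.ext_iff.mp hg y
  have hKst : ∀ (h : K) (y : O), (t y)⁻¹ * h * t y ∈ Gst := fun h y => by
    show ((t y)⁻¹ * (h : G) * t y) • ε = ε
    rw [mul_smul, mul_smul, ht, hK _ h.2, inv_smul_eq_iff, ht]
  let comp : O → K →* ρ1.range := fun y => MonoidHom.mk' (fun h => ρ1.rangeRestrict ⟨_, hKst h y⟩) (fun a b => by
    rw [← map_mul]
    refine congrArg _ (Subtype.ext ?_)
    show (t y)⁻¹ * ((a : G) * b) * t y = (t y)⁻¹ * a * t y * ((t y)⁻¹ * b * t y)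
    group)
  have hfaith : ∀ h k : K, (∀ y, comp y h = comp y k) → h = k := by
    intro h k hhk
    refine Subtype.ext (hρ (LinearEquiv.ext fun v => ?_))
    show Φ (h : G) v = Φ (k : G) v
    rw [hsum v, map_sum, map_sum]
    refine Finset.sum_congr rfl fun y _ => ?_
    have h1 : Φ ((t y)⁻¹ * h * t y) (Φ (t y)⁻¹ (y.1 v)) = Φ ((t y)⁻¹ * k * t y) (Φ (t y)⁻¹ (y.1 v)) := by
      have := congrArg (fun f : ρ1.range => ((f : W ≃ₗ[ZMod p] W) ⟨_, hcomp y v⟩ : V)) (hhk y)
      exact this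
    simp only [map_mul, Module.End.mul_apply, hΦΦ'] at h1
    have h2 := congrArg (Φ (t y)) h1
    rwa [hΦΦ', hΦΦ'] at h2
  -- lifts of normal subgroups
  let lift : Subgroup ρ1.range → Subgroup G := fun X => (⨅ y : O, X.comap (comp y)).map K.subtype
  have hlift_mem : ∀ X g, g ∈ lift X ↔ ∃ hg : g ∈ K, ∀ y, comp y ⟨g, hg⟩ ∈ X := fun X g => by
    simp only [lift, Subgroup.mem_map, Subgroup.mem_iInf, Subgroup.mem_comap]
    constructor
    · rintro ⟨⟨g', hg'⟩, h, rfl⟩; exact ⟨hg', h⟩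
    · rintro ⟨hg, h⟩; exact ⟨⟨g, hg⟩, h, rfl⟩
  have hlift_normal : ∀ X : Subgroup ρ1.range, X.Normal → (lift X).Normal := by
    intro X hX
    refine ⟨fun h hh g => (hlift_mem X _).mpr ?_⟩
    obtain ⟨hhK, hh⟩ := (hlift_mem X _).mp hh
    have hgK : g * h * g⁻¹ ∈ K := (inferInstance : K.Normal).conj_mem h hhK g
    refine ⟨hgK, fun y => ?_⟩
    set z := g⁻¹ • y
    have hs : (t y)⁻¹ * g * t z ∈ Gst := by
      show ((t y)⁻¹ * g * t z) • ε = ε
      rw [mul_smul, mul_smul, ht, smul_inv_smul, inv_smul_eq_iff, ht]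
    have e : comp y ⟨g * h * g⁻¹, hgK⟩ =
        ρ1.rangeRestrict ⟨_, hs⟩ * comp z ⟨h, hhK⟩ * (ρ1.rangeRestrict ⟨_, hs⟩)⁻¹ := by
      show ρ1.rangeRestrict _ = _ * ρ1.rangeRestrict _ * _
      rw [← map_inv, ← map_mul, ← map_mul]
      refine congrArg _ (Subtype.ext ?_)
      show (t y)⁻¹ * (g * h * g⁻¹) * t y = (t y)⁻¹ * g * t z * ((t z)⁻¹ * h * t z) * ((t y)⁻¹ * g * t z)⁻¹
      group
    rw [e]
    exact hX.conj_mem _ (hh z) _
  set Pp := Nat.card perm.range
  have hlift_index : ∀ (X : Subgroup ρ1.range), X.Normal → (lift X).index ≤ Pp * X.index ^ m' := by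
    intro X hX
    let f : K →* (O → ρ1.range ⧸ X) := MonoidHom.pi fun y => (QuotientGroup.mk' X).comp (comp y)
    have hker : f.ker = ⨅ y : O, X.comap (comp y) := by
      ext h
      rw [MonoidHom.mem_ker, funext_iff, Subgroup.mem_iInf]
      exact forall_congr' fun y => (QuotientGroup.eq_one_iff _)
    show ((⨅ y : O, X.comap (comp y)).map K.subtype).index ≤ _
    rw [Subgroup.index_map_subtype, ← hker, Subgroup.index_ker, Subgroup.index_ker, mul_comm]
    refine Nat.mul_le_mul_left _ ((Subgroup.card_le_card_group _).trans ?_)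
    rw [Nat.card_fun, Nat.card_eq_fintype_card (α := O)]
    exact le_of_eq rfl
  have hPp : Pp ^ 3 ≤ 24 ^ (m' - 1) := by
    haveI : Nonempty O := ⟨ε⟩
    have := solvable_perm_cube perm
    rwa [Nat.card_eq_fintype_card (α := O)] at this
  obtain ⟨eO⟩ : Nonempty (O ≃ Fin m') := ⟨Fintype.equivFin O⟩
  -- orbits
  have horbits : ∀ k, HasOrbits ρ1.range.subtype k → HasOrbits ρ (m' * k) := by
    rintro k ⟨f, hf0, hf⟩
    let f' : Fin m' × Fin k → V := fun ij => ∑ y : O, if eO y ≤ ij.1 then Φ (t y) (f ij.2 : V) else 0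
    have hval : ∀ ij (z : O), z.1 (f' ij) = if eO z ≤ ij.1 then Φ (t z) (f ij.2 : V) else 0 := by
      intro ij z
      simp only [f', map_sum]
      rw [Finset.sum_eq_single z (fun y _ hne => ?_) (fun h => absurd (Finset.mem_univ z) h)]
      · split_ifs
        · exact hty z _
        · exact map_zero _
      · split_ifs
        · exact hty0 y z _ (Ne.symm hne)
        · exact map_zero _
    have hnz : ∀ ij (z : O), z.1 (f' ij) ≠ 0 ↔ eO z ≤ ij.1 := by
      intro ij z
      rw [hval]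
      split_ifs with h
      · refine iff_of_true (fun e0 => hf0 ij.2 (Subtype.ext ?_)) h
        have := congrArg (Φ (t z)⁻¹) e0
        rwa [hΦΦ, map_zero] at this
      · exact iff_of_false (fun h' => h' rfl) h
    refine ⟨fun i => f' (finProdFinEquiv.symm i), fun i hi => ?_, fun i j g hg => finProdFinEquiv.symm.injective ?_⟩
    · set ij := finProdFinEquiv.symm i
      exact (hnz ij (eO.symm ij.1)).mpr (by rw [Equiv.apply_symm_apply]) (by rw [show f' ij = 0 from hi, map_zero])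
    set ij := finProdFinEquiv.symm i
    set kl := finProdFinEquiv.symm j
    have hg' : Φ g (f' ij) = f' kl := hg
    have hmove : ∀ z : O, Φ g (z.1 (f' ij)) = (g • z).1 (f' kl) := fun z => by rw [happ, hg']
    have hiff : ∀ z : O, eO (g • z) ≤ kl.1 ↔ eO z ≤ ij.1 := fun z => by
      rw [← hnz kl, ← hnz ij, ← hmove]
      refine not_congr ⟨fun h => ?_, fun h => by rw [h, map_zero]⟩
      have := congrArg (Φ g⁻¹) h
      rwa [hΦΦ, map_zero] at this
    have h1 : ij.1 = kl.1 := by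
      let σ : Fin m' ≃ Fin m' := eO.symm.trans ((MulAction.toPerm g).trans eO)
      have hσ : (Finset.Iic ij.1).map σ.toEmbedding = Finset.Iic kl.1 := by
        ext x
        rw [Finset.mem_map_equiv, Finset.mem_Iic, Finset.mem_Iic]
        have h0 := hiff (g⁻¹ • eO.symm x)
        rw [smul_inv_smul, Equiv.apply_symm_apply] at h0
        exact h0.symm
      have := congrArg Finset.card hσ
      rw [Finset.card_map, Fin.card_Iic, Fin.card_Iic] at this
      exact Fin.ext (by omega)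
    refine Prod.ext h1 ?_
    set z := eO.symm ij.1
    have hz : eO z ≤ ij.1 := by rw [Equiv.apply_symm_apply]
    have h2 := hmove z
    rw [hval, hval, if_pos hz, if_pos ((hiff z).mpr hz)] at h2
    have hs : (t (g • z))⁻¹ * g * t z ∈ Gst := by
      show ((t (g • z))⁻¹ * g * t z) • ε = ε
      rw [mul_smul, mul_smul, ht, inv_smul_eq_iff, ht]
    refine hf ij.2 kl.2 ⟨ρ1 ⟨_, hs⟩, _, rfl⟩ (Subtype.ext ?_)
    show Φ ((t (g • z))⁻¹ * g * t z) (f ij.2 : V) = f kl.2
    rw [map_mul, map_mul, Module.End.mul_apply, Module.End.mul_apply, h2, hΦΦ]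
  -- assembling
  refine ⟨lift A1, m' * m, a, e, Pp * P ^ m', hlift_normal A1 hA1n, ?_, ?_, ha, he, ?_, ?_, ?_, ?_,
    horbits m horb, ?_, ?_, fun _ => ?_, fun R hRn hR => ?_⟩
  · intro x hx y hy
    obtain ⟨hxK, hx⟩ := (hlift_mem _ _).mp hx
    obtain ⟨hyK, hy⟩ := (hlift_mem _ _).mp hy
    exact congrArg Subtype.val (hfaith (⟨x, hxK⟩ * ⟨y, hyK⟩) (⟨y, hyK⟩ * ⟨x, hxK⟩) fun z => by
      rw [map_mul, map_mul, hA1c _ (hx z) _ (hy z)])
  · exact Nat.mul_pos (by omega) hm
  · rw [hn]
    calc a * e * (m' * m) = m' * (a * e * m) := by ring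
      _ ≤ _ := Nat.mul_le_mul_left _ hdim
  · calc (Pp * P ^ m') ^ 3 = Pp ^ 3 * (P ^ 3) ^ m' := by rw [mul_pow, ← pow_mul, ← pow_mul, mul_comm m']
      _ ≤ 24 ^ (m' - 1) * (24 ^ (m - 1)) ^ m' := Nat.mul_le_mul hPp (Nat.pow_le_pow_left hP _)
      _ = 24 ^ (m' * m - 1) := by
        rw [← pow_mul, ← pow_add]
        congr 1
        obtain ⟨k, rfl⟩ : ∃ k, m = k + 1 := ⟨m - 1, by omega⟩
        rw [Nat.add_sub_cancel, Nat.mul_succ, mul_comm k]
        omega
  · refine le_trans ?_ ((hlift_index (Subgroup.centralizer (A1 : Set ρ1.range)) inferInstance).trans (le_trans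
      (Nat.mul_le_mul_left _ (Nat.pow_le_pow_left hI m')) (le_of_eq (by rw [mul_pow, ← pow_mul, mul_comm m']; ring))))
    refine Nat.le_of_dvd (Nat.pos_of_ne_zero Subgroup.index_ne_zero_of_finite) (Subgroup.index_dvd_of_le ?_)
    intro x hx
    obtain ⟨hxK, hx⟩ := (hlift_mem _ _).mp hx
    rw [Subgroup.mem_centralizer_iff]
    intro y hy
    obtain ⟨hyK, hy⟩ := (hlift_mem _ _).mp hy
    exact congrArg Subtype.val (hfaith (⟨y, hyK⟩ * ⟨x, hxK⟩) (⟨x, hxK⟩ * ⟨y, hyK⟩) fun z => by
      rw [map_mul, map_mul]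
      exact Subgroup.mem_centralizer_iff.mp (hx z) _ (hy z))
  · refine (hlift_index A1 hA1n).trans ((Nat.mul_le_mul_left _ (Nat.pow_le_pow_left hJ m')).trans (le_of_eq ?_))
    rw [mul_pow, mul_pow, ← pow_mul, ← pow_mul]
    ring
  · intro h1 h2 h3
    have := horbits (2 * m) (horb13 h1 h2 h3)
    rwa [mul_left_comm] at this
  · intro hV hE
    exfalso
    rw [hn] at hV
    subst hE
    have h1 : 2 ≤ a * 2 * m := by
      calc 2 = 1 * 2 * 1 := rfl
        _ ≤ a * 2 * m := Nat.mul_le_mul (Nat.mul_le_mul_right _ ha) hm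
    have h2 : 2 * 2 ≤ m' * finrank (ZMod p) W := Nat.mul_le_mul hm2 (h1.trans hdim)
    omega
  · intro htop
    obtain ⟨y, hy⟩ := Fintype.exists_ne_of_one_lt_card (by omega : 1 < Fintype.card O) ε
    obtain ⟨hgK, -⟩ := (hlift_mem A1 (t y)).mp (htop ▸ Subgroup.mem_top _)
    exact hy ((ht y).symm.trans (hK _ hgK ε))
  · -- normal subgroups of prime order
    by_cases hRK : R ≤ K
    swap
    · refine Or.inl (le_trans ?_ (Nat.le_mul_of_pos_right _ hm))
      obtain ⟨g, hgR, hgK⟩ := SetLike.not_le_iff_exists.mp hRK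
      have hd : orderOf g ∣ Nat.card R := R.orderOf_dvd_natCard hgR
      have hd' : orderOf (perm g) ∣ Nat.card R := (orderOf_map_dvd perm g).trans hd
      rcases (Nat.dvd_prime hR).mp hd' with h | h
      · exact absurd (orderOf_eq_one_iff.mp h) hgK
      · have h1 := orderOf_dvd_natCard (perm g)
        rw [h, Nat.card_perm, Nat.card_eq_fintype_card (α := O)] at h1
        exact hR.dvd_factorial.mp h1
    haveI := hRn
    let R1 : Subgroup ρ1.range := (R.subgroupOf Gst).map ρ1.rangeRestrict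
    haveI : R1.Normal := Subgroup.Normal.map inferInstance _ ρ1.rangeRestrict_surjective
    have hRst : R ≤ Gst := fun g hg => hK g (hRK hg) ε
    have hcard : Nat.card R1 ∣ Nat.card R := by
      rw [← Nat.card_congr (Subgroup.subgroupOfEquivOfLe hRst).toEquiv]
      exact Subgroup.card_map_dvd _ _
    have hmem : ∀ (y : O) (h : K), (h : G) ∈ R → comp y h ∈ R1 := fun y h hh => by
      refine ⟨⟨_, hKst h y⟩, ?_, rfl⟩
      have := hRn.conj_mem _ hh (t y)⁻¹
      rwa [inv_inv] at this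
    rcases (Nat.dvd_prime hR).mp hcard with h | h
    · exfalso
      obtain ⟨g, hgR, hg⟩ := (Subgroup.bot_or_exists_ne_one R).resolve_left
        (fun h0 => hR.ne_one (by rw [h0, Subgroup.card_bot]))
      refine hg (congrArg Subtype.val (hfaith ⟨g, hRK hgR⟩ 1 fun y => ?_))
      rw [map_one, ← Subgroup.mem_bot, ← Subgroup.card_eq_one.mp h]
      exact hmem y _ hgR
    · rcases hprime R1 inferInstance (h ▸ hR) with h' | h'
      · exact Or.inl (h ▸ h'.trans (Nat.le_mul_of_pos_left m (by omega)))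
      · exact Or.inr (h ▸ h')

/-- Irreducible solvable linear groups have data. -/
theorem data_of_irr : ∀ (n : ℕ) {G V : Type} [Group G] [Finite G] [Group.IsSolvable G] [AddCommGroup V]
    [Module (ZMod p) V] [Finite V] [Nontrivial V] (ρ : G →* (V ≃ₗ[ZMod p] V)), Function.Injective ρ → IrrRep ρ →
      finrank (ZMod p) V = n → HasData ρ := by
  intro n
  induction n using Nat.strong_induction_on with
  | _ n ih =>
    intro G V _ _ _ _ _ _ _ ρ hρ hirr hn
    rcases nonSingular_or_blockSys hirr with h | h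
    · exact data_of_nonSingular ρ hρ h
    · obtain ⟨B⟩ := h
      exact data_of_blockSys ρ hρ hirr B fun ρ' hρ' hirr' hlt => ih _ (hn ▸ hlt) ρ' hρ' hirr' rfl

end Cfsg.Agent.SolvClassNum
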