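import Cfsg.Agent.EqLemmas
import Mathlib.Data.Fintype.Basic
import Mathlib.Tactic

/-! The six sets of five pairwise non-orthogonal vectors of the symplectic space of sixteen vectors. -/

set_option autoImplicit false

namespace Cfsg.Agent.SolvClassNum

/-- The symplectic form on bit vectors. -/
def sp4 (u v : Fin 16) : Bool :=
  let b := fun (x : Fin 16) (i : Nat) => x.val.testBit i
  ((b u 0 && b v 1) != (b u 1 && b v 0)) != ((b u 2 && b v 3) != (b u 3 && b v 2))

/-- The six sets. -/
def ov (i : Fin 6) : List (Fin 16) :=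
  match i.val with
  | 0 => [1, 2, 7, 11, 15]
  | 1 => [1, 3, 6, 10, 14]
  | 2 => [2, 3, 5, 9, 13]
  | 3 => [4, 8, 13, 14, 15]
  | 4 => [4, 9, 10, 11, 12]
  | _ => [5, 6, 7, 8, 12]

theorem ov_clique : ∀ i : Fin 6, ∀ u ∈ ov i, ∀ v ∈ ov i, u = v ∨ sp4 u v = true := by decide +kernel

theorem ov_nodup : ∀ i : Fin 6, (ov i).Nodup ∧ (ov i).length = 5 := by decide +kernel

/-- The extension property at four vectors, as a test. -/
def extOK (a b c d : Fin 16) : Bool :=
  !(sp4 a c && sp4 b c && sp4 a d && sp4 b d && sp4 c d) ||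
    (List.finRange 6).any fun i => (ov i).contains a && (ov i).contains b && (ov i).contains c && (ov i).contains d &&
      (List.finRange 16).all fun e => !(sp4 a e && sp4 b e && sp4 c e && sp4 d e) || (ov i).contains e

theorem extOK_all : ((List.finRange 16).all fun a => (List.finRange 16).all fun b => !sp4 a b ||
    ((List.finRange 16).all fun c => !(sp4 a c && sp4 b c) ||
      (List.finRange 16).all fun d => extOK a b c d)) = true := by
  decide +kernel

theorem ov_extend (a b : Fin 16) (hab : sp4 a b = true) (c : Fin 16) (hac : sp4 a c = true) (hbc : sp4 b c = true)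
    (d : Fin 16) (had : sp4 a d = true) (hbd : sp4 b d = true) (hcd : sp4 c d = true) :
      ∃ i : Fin 6, a ∈ ov i ∧ b ∈ ov i ∧ c ∈ ov i ∧ d ∈ ov i ∧
        ∀ e : Fin 16, sp4 a e = true → sp4 b e = true → sp4 c e = true → sp4 d e = true → e ∈ ov i := by
  have h := extOK_all
  simp only [List.all_eq_true, List.mem_finRange, Bool.or_eq_true, Bool.not_eq_true', Bool.and_eq_false_iff,
    forall_const] at h
  have h1 := ((h a b).resolve_left (by simp [hab]) c).resolve_left (by simp [hac, hbc]) d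
  simp only [extOK, hac, hbc, had, hbd, hcd, Bool.and_self, Bool.not_true, Bool.false_or, List.any_eq_true,
    List.mem_finRange, true_and, Bool.and_eq_true, List.all_eq_true, List.contains_iff_mem, forall_const,
    Bool.or_eq_true] at h1
  obtain ⟨i, ⟨⟨⟨h2, h3⟩, h4⟩, h5⟩, h6⟩ := h1
  exact ⟨i, h2, h3, h4, h5, fun e e1 e2 e3 e4 => (h6 e).resolve_left (by simp [e1, e2, e3, e4])⟩

theorem ov_unique : ∀ i k : Fin 6, (∀ u ∈ ov i, u ∈ ov k) → i = k := by decide +kernel

theorem ov_separate : ∀ u v : Fin 16, u ≠ 0 → (∀ i : Fin 6, u ∈ ov i → v ∈ ov i) → v = u := by decide +kernel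

/-- A form preserving injective map permutes the six sets. -/
theorem ov_image (f : Fin 16 → Fin 16) (hinj : Function.Injective f) (hf : ∀ u v, sp4 (f u) (f v) = sp4 u v)
    (i : Fin 6) : ∃! k : Fin 6, ∀ u ∈ ov i, f u ∈ ov k := by
  obtain ⟨hnd, hlen⟩ := ov_nodup i
  obtain ⟨a, b, c, d, e, hl⟩ : ∃ a b c d e, ov i = [a, b, c, d, e] := by
    rcases h : ov i with _ | ⟨a, _ | ⟨b, _ | ⟨c, _ | ⟨d, _ | ⟨e, _ | ⟨x, l⟩⟩⟩⟩⟩⟩ <;> rw [h] at hlen <;>
      simp at hlen
    exact ⟨a, b, c, d, e, rfl⟩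
  rw [hl] at hnd
  have hs : ∀ u v, u ∈ ov i → v ∈ ov i → u ≠ v → sp4 (f u) (f v) = true := fun u v hu hv hne => by
    rw [hf]; exact (ov_clique i u hu v hv).resolve_left hne
  simp only [List.nodup_cons, List.mem_cons, List.not_mem_nil, or_false, not_or] at hnd
  obtain ⟨⟨hab, hac, had, hae⟩, ⟨hbc, hbd, hbe⟩, ⟨hcd, hce⟩, hde, -⟩ := hnd
  have ha : a ∈ ov i := by simp [hl]
  have hb : b ∈ ov i := by simp [hl]
  have hc : c ∈ ov i := by simp [hl]
  have hd : d ∈ ov i := by simp [hl]
  have he : e ∈ ov i := by simp [hl]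
  obtain ⟨k, h1, h2, h3, h4, h5⟩ := ov_extend (f a) (f b) (hs a b ha hb hab) (f c) (hs a c ha hc hac)
    (hs b c hb hc hbc) (f d) (hs a d ha hd had) (hs b d hb hd hbd) (hs c d hc hd hcd)
  have h6 := h5 (f e) (hs a e ha he hae) (hs b e hb he hbe) (hs c e hc he hce) (hs d e hd he hde)
  have hall : ∀ u ∈ ov i, f u ∈ ov k := by
    intro u hu
    rw [hl] at hu
    simp only [List.mem_cons, List.not_mem_nil, or_false] at hu
    rcases hu with rfl | rfl | rfl | rfl | rfl <;> assumption
  refine ⟨k, hall, fun k' hk' => ?_⟩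
  refine ov_unique k' k fun u hu => ?_
  -- `ov k'` consists of the five images
  have hsub : (ov i).map f ⊆ ov k' := by
    intro x hx
    obtain ⟨u, hu, rfl⟩ := List.mem_map.mp hx
    exact hk' u hu
  have hnd' : ((ov i).map f).Nodup := (ov_nodup i).1.map hinj
  have hperm : ((ov i).map f).Perm (ov k') := (List.subperm_of_subset hnd' hsub).perm_of_length_le (by
    simp [(ov_nodup i).2, (ov_nodup k').2])
  obtain ⟨u', hu', rfl⟩ := List.mem_map.mp (hperm.symm.subset hu)
  exact hall u' hu'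

end Cfsg.Agent.SolvClassNum
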