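import Cfsg.Agent.Lib.SolvClassNum.SpFun
import Cfsg.Agent.Lib.SolvClassNum.PermBound
import Cfsg.Agent.Lib.SolvClassNum.Ovoid
import Mathlib.GroupTheory.SpecificGroups.Cyclic
import Mathlib.Algebra.Squarefree.Basic

/-! The order of a solvable group of isometries of an alternating pairing. -/

set_option autoImplicit false
set_option linter.style.haveILetI false

namespace Cfsg.Agent.SolvClassNum

open MulAction

/-- A group of isometries of a nondegenerate alternating pairing. -/
structure IsoPair (Γ X Z : Type*) [Group Γ] [CommGroup X] [CommGroup Z] [MulDistribMulAction Γ X]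
    (β : X →* X →* Z) : Prop where
  alt : ∀ x, β x x = 1
  nd : ∀ x, (∀ y, β x y = 1) → x = 1
  inv : ∀ (g : Γ) x y, β (g • x) (g • y) = β x y
  sqf : ∀ x : X, Squarefree (orderOf x)

variable {Z : Type*} [CommGroup Z] [Finite Z] [IsCyclic Z]

section Split

variable {Γ X : Type*} [Group Γ] [Finite Γ] [CommGroup X] [Finite X] [MulDistribMulAction Γ X] {β : X →* X →* Z}

theorem IsoPair.skew (h : IsoPair Γ X Z β) (x y : X) : β y x = (β x y)⁻¹ := by
  have h1 := h.alt (x * y)
  simp only [map_mul, MonoidHom.mul_apply, h.alt, one_mul, mul_one] at h1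
  exact eq_inv_of_mul_eq_one_left h1

theorem IsoPair.pow_eq_one (h : IsoPair Γ X Z β) {r : ℕ} (hr : r.Prime) {x : X} {k : ℕ} (hx : x ^ r ^ k = 1) :
    x ^ r = 1 := by
  obtain ⟨i, -, hi⟩ := (Nat.dvd_prime_pow hr).mp (orderOf_dvd_of_pow_eq_one hx)
  have hi1 : i ≤ 1 := by
    by_contra hi1
    have h2 : r * r ∣ orderOf x := by rw [hi, ← pow_two]; exact pow_dvd_pow r (by omega)
    exact hr.not_isUnit (h.sqf x r h2)
  refine orderOf_dvd_iff_pow_eq_one.mp ?_
  rw [hi]
  exact (pow_dvd_pow r hi1).trans (by rw [pow_one])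

/-- The elements of order dividing `r` form the Sylow subgroup. -/
theorem IsoPair.card_torsion (h : IsoPair Γ X Z β) {r e j : ℕ} (hr : r.Prime) (he : Nat.card X = e * e)
    (hj : r ^ j ∣ e) (hj1 : ¬ r ^ (j + 1) ∣ e) : Nat.card {x : X // x ^ r = 1} = r ^ (2 * j) := by
  haveI := Fact.mk hr
  obtain ⟨P⟩ : Nonempty (Sylow r X) := inferInstance
  have hP : Nat.card (P : Subgroup X) = r ^ (2 * j) := by
    rw [Sylow.card_eq_multiplicity, he]
    congr 1
    have he0 : e ≠ 0 := fun e0 => by rw [e0, zero_mul] at he; exact Nat.card_pos.ne' he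
    have h2 : e.factorization r = j := by
      have h3 := (hr.pow_dvd_iff_le_factorization he0).mp hj
      have h4 := mt (hr.pow_dvd_iff_le_factorization he0).mpr hj1
      omega
    rw [Nat.factorization_mul he0 he0, Finsupp.add_apply, h2, two_mul]
  rw [← hP]
  refine Nat.card_congr (Equiv.subtypeEquivRight fun x => ?_)
  constructor
  · intro hx
    have hpg : IsPGroup r (Subgroup.zpowers x) := fun y => ⟨1, Subtype.ext (by
      obtain ⟨i, hi⟩ := Subgroup.mem_zpowers_iff.mp y.2
      rw [pow_one, SubgroupClass.coe_pow, ← hi, ← zpow_natCast, ← zpow_mul, mul_comm, zpow_mul, zpow_natCast, hx,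
        one_zpow]
      rfl)⟩
    obtain ⟨Q, hQ⟩ := hpg.exists_le_sylow
    haveI := Sylow.unique_of_normal P inferInstance
    rw [Subsingleton.elim P Q]
    exact hQ (Subgroup.mem_zpowers x)
  · intro hx
    obtain ⟨k, hk⟩ := P.2 ⟨x, hx⟩
    exact h.pow_eq_one hr (k := k) (by simpa using congrArg Subtype.val hk)

theorem pow_mem_of_pow_eq_one {r : ℕ} (hr : r.Prime) {c w : Z} (hc : c ^ r = 1) (hc1 : c ≠ 1) (hw : w ^ r = 1) :
    ∃ a : Fin r, w = c ^ (a : ℕ) := by
  haveI := Fact.mk hr
  have hord : orderOf c = r := orderOf_eq_prime hc hc1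
  classical
  haveI := Fintype.ofFinite Z
  have hw' : w ∈ Subgroup.zpowers c := by
    have hle : (Subgroup.zpowers c : Set Z) ⊆ ↑(Finset.univ.filter fun z : Z => z ^ r = 1) := fun z hz => by
      obtain ⟨i, rfl⟩ := Subgroup.mem_zpowers_iff.mp hz
      simp only [Finset.coe_filter, Finset.mem_univ, true_and, Set.mem_ofPred_eq]
      rw [← zpow_natCast, ← zpow_mul, mul_comm, zpow_mul, zpow_natCast, hc, one_zpow]
    have heq := Set.eq_of_subset_of_ncard_le hle (by
      rw [Set.ncard_coe_finset, ← Nat.card_coe_set_eq]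
      refine le_trans (IsCyclic.card_pow_eq_one_le hr.pos) ?_
      rw [show Nat.card ↑(Subgroup.zpowers c : Set Z) = Nat.card (Subgroup.zpowers c) from rfl, Nat.card_zpowers,
        hord]) (Set.toFinite _)
    show w ∈ (Subgroup.zpowers c : Set Z)
    rw [heq]
    simp [hw]
  obtain ⟨k, hk, hk'⟩ := (mem_zpowers_iff_mem_range_orderOf).mp hw' |> Finset.mem_image.mp
  exact ⟨⟨k, hord ▸ Finset.mem_range.mp hk⟩, hk'.symm⟩

/-- A hyperbolic pair splits off. -/
theorem IsoPair.split (h : IsoPair Γ X Z β) {r : ℕ} (hr : r.Prime) (hrX : r ∣ Nat.card X) :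
    ∃ x y : X, x ^ r = 1 ∧ x ≠ 1 ∧ y ^ r = 1 ∧ β x y ≠ 1 ∧
      ∀ z : X, ∃ (a b : Fin r) (w : X), β x w = 1 ∧ β y w = 1 ∧ z = x ^ (a : ℕ) * y ^ (b : ℕ) * w := by
  haveI := Fact.mk hr
  obtain ⟨x, hx⟩ := exists_prime_orderOf_dvd_card' (G := X) r hrX
  have hxr : x ^ r = 1 := hx ▸ pow_orderOf_eq_one x
  have hx1 : x ≠ 1 := fun e => hr.ne_one (by rw [← hx, e, orderOf_one])
  obtain ⟨y', hy'⟩ : ∃ y, β x y ≠ 1 := by
    by_contra hc
    push Not at hc
    exact hx1 (h.nd x hc)
  have hcr : ∀ z, β x z ^ r = 1 := fun z => by rw [← MonoidHom.pow_apply, ← map_pow, hxr, map_one, MonoidHom.one_apply]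
  obtain ⟨u, hu⟩ : r ∣ orderOf y' := by
    have h1 : orderOf (β x y') = r := orderOf_eq_prime (hcr y') hy'
    have h2 := orderOf_map_dvd (β x) y'
    rwa [h1] at h2
  have hru : ¬ r ∣ u := fun ⟨v, hv⟩ => hr.not_isUnit (h.sqf y' r ⟨v, by rw [hu, hv]; ring⟩)
  set y := y' ^ u
  have hyr : y ^ r = 1 := by rw [← pow_mul, mul_comm, ← hu, pow_orderOf_eq_one]
  have hxy : β x y ≠ 1 := by
    rw [map_pow]
    intro e
    refine hru ?_
    rw [← orderOf_eq_prime (hcr y') hy']
    exact orderOf_dvd_of_pow_eq_one e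
  refine ⟨x, y, hxr, hx1, hyr, hxy, fun z => ?_⟩
  set c := β x y
  obtain ⟨b, hb⟩ := pow_mem_of_pow_eq_one hr (hcr y) hxy (hcr z)
  have hyz : β y z ^ r = 1 := by rw [← MonoidHom.pow_apply, ← map_pow, hyr, map_one, MonoidHom.one_apply]
  obtain ⟨a, ha⟩ := pow_mem_of_pow_eq_one (c := β y x) hr
    (by rw [← MonoidHom.pow_apply, ← map_pow, hyr, map_one, MonoidHom.one_apply])
    (by rw [h.skew x y]; exact inv_ne_one.mpr hxy) hyz
  refine ⟨a, b, (x ^ (a : ℕ) * y ^ (b : ℕ))⁻¹ * z, ?_, ?_, by group⟩
  · simp only [map_mul, map_inv, map_pow, h.alt, one_pow, one_mul, hb]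
    exact inv_mul_cancel _
  · simp only [map_mul, map_inv, map_pow, h.alt, one_pow, mul_one, ha]
    exact inv_mul_cancel _

end Split

/-- The general step and the case of sixteen vectors. -/
theorem isometry_bound : ∀ (e : ℕ) {Γ X : Type} [Group Γ] [Finite Γ] [Group.IsSolvable Γ] [CommGroup X] [Finite X]
    [MulDistribMulAction Γ X] [FaithfulSMul Γ X] {β : X →* X →* Z}, IsoPair Γ X Z β → Nat.card X = e * e →
    Nat.card Γ ≤ spBound e := by
  intro e
  induction e using Nat.strong_induction_on with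
  | _ e ih =>
    intro Γ X _ _ _ _ _ _ _ β h he
    classical
    have he0 : e ≠ 0 := fun e0 => by rw [e0, zero_mul] at he; exact Nat.card_pos.ne' he
    by_cases he1 : e = 1
    · subst he1
      obtain ⟨hs, -⟩ := Nat.card_eq_one_iff_unique.mp he
      have : Subsingleton Γ := ⟨fun a b => eq_of_smul_eq_smul fun x : X => Subsingleton.elim _ _⟩
      rw [spBound_one, Nat.card_eq_one_iff_unique.mpr ⟨this, inferInstance⟩]
    by_cases h4 : e = 4
    · subst h4
      rw [spBound_four]
      haveI := Fact.mk Nat.prime_two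
      have hexp : ∀ x : X, x ^ 2 = 1 := fun x =>
        h.pow_eq_one Nat.prime_two (k := 4) (orderOf_dvd_iff_pow_eq_one.mp ((orderOf_dvd_natCard x).trans (by rw [he]; norm_num)))
      obtain ⟨x1, y1, -, -, -, hc1, hz1⟩ := h.split Nat.prime_two (by rw [he]; norm_num)
      set c := β x1 y1
      have hinv : ∀ z : Z, z ^ 2 = 1 → z⁻¹ = z := fun z hz => inv_eq_of_mul_eq_one_right (by rw [← pow_two, hz])
      have hsq : ∀ u v, β u v ^ 2 = 1 := fun u v => by rw [← map_pow, hexp, map_one]
      have hsym : ∀ u v, β v u = β u v := fun u v => by rw [h.skew u v, hinv _ (hsq u v)]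
      -- a second pair
      have hW : ∃ x2 y2, β x1 x2 = 1 ∧ β y1 x2 = 1 ∧ β x1 y2 = 1 ∧ β y1 y2 = 1 ∧ β x2 y2 = c := by
        obtain ⟨w0, hw01, hw0, hw01'⟩ : ∃ w, β x1 w = 1 ∧ β y1 w = 1 ∧ w ≠ 1 := by
          by_contra hc
          push Not at hc
          have hsur : Function.Surjective (fun ab : Fin 2 × Fin 2 => x1 ^ (ab.1 : ℕ) * y1 ^ (ab.2 : ℕ)) := fun z => by
            obtain ⟨a, b, w, hw1, hw2, rfl⟩ := hz1 z
            exact ⟨(a, b), by rw [hc w hw1 hw2, mul_one]⟩
          have := Nat.card_le_card_of_surjective _ hsur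
          simp at this
          omega
        obtain ⟨v, hv⟩ : ∃ v, β w0 v ≠ 1 := by
          by_contra hc
          push Not at hc
          exact hw01' (h.nd w0 hc)
        obtain ⟨a, b, w, hw1, hw2, rfl⟩ := hz1 v
        refine ⟨w0, w, hw01, hw0, hw1, hw2, ?_⟩
        have e1 : β w0 x1 = 1 := (hsym x1 w0).trans hw01
        have e2 : β w0 y1 = 1 := (hsym y1 w0).trans hw0
        simp only [map_mul, map_pow, e1, e2, one_pow, one_mul] at hv
        obtain ⟨i, hi⟩ := pow_mem_of_pow_eq_one Nat.prime_two (hsq x1 y1) hc1 (hsq w0 w)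
        fin_cases i
        · exact absurd (by simpa using hi) hv
        · simpa using hi
      obtain ⟨x2, y2, e12, f12, e14, f14, hc2⟩ := hW
      let φ : Fin 16 → X := fun u => x1 ^ (u.val.testBit 0).toNat * y1 ^ (u.val.testBit 1).toNat *
        x2 ^ (u.val.testBit 2).toNat * y2 ^ (u.val.testBit 3).toNat
      have hφ : ∀ u v, β (φ u) (φ v) = c ^ (sp4 u v).toNat := by
        intro u v
        have hcc : c * c = 1 := by rw [← pow_two]; exact hsq x1 y1
        have key : ∀ b0 b1 b2 b3 d0 d1 d2 d3 : Bool,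
            β (x1 ^ b0.toNat * y1 ^ b1.toNat * x2 ^ b2.toNat * y2 ^ b3.toNat)
              (x1 ^ d0.toNat * y1 ^ d1.toNat * x2 ^ d2.toNat * y2 ^ d3.toNat) =
            c ^ ((((b0 && d1) != (b1 && d0)) != ((b2 && d3) != (b3 && d2))).toNat) := by
          intro b0 b1 b2 b3 d0 d1 d2 d3
          simp only [map_mul, map_pow, MonoidHom.mul_apply, MonoidHom.pow_apply, h.alt, e12, f12, e14, f14, hc2,
            hsym x1 y1, hsym x1 x2, hsym y1 x2, hsym x1 y2, hsym y1 y2, hsym x2 y2, one_pow, one_mul, mul_one]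
          cases b0 <;> cases b1 <;> cases b2 <;> cases b3 <;> cases d0 <;> cases d1 <;> cases d2 <;> cases d3 <;>
            simp [hcc, show β x1 y1 = c from rfl]
        exact key _ _ _ _ _ _ _ _
      have hφinj : Function.Injective φ := by
        intro u v huv
        have hsame : ∀ z, sp4 u z = sp4 v z := fun z => by
          have := hφ u z
          rw [huv, hφ v z] at this
          rcases hu : sp4 u z <;> rcases hv : sp4 v z <;> simp_all
        have : ∀ u v : Fin 16, (∀ z, sp4 u z = sp4 v z) → u = v := by decide +kernel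
        exact this u v hsame
      let Φ : Fin 16 ≃ X := Equiv.ofBijective φ (hφinj.bijective_of_nat_card_le (by rw [he]; simp))
      let f : Γ → Fin 16 → Fin 16 := fun g u => Φ.symm (g • φ u)
      have hfinj : ∀ g, Function.Injective (f g) := fun g => Φ.symm.injective.comp ((MulAction.injective g).comp hφinj)
      have hΦ : ∀ z, φ (Φ.symm z) = z := Φ.apply_symm_apply
      have hfsp : ∀ g u v, sp4 (f g u) (f g v) = sp4 u v := fun g u v => by
        have := hφ (f g u) (f g v)
        rw [hΦ, hΦ, h.inv, hφ] at this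
        rcases hu : sp4 u v <;> rcases hv : sp4 (f g u) (f g v) <;> simp_all
      have hfmul : ∀ g k u, f (g * k) u = f g (f k u) := fun g k u => by
        show Φ.symm ((g * k) • φ u) = Φ.symm (g • φ (Φ.symm (k • φ u)))
        rw [hΦ, mul_smul]
      choose σ hσ hσu using fun g i => ov_image (f g) (hfinj g) (hfsp g) i
      letI : MulAction Γ (Fin 6) :=
        { smul := σ
          one_smul := fun i => (hσu 1 i i (fun u hu => by
            rwa [show f 1 u = u by show Φ.symm ((1 : Γ) • φ u) = u; rw [one_smul]; exact Φ.symm_apply_apply u])).symm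
          mul_smul := fun g k i => (hσu (g * k) i _ (fun u hu => by
            rw [hfmul]; exact hσ g _ _ (hσ k i u hu))).symm }
      let π : Γ →* Equiv.Perm (Fin 6) := MulAction.toPermHom Γ (Fin 6)
      have hπ : Function.Injective π := by
        rw [injective_iff_map_eq_one]
        intro g hg
        refine eq_of_smul_eq_smul fun z : X => ?_
        rw [one_smul]
        obtain ⟨u, rfl⟩ := Φ.surjective z
        by_cases hu : u = 0
        · have : φ 0 = 1 := by simp [φ]
          show g • φ u = φ u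
          rw [hu, this, smul_one]
        have hfix : f g u = u := ov_separate u (f g u) hu fun i hi => by
          have := hσ g i u hi
          rwa [show σ g i = i from Equiv.ext_iff.mp hg i] at this
        calc g • φ u = φ (f g u) := (hΦ _).symm
          _ = φ u := by rw [hfix]
      have hcard : Nat.card Γ = Nat.card π.range := Nat.card_congr (MonoidHom.ofInjective hπ).toEquiv
      have hdvd : Nat.card Γ ∣ 720 := by
        rw [hcard]
        refine (Subgroup.card_subgroup_dvd_card _).trans (dvd_of_eq ?_)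
        rw [Nat.card_perm, Nat.card_fin]; rfl
      have hcube := solvable_perm_cube π
      rw [← hcard, Nat.card_fin] at hcube
      have h199 : Nat.card Γ < 200 := by
        by_contra h200
        have : 200 ^ 3 ≤ Nat.card Γ ^ 3 := Nat.pow_le_pow_left (by omega) 3
        norm_num at this hcube
        omega
      have hdec : ∀ k < 200, k ∣ 720 → k ≤ 180 := by decide +kernel
      exact hdec _ h199 hdvd
    obtain ⟨r, j, hr, hre, hj0, hj, hj1, hstep⟩ := spBound_step (e := e) (by omega) h4
    rw [hstep]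
    haveI := Fact.mk hr
    obtain ⟨x, y, hxr, hx1, hyr, hxy, hz⟩ := h.split hr (he ▸ hre.mul_right e)
    have htor := h.card_torsion hr he hj hj1
    have hskew : β y x ≠ 1 := by rw [h.skew x y]; exact inv_ne_one.mpr hxy
    -- first orbit
    have ho1 : (orbit Γ x).ncard ≤ r ^ (2 * j) - 1 := by
      rw [← htor]
      have hsub : orbit Γ x ⊆ {z | z ^ r = 1} \ {1} := by
        rintro _ ⟨g, rfl⟩
        exact ⟨by show (g • x) ^ r = 1; rw [← smul_pow', hxr, smul_one], fun e1 => hx1 (by
          have e2 : g • x = g • (1 : X) := by rw [smul_one]; exact e1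
          exact MulAction.injective g e2)⟩
      refine (Set.ncard_le_ncard hsub (Set.toFinite _)).trans (le_of_eq ?_)
      rw [Set.ncard_sdiff_singleton_of_mem (show (1 : X) ∈ {z : X | z ^ r = 1} from one_pow r), ← Nat.card_coe_set_eq]
      rfl
    -- second orbit
    set S := stabilizer Γ x
    have ho2 : (orbit S y).ncard ≤ r ^ (2 * j - 1) := by
      let T : Subgroup X := (powMonoidHom r : X →* X).ker
      let ψ : T →* Z := (β x).comp T.subtype
      have hTcard : Nat.card T = r ^ (2 * j) := by rw [← htor]; rfl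
      have hyT : y ∈ T := hyr
      have hidx : r ≤ ψ.ker.index := by
        rw [Subgroup.index_ker]
        have h1 : orderOf (β x y) = r := orderOf_eq_prime (by rw [← map_pow, hyr, map_one]) hxy
        calc r = Nat.card (Subgroup.zpowers (β x y)) := by rw [Nat.card_zpowers, h1]
          _ ≤ _ := Subgroup.card_le_of_le (Subgroup.zpowers_le.mpr (MonoidHom.mem_range.mpr ⟨⟨y, hyT⟩, rfl⟩))
      have hker : Nat.card ψ.ker ≤ r ^ (2 * j - 1) := by
        have h1 := ψ.ker.card_mul_index
        rw [hTcard, show 2 * j = 2 * j - 1 + 1 by omega, pow_succ] at h1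
        refine Nat.le_of_mul_le_mul_right ?_ hr.pos
        rw [← h1]
        exact Nat.mul_le_mul_left _ hidx
      refine le_trans ?_ hker
      have hin : ∀ z : orbit S y, (z : X) * y⁻¹ ∈ T ∧ β x ((z : X) * y⁻¹) = 1 := by
        rintro ⟨_, g, rfl⟩
        have hgx : (g : Γ) • x = x := g.2
        refine ⟨?_, ?_⟩
        · show ((g : Γ) • y * y⁻¹) ^ r = 1
          rw [mul_pow, ← smul_pow', inv_pow, hyr, smul_one, inv_one, mul_one]
        · show β x ((g : Γ) • y * y⁻¹) = 1
          rw [map_mul, map_inv, ← hgx, h.inv, hgx, mul_inv_cancel]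
      rw [← Nat.card_coe_set_eq]
      exact Nat.card_le_card_of_injective (fun z : orbit S y => (⟨⟨_, (hin z).1⟩, (hin z).2⟩ : ψ.ker))
        fun a b e1 => Subtype.ext (mul_right_cancel (congrArg (fun t : ψ.ker => ((t : T) : X)) e1))
    -- the rest
    set S2 := stabilizer S y
    let W : Subgroup X := (β x).ker ⊓ (β y).ker
    letI : MulDistribMulAction S2 W :=
      { smul := fun g w => ⟨((g : S) : Γ) • (w : X), by
          have hgx : ((g : S) : Γ) • x = x := (g : S).2
          have hgy : ((g : S) : Γ) • y = y := g.2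
          obtain ⟨w1, w2⟩ := w.2
          refine ⟨?_, ?_⟩
          · show β x _ = 1
            rw [← hgx, h.inv]; exact w1
          · show β y _ = 1
            rw [← hgy, h.inv]; exact w2⟩
        one_smul := fun w => Subtype.ext (one_smul Γ (w : X))
        mul_smul := fun g k w => Subtype.ext (mul_smul ((g : S) : Γ) ((k : S) : Γ) (w : X))
        smul_mul := fun g v w => Subtype.ext (smul_mul' ((g : S) : Γ) (v : X) (w : X))
        smul_one := fun g => Subtype.ext (smul_one ((g : S) : Γ)) }
    haveI : FaithfulSMul S2 W := ⟨fun {a b} hab => by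
      refine Subtype.ext (Subtype.ext (eq_of_smul_eq_smul fun z : X => ?_))
      obtain ⟨i, k, w, hw1, hw2, rfl⟩ := hz z
      have ha1 : ((a : S) : Γ) • x = x := (a : S).2
      have ha2 : ((a : S) : Γ) • y = y := a.2
      have hb1 : ((b : S) : Γ) • x = x := (b : S).2
      have hb2 : ((b : S) : Γ) • y = y := b.2
      simp only [smul_mul', smul_pow', ha1, ha2, hb1, hb2]
      congr 1
      exact congrArg Subtype.val (hab ⟨w, hw1, hw2⟩)⟩
    let β' : W →* W →* Z := MonoidHom.mk' (fun v => (β (v : X)).comp W.subtype)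
      (fun a b => MonoidHom.ext fun w => by simp)
    have hW : IsoPair S2 W Z β' :=
      { alt := fun w => h.alt w
        nd := fun w hw => by
          refine Subtype.ext (h.nd w fun z => ?_)
          obtain ⟨i, k, v, hv1, hv2, rfl⟩ := hz z
          obtain ⟨hwx, hwy⟩ := w.2
          have e1 : β (w : X) x = 1 := by rw [h.skew x, show β x (w : X) = 1 from hwx, inv_one]
          have e2 : β (w : X) y = 1 := by rw [h.skew y, show β y (w : X) = 1 from hwy, inv_one]
          rw [map_mul, map_mul, map_pow, map_pow, e1, e2, one_pow, one_pow, one_mul, one_mul]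
          exact hw ⟨v, hv1, hv2⟩
        inv := fun g v w => h.inv _ _ _
        sqf := fun w => by rw [← Subgroup.orderOf_coe]; exact h.sqf w }
    have hWcard : Nat.card W = (e / r) * (e / r) := by
      have hbij : Function.Bijective
          (fun abw : (Fin r × Fin r) × W => x ^ (abw.1.1 : ℕ) * y ^ (abw.1.2 : ℕ) * (abw.2 : X)) := by
        refine ⟨?_, fun z => ?_⟩
        · rintro ⟨⟨a, b⟩, w⟩ ⟨⟨a', b'⟩, w'⟩ e1
          have hx' := congrArg (β x) e1
          have hy' := congrArg (β y) e1
          simp only [map_mul, map_pow, h.alt, one_pow, one_mul, show β x (w : X) = 1 from w.2.1,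
            show β y (w : X) = 1 from w.2.2, show β x (w' : X) = 1 from w'.2.1, show β y (w' : X) = 1 from w'.2.2,
            mul_one] at hx' hy'
          have ho1 : orderOf (β x y) = r := orderOf_eq_prime (by rw [← map_pow, hyr, map_one]) hxy
          have ho2 : orderOf (β y x) = r := orderOf_eq_prime (by rw [← map_pow, hxr, map_one]) hskew
          obtain rfl : b = b' := Fin.ext (pow_injOn_Iio_orderOf (by simp [ho1]) (by simp [ho1]) hx')
          obtain rfl : a = a' := Fin.ext (pow_injOn_Iio_orderOf (by simp [ho2]) (by simp [ho2]) hy')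
          simp only [mul_right_inj] at e1
          simp [Subtype.ext e1]
        · obtain ⟨a, b, w, hw1, hw2, rfl⟩ := hz z
          exact ⟨((a, b), ⟨w, hw1, hw2⟩), rfl⟩
      have hc := Nat.card_eq_of_bijective _ hbij
      rw [Nat.card_prod, Nat.card_prod, Nat.card_fin, he] at hc
      refine Nat.eq_of_mul_eq_mul_left (Nat.mul_pos hr.pos hr.pos) (hc.trans ?_)
      calc e * e = (r * (e / r)) * (r * (e / r)) := by rw [Nat.mul_div_cancel' hre]
        _ = _ := by ring
    have hrec := ih (e / r) (Nat.div_lt_self (by omega) hr.one_lt) hW hWcard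
    calc Nat.card Γ = (orbit Γ x).ncard * ((orbit S y).ncard * Nat.card S2) := by
          rw [← index_stabilizer S y, Subgroup.index_mul_card, ← index_stabilizer Γ x, Subgroup.index_mul_card]
      _ ≤ (r ^ (2 * j) - 1) * (r ^ (2 * j - 1) * spBound (e / r)) :=
          Nat.mul_le_mul ho1 (Nat.mul_le_mul ho2 hrec)
      _ = _ := (mul_assoc _ _ _).symm

end Cfsg.Agent.SolvClassNum
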