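import Cfsg.Agent.Lib.Huppert.Main
import Cfsg.Agent.Lib.SolvClassNum.Sp

/-! The class two layer over a maximal cyclic normal subgroup. -/

set_option autoImplicit false
set_option linter.style.haveILetI false

namespace Cfsg.Agent.SolvClassNum

open Subgroup Huppert
open scoped commutatorElement

variable {G : Type} [Group G] [Finite G]

/-- Orders modulo `A` are squarefree on `M`. -/
def SqfMod (A M : Subgroup G) [A.Normal] : Prop :=
  ∀ u ∈ M, Squarefree (orderOf (u : G ⧸ A))

theorem squarefree_lcm {m n : ℕ} (hm : Squarefree m) (hn : Squarefree n) : Squarefree (Nat.lcm m n) := by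
  rw [Nat.squarefree_iff_prime_squarefree]
  intro r hr hd
  have hm0 := hm.ne_zero
  have hn0 := hn.ne_zero
  rw [← pow_two, hr.pow_dvd_iff_le_factorization (Nat.lcm_ne_zero hm0 hn0), Nat.factorization_lcm hm0 hn0,
    Finsupp.sup_apply] at hd
  have h1 := hm.natFactorization_le_one r
  have h2 := hn.natFactorization_le_one r
  have h3 : m.factorization r ⊔ n.factorization r ≤ 1 := sup_le h1 h2
  omega

/-- An abelian section of prime exponent above `A`. -/
theorem exists_elementary_above [Group.IsSolvable G] (A : Subgroup G) [A.Normal] (K : Subgroup G) [K.Normal]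
    (hAK : A < K) : ∃ N : Subgroup G, N.Normal ∧ A < N ∧ N ≤ K ∧ ⁅N, N⁆ ≤ A ∧
      ∃ r : ℕ, r.Prime ∧ ∀ x ∈ N, x ^ r ∈ A := by
  classical
  obtain ⟨N, hNn, hAN, hNK, hNN⟩ := exists_abelian_above A K hAK
  haveI := hNn
  obtain ⟨u, hu, huA⟩ := Set.exists_of_ssubset (SetLike.coe_ssubset_coe.mpr hAN)
  obtain ⟨r, hr, hrd⟩ := Nat.exists_prime_and_dvd (show orderOf (u : G ⧸ A) ≠ 1 by
    rw [Ne, orderOf_eq_one_iff, QuotientGroup.eq_one_iff]; exact huA)
  let N' : Subgroup G :=
    { carrier := {x | x ∈ N ∧ x ^ r ∈ A}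
      one_mem' := ⟨one_mem N, by simp [one_mem]⟩
      mul_mem' := fun {x y} hx hy => ⟨mul_mem hx.1 hy.1, by
        have hc : Commute (x : G ⧸ A) (y : G ⧸ A) := by
          have h1 := hNN (commutator_mem_commutator hx.1 hy.1)
          rw [← QuotientGroup.eq_one_iff (N := A)] at h1
          exact commutatorElement_eq_one_iff_commute.mp h1
        rw [← QuotientGroup.eq_one_iff (N := A), QuotientGroup.mk_pow, QuotientGroup.mk_mul, hc.mul_pow,
          ← QuotientGroup.mk_pow, ← QuotientGroup.mk_pow, (QuotientGroup.eq_one_iff _).mpr hx.2,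
          (QuotientGroup.eq_one_iff _).mpr hy.2, mul_one]⟩
      inv_mem' := fun {x} hx => ⟨inv_mem hx.1, by rw [inv_pow]; exact inv_mem hx.2⟩ }
  have hn' : N'.Normal := ⟨fun x hx g => ⟨hNn.conj_mem x hx.1 g, by
    rw [conj_pow]; exact ‹A.Normal›.conj_mem _ hx.2 g⟩⟩
  refine ⟨N', hn', lt_of_le_of_ne (fun a ha => ⟨hAN.le ha, pow_mem ha r⟩) fun e => ?_, fun x hx => hNK hx.1,
    (commutator_mono (H₁ := N') (K₁ := N) (H₂ := N') (K₂ := N) (fun x hx => hx.1) (fun x hx => hx.1)).trans hNN, r, hr, fun x hx => hx.2⟩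
  -- a witness of order `r`
  set w := u ^ (orderOf (u : G ⧸ A) / r)
  have hwN : w ∈ N' := ⟨pow_mem hu _, by
    rw [← QuotientGroup.eq_one_iff (N := A), QuotientGroup.mk_pow, QuotientGroup.mk_pow, ← pow_mul,
      Nat.div_mul_cancel hrd, pow_orderOf_eq_one]⟩
  have hwA : w ∉ A := fun hw => by
    rw [← QuotientGroup.eq_one_iff (N := A), QuotientGroup.mk_pow] at hw
    have hpos := orderOf_pos (u : G ⧸ A)
    have := Nat.le_of_dvd (Nat.div_pos (Nat.le_of_dvd hpos hrd) hr.pos) (orderOf_dvd_of_pow_eq_one hw)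
    exact absurd this (not_le.mpr (Nat.div_lt_self hpos hr.one_lt))
  exact hwA (e ▸ hwN)

/-- The layer. -/
theorem exists_layer [Group.IsSolvable G] (A : Subgroup G) [A.Normal] [IsCyclic A]
    (hA : ∀ a ∈ A, ∀ b ∈ A, a * b = b * a)
    (hmax : ∀ B : Subgroup G, B.Normal → (∀ a ∈ B, ∀ b ∈ B, a * b = b * a) → A ≤ B → B = A) :
    ∃ M : Subgroup G, M.Normal ∧ Pairing A M ∧ M ≤ centralizer (A : Set G) ∧
      (∀ u ∈ M, (∀ v ∈ M, u * v = v * u) → u ∈ A) ∧
      (∀ g ∈ centralizer (A : Set G), (∀ v ∈ M, g * v * g⁻¹ * v⁻¹ ∈ A) → g ∈ M) ∧ SqfMod A M := by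
  classical
  have hAC : A ≤ centralizer (A : Set G) := fun a ha => mem_centralizer_iff.mpr fun b hb => hA b hb a ha
  obtain ⟨M, hAM, hMmax⟩ := Finite.exists_le_maximal (α := Subgroup G)
    (p := fun M => M.Normal ∧ M ≤ centralizer (A : Set G) ∧ ⁅M, M⁆ ≤ A ∧ SqfMod A M) (a := A)
    ⟨‹A.Normal›, hAC, commutator_le_self A, fun u hu => by
      rw [(QuotientGroup.eq_one_iff u).mpr hu, orderOf_one]; exact squarefree_one⟩
  obtain ⟨hMn, hMC, hMM, hMs⟩ := hMmax.prop
  haveI := hMn
  have hcomm : ∀ u ∈ M, ∀ v ∈ M, u * v * u⁻¹ * v⁻¹ ∈ A := fun u hu v hv => hMM (commutator_mem_commutator hu hv)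
  have hcen : ∀ a ∈ A, ∀ v ∈ M, a * v = v * a := fun a ha v hv => mem_centralizer_iff.mp (hMC hv) a ha
  have hnd : M ⊓ centralizer (M : Set G) = A := by
    refine hmax _ inferInstance (fun a ha b hb => mem_centralizer_iff.mp hb.2 a ha.1) (le_inf hAM fun a ha => ?_)
    exact mem_centralizer_iff.mpr fun v hv => (hcen a ha v hv).symm
  have hD : centralizer (A : Set G) ⊓ centralizer (M : Set G) = A := by
    have hle : A ≤ centralizer (A : Set G) ⊓ centralizer (M : Set G) := le_inf hAC (hnd.ge.trans inf_le_right)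
    refine le_antisymm ?_ hle
    by_contra hc
    obtain ⟨N, hNn, hAN, hND, hNN, r, hr, hNr⟩ :=
      exists_elementary_above A (centralizer (A : Set G) ⊓ centralizer (M : Set G))
        (lt_of_le_of_ne hle fun e => hc e.ge)
    haveI := hNn
    have hcNM : ∀ n ∈ N, ∀ w ∈ M, Commute n w := fun n hn w hw =>
      (mem_centralizer_iff.mp ((hND hn).2) w hw).symm
    have hle2 : M ⊔ N ≤ M := hMmax.2 ⟨inferInstance, sup_le hMC (hND.trans inf_le_left), by
      -- commutators
      rw [← (QuotientGroup.ker_mk' A), ← Subgroup.map_eq_bot_iff, map_commutator, commutator_eq_bot_iff_le_centralizer,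
        Subgroup.map_sup, sup_le_iff]
      set π := QuotientGroup.mk' A
      have key : ∀ X Y : Subgroup G, (∀ x ∈ X, ∀ y ∈ Y, ⁅x, y⁆ ∈ A) → X.map π ≤ centralizer (Y.map π : Set (G ⧸ A)) := by
        rintro X Y h _ ⟨x, hx, rfl⟩
        rw [mem_centralizer_iff]
        rintro _ ⟨y, hy, rfl⟩
        have h1 : ⁅π x, π y⁆ = 1 := by rw [← map_commutatorElement]; exact (QuotientGroup.eq_one_iff _).mpr (h x hx y hy)
        exact (commutatorElement_eq_one_iff_commute.mp h1).eq.symm
      have hMN : ∀ x ∈ M, ∀ y ∈ N, ⁅x, y⁆ ∈ A := fun x hx y hy => by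
        rw [commutatorElement_eq_one_iff_commute.mpr (hcNM y hy x hx).symm]; exact one_mem A
      have hNM : ∀ x ∈ N, ∀ y ∈ M, ⁅x, y⁆ ∈ A := fun x hx y hy => by
        rw [commutatorElement_eq_one_iff_commute.mpr (hcNM x hx y hy)]; exact one_mem A
      have hsup : ∀ X : Subgroup G, X.map π ≤ centralizer (M.map π : Set (G ⧸ A)) →
          X.map π ≤ centralizer (N.map π : Set (G ⧸ A)) →
          X.map π ≤ centralizer ((M.map π ⊔ N.map π : Subgroup (G ⧸ A)) : Set (G ⧸ A)) := fun X h1 h2 => by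
        rw [← commutator_eq_bot_iff_le_centralizer] at h1 h2 ⊢
        rw [commutator_comm, commutator_eq_bot_iff_le_centralizer] at h1 h2 ⊢
        exact sup_le h1 h2
      exact ⟨hsup M (key M M fun x hx y hy => hMM (commutator_mem_commutator hx hy)) (key M N hMN),
        hsup N (key N M hNM) (key N N fun x hx y hy => hNN (commutator_mem_commutator hx hy))⟩, by
      intro w hw
      rw [← SetLike.mem_coe, normal_mul] at hw
      obtain ⟨m, hm, n, hn, rfl⟩ := hw
      refine (squarefree_lcm (hMs m hm) ?_).squarefree_of_dvd (?_ : _ ∣ Nat.lcm (orderOf (m : G ⧸ A)) (orderOf (n : G ⧸ A)))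
      · refine Squarefree.squarefree_of_dvd (orderOf_dvd_of_pow_eq_one ?_) hr.squarefree
        rw [← QuotientGroup.mk_pow, QuotientGroup.eq_one_iff]; exact hNr n hn
      · rw [QuotientGroup.mk_mul]
        exact (Commute.map (hcNM n hn m hm).symm (QuotientGroup.mk' A)).orderOf_mul_dvd_lcm⟩ le_sup_left
    refine hAN.not_ge fun n hn => ?_
    rw [← hnd]
    exact ⟨hle2 (mem_sup_right hn), (hND hn).2⟩
  have hP : Pairing A M := ⟨inferInstance, hAM, hcen, hcomm⟩
  refine ⟨M, hMn, hP, hMC, fun u hu hc => hnd.le ⟨hu, mem_centralizer_iff.mpr fun v hv => (hc v hv).symm⟩,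
    ?_, hMs⟩
  -- the centraliser of the section
  intro g hg hgv
  let C := centralizer (A : Set G)
  letI : CommGroup A := IsCyclic.commGroup
  let K : Subgroup G :=
    { carrier := {k | k ∈ C ∧ ∀ v ∈ M, k * v * k⁻¹ * v⁻¹ ∈ A}
      one_mem' := ⟨one_mem C, fun v _ => by simp [one_mem]⟩
      mul_mem' := fun {k l} hk hl => ⟨mul_mem hk.1 hl.1, fun v hv => by
        have h1 := ‹A.Normal›.conj_mem _ (hl.2 v hv) k
        have h2 := mul_mem h1 (hk.2 v hv)
        convert h2 using 1
        group⟩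
      inv_mem' := fun {k} hk => ⟨inv_mem hk.1, fun v hv => by
        have h1 := ‹A.Normal›.conj_mem _ (inv_mem (hk.2 v hv)) k⁻¹
        convert h1 using 1
        group⟩ }
  have hMK : M ≤ K := fun v hv => ⟨hMC hv, fun w hw => hcomm v hv w hw⟩
  -- the map to homomorphisms of the section
  let W := M ⧸ A.subgroupOf M
  let β : K →* (W →* A) := MonoidHom.mk' (fun k => QuotientGroup.lift (A.subgroupOf M)
      (MonoidHom.mk' (fun v : M => (⟨(k : G) * v * (k : G)⁻¹ * (v : G)⁻¹, k.2.2 v v.2⟩ : A)) fun v w => Subtype.ext (by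
        push_cast
        have hc := hcen _ (k.2.2 w w.2) v v.2
        calc (k : G) * (v * w) * (k : G)⁻¹ * ((v : G) * w)⁻¹
            = (k : G) * v * (k : G)⁻¹ * (((k : G) * w * (k : G)⁻¹ * (w : G)⁻¹) * (v : G)⁻¹) := by group
          _ = (k : G) * v * (k : G)⁻¹ * ((v : G)⁻¹ * ((k : G) * w * (k : G)⁻¹ * (w : G)⁻¹)) := by
              rw [hcen _ (k.2.2 w w.2) _ (inv_mem v.2)]
          _ = _ := by group))
      (fun a ha => Subtype.ext (by
        show (k : G) * a * (k : G)⁻¹ * (a : G)⁻¹ = 1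
        rw [mul_inv_eq_one, mul_inv_eq_iff_eq_mul]
        exact (mem_centralizer_iff.mp k.2.1 _ ha).symm))) (fun k l => by
    refine MonoidHom.ext fun c => ?_
    induction c using QuotientGroup.induction_on with
    | _ v =>
      refine Subtype.ext ?_
      show ((k * l : K) : G) * v * ((k * l : K) : G)⁻¹ * (v : G)⁻¹ =
        ((k : G) * v * (k : G)⁻¹ * (v : G)⁻¹) * ((l : G) * v * (l : G)⁻¹ * (v : G)⁻¹)
      push_cast
      have hz := l.2.2 v v.2
      have hc1 : (k : G) * ((l : G) * v * (l : G)⁻¹ * (v : G)⁻¹) = ((l : G) * v * (l : G)⁻¹ * (v : G)⁻¹) * k :=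
        (mem_centralizer_iff.mp k.2.1 _ hz).symm
      calc (k : G) * l * v * ((k : G) * l)⁻¹ * (v : G)⁻¹
          = ((k : G) * ((l : G) * v * (l : G)⁻¹ * (v : G)⁻¹)) * v * (k : G)⁻¹ * (v : G)⁻¹ := by group
        _ = ((l : G) * v * (l : G)⁻¹ * (v : G)⁻¹) * ((k : G) * v * (k : G)⁻¹ * (v : G)⁻¹) := by rw [hc1]; group
        _ = _ := congrArg Subtype.val (mul_comm (⟨_, hz⟩ : A) ⟨_, k.2.2 v v.2⟩))
  have hker : β.ker = A.subgroupOf K := by
    ext k
    rw [MonoidHom.mem_ker, mem_subgroupOf]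
    constructor
    · intro hk
      refine hD.le ⟨k.2.1, mem_centralizer_iff.mpr fun v hv => ?_⟩
      have h1 := congrArg Subtype.val (DFunLike.congr_fun hk ((⟨v, hv⟩ : M) : W))
      exact (mul_inv_eq_iff_eq_mul.mp (mul_inv_eq_one.mp h1)).symm
    · intro hk
      refine MonoidHom.ext fun c => ?_
      induction c using QuotientGroup.induction_on with
      | _ v => exact Subtype.ext (by
          show (k : G) * v * (k : G)⁻¹ * (v : G)⁻¹ = 1
          rw [mul_inv_eq_one, mul_inv_eq_iff_eq_mul]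
          exact hcen _ hk v v.2)
  haveI : Finite (W →* A) := Finite.of_injective _ DFunLike.coe_injective
  have hle : A.relIndex K ≤ A.relIndex M := by
    show (A.subgroupOf K).index ≤ _
    rw [← hker, index_ker]
    exact (card_le_card_group _).trans card_monoidHom_le
  have hmul := relIndex_mul_relIndex A M K hAM hMK
  have h1 : M.relIndex K = 1 := by
    have hpos : 0 < A.relIndex M := Nat.pos_of_ne_zero FiniteIndex.index_ne_zero
    have hpos' : 0 < M.relIndex K := Nat.pos_of_ne_zero FiniteIndex.index_ne_zero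
    refine le_antisymm ?_ hpos'
    refine Nat.le_of_mul_le_mul_left ?_ hpos
    rw [mul_one, hmul]; exact hle
  exact relIndex_eq_one.mp h1 ⟨hg, hgv⟩

/-- The action of the centraliser on the layer is bounded. -/
theorem relIndex_le_spBound [Group.IsSolvable G] {A M : Subgroup G} [A.Normal] [M.Normal] (hP : Pairing A M)
    (hMC : M ≤ centralizer (A : Set G)) (hnd : ∀ u ∈ M, (∀ v ∈ M, u * v = v * u) → u ∈ A)
    (hK : ∀ g ∈ centralizer (A : Set G), (∀ v ∈ M, g * v * g⁻¹ * v⁻¹ ∈ A) → g ∈ M)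
    (hs : SqfMod A M) {e : ℕ} (he : A.relIndex M = e * e) :
    M.relIndex (centralizer (A : Set G)) ≤ spBound e := by
  classical
  haveI := hP.cyc
  letI : CommGroup A := IsCyclic.commGroup
  set C := centralizer (A : Set G)
  let π := QuotientGroup.mk' A
  let X := M.map π
  have hXcomm : ∀ a b : X, a * b = b * a := by
    rintro ⟨_, a, ha, rfl⟩ ⟨_, b, hb, rfl⟩
    refine Subtype.ext ?_
    show π a * π b = π b * π a
    refine (commutatorElement_eq_one_iff_commute.mp ?_).eq
    rw [← map_commutatorElement]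
    exact (QuotientGroup.eq_one_iff _).mpr (hP.comm a ha b hb)
  letI : CommGroup X := { (inferInstance : Group X) with mul_comm := hXcomm }
  haveI : X.Normal := Normal.map inferInstance π (QuotientGroup.mk'_surjective A)
  let φ : C →* MulAut X := ((MulAut.conjNormal : G ⧸ A →* MulAut X).comp π).comp C.subtype
  have hker : φ.ker = M.subgroupOf C := by
    ext g
    rw [MonoidHom.mem_ker, mem_subgroupOf]
    constructor
    · intro hg
      refine hK g g.2 fun v hv => ?_
      have h1 := congrArg Subtype.val (DFunLike.congr_fun hg (⟨π v, v, hv, rfl⟩ : X))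
      have h2 : π (g : G) * π v * (π (g : G))⁻¹ = π v := h1
      rw [← mul_inv_eq_one, ← map_inv, ← map_inv, ← map_mul, ← map_mul, ← map_mul] at h2
      exact (QuotientGroup.eq_one_iff _).mp h2
    · intro hg
      refine MulEquiv.ext fun ⟨x, v, hv, hx⟩ => Subtype.ext ?_
      subst hx
      show π (g : G) * π v * (π (g : G))⁻¹ = π v
      rw [← mul_inv_eq_one, ← map_inv, ← map_inv, ← map_mul, ← map_mul, ← map_mul]
      exact (QuotientGroup.eq_one_iff _).mpr (hP.comm g hg v hv)
  haveI : Group.IsSolvable φ.range := Group.isSolvable_of_surjective φ.rangeRestrict_surjective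
  letI : MulDistribMulAction φ.range X := MulDistribMulAction.compHom X φ.range.subtype
  haveI : FaithfulSMul φ.range X := ⟨fun {a b} h => Subtype.ext (MulEquiv.ext h)⟩
  -- the pairing
  choose lift hlift hπ using fun x : X => x.2
  have hval : ∀ u u' v v' : G, u ∈ M → u' ∈ M → v ∈ M → v' ∈ M → π u = π u' → π v = π v' →
      u * v * u⁻¹ * v⁻¹ = u' * v' * u'⁻¹ * v'⁻¹ := by
    intro u u' v v' hu hu' hv hv' e1 e2
    obtain ⟨a, ha, rfl⟩ : ∃ a ∈ A, u' = u * a := ⟨u⁻¹ * u', QuotientGroup.eq.mp e1, by group⟩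
    obtain ⟨b, hb, rfl⟩ : ∃ b ∈ A, v' = v * b := ⟨v⁻¹ * v', QuotientGroup.eq.mp e2, by group⟩
    have ca : ∀ w ∈ M, Commute a w := fun w hw => hP.central a ha w hw
    have cb : ∀ w ∈ M, Commute b w := fun w hw => hP.central b hb w hw
    have cab : Commute a b := ca b (hP.le hb)
    symm
    calc u * a * (v * b) * (u * a)⁻¹ * (v * b)⁻¹ = u * (a * v) * b * a⁻¹ * u⁻¹ * b⁻¹ * v⁻¹ := by group
      _ = u * v * (a * b) * a⁻¹ * u⁻¹ * b⁻¹ * v⁻¹ := by rw [(ca v hv).eq]; group
      _ = u * v * (b * u⁻¹) * b⁻¹ * v⁻¹ := by rw [cab.eq]; group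
      _ = _ := by rw [(cb u⁻¹ (inv_mem hu)).eq]; group
  let β0 : X → X → A := fun x y => ⟨lift x * lift y * (lift x)⁻¹ * (lift y)⁻¹, hP.comm _ (hlift x) _ (hlift y)⟩
  have hβ : ∀ (x y : X) (u v : G), u ∈ M → v ∈ M → π u = x → π v = y →
      (β0 x y : G) = u * v * u⁻¹ * v⁻¹ := fun x y u v hu hv e1 e2 =>
    hval _ _ _ _ (hlift x) hu (hlift y) hv ((hπ x).trans e1.symm) ((hπ y).trans e2.symm)
  have hmulr : ∀ x y z, β0 x (y * z) = β0 x y * β0 x z := fun x y z => Subtype.ext (by
    rw [hβ x (y * z) (lift x) (lift y * lift z) (hlift x) (mul_mem (hlift y) (hlift z)) (hπ x)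
      (by rw [map_mul, hπ, hπ]; rfl)]
    show _ = (β0 x y : G) * (β0 x z : G)
    set d := lift x * lift z * (lift x)⁻¹ * (lift z)⁻¹
    have hd : d ∈ A := hP.comm _ (hlift x) _ (hlift z)
    calc lift x * (lift y * lift z) * (lift x)⁻¹ * (lift y * lift z)⁻¹
        = lift x * lift y * (lift x)⁻¹ * (d * (lift y)⁻¹) := by simp only [d]; group
      _ = lift x * lift y * (lift x)⁻¹ * ((lift y)⁻¹ * d) := by rw [hP.central d hd _ (inv_mem (hlift y))]
      _ = _ := by show _ = lift x * lift y * (lift x)⁻¹ * (lift y)⁻¹ * d; group)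
  have hskew : ∀ x y, β0 y x = (β0 x y)⁻¹ := fun x y => Subtype.ext (by
    show _ = ((β0 x y : G))⁻¹
    show lift y * lift x * (lift y)⁻¹ * (lift x)⁻¹ = (lift x * lift y * (lift x)⁻¹ * (lift y)⁻¹)⁻¹
    group)
  have hmull : ∀ x y z, β0 (x * y) z = β0 x z * β0 y z := fun x y z => by
    rw [hskew z, hmulr, mul_inv, ← hskew z, ← hskew z]
  let β : X →* X →* A := MonoidHom.mk' (fun x => MonoidHom.mk' (β0 x) (hmulr x))
    (fun x y => MonoidHom.ext fun z => hmull x y z)
  have hI : IsoPair φ.range X A β :=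
    { alt := fun x => Subtype.ext (by show (β0 x x : G) = 1; show _ * _ * _ * _ = _; group)
      nd := fun x hx => by
        have h1 : lift x ∈ A := hnd _ (hlift x) fun v hv => by
          have h2 : (β0 x ⟨π v, v, hv, rfl⟩ : G) = 1 := congrArg Subtype.val (hx _)
          rw [hβ x _ (lift x) v (hlift x) hv (hπ x) rfl] at h2
          exact mul_inv_eq_iff_eq_mul.mp (mul_inv_eq_one.mp h2)
        exact Subtype.ext ((hπ x).symm.trans ((QuotientGroup.eq_one_iff _).mpr h1))
      inv := by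
        rintro ⟨_, g, rfl⟩ x y
        refine Subtype.ext ?_
        show (β0 (φ g x) (φ g y) : G) = β0 x y
        have hg : ∀ z : X, (φ g z : G ⧸ A) = π (g * lift z * (g : G)⁻¹) := fun z => by
          show π g * (z : G ⧸ A) * (π g)⁻¹ = _
          rw [map_mul, map_mul, map_inv, hπ]
        rw [hβ _ _ _ _ (‹M.Normal›.conj_mem _ (hlift x) g) (‹M.Normal›.conj_mem _ (hlift y) g) (hg x).symm (hg y).symm]
        calc _ = (g : G) * (β0 x y : G) * (g : G)⁻¹ := by
              show _ = (g : G) * (lift x * lift y * (lift x)⁻¹ * (lift y)⁻¹) * (g : G)⁻¹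
              group
          _ = _ := by rw [← mem_centralizer_iff.mp g.2 _ (β0 x y).2, mul_inv_cancel_right]
      sqf := fun x => by
        rw [← Subgroup.orderOf_coe, ← hπ x]
        exact hs _ (hlift x) }
  have hX : Nat.card X = e * e := by
    rw [← he]
    let ψ : M →* X := π.subgroupMap M
    have hψ : Function.Surjective ψ := π.subgroupMap_surjective M
    have h1 : ψ.ker = A.subgroupOf M := by
      ext v
      rw [MonoidHom.mem_ker, mem_subgroupOf, ← QuotientGroup.eq_one_iff (N := A)]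
      exact Subtype.ext_iff
    show _ = (A.subgroupOf M).index
    rw [← h1, index_ker, MonoidHom.range_eq_top.mpr hψ, card_top]
  show (M.subgroupOf C).index ≤ _
  rw [← hker, index_ker]
  exact @isometry_bound A _ _ _ e φ.range X _ _ _ _ _ _ ⟨fun {a b} h => Subtype.ext (MulEquiv.ext h)⟩ β hI hX

end Cfsg.Agent.SolvClassNum
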