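import Cfsg.Agent.Lib.SolvClassNum.Irr
import Cfsg.Agent.Lib.SolvClassNum.Exact
import Cfsg.Agent.Lib.SolvClassNum.Num
import Cfsg.Agent.Lib.Solvable.Fitting
import Cfsg.Agent.Lib.Cores.CoreFree

/-!
# A solvable group of order divisible by the square of `p` has at least `49 p / 60` classes

After Héthelyi and Külshammer: an irreducible solvable linear group `H` on `V` gives `k(H) + r` classes,
`r` the number of orbits on the nonzero vectors.
-/

set_option autoImplicit false
set_option linter.style.haveILetI false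

namespace Cfsg.Agent.SolvClassNum

open Module

theorem classes_le_of_surj {G H : Type} [Group G] [Finite G] [Group H] (f : G →* H) (hf : Function.Surjective f) :
    Nat.card (ConjClasses H) ≤ Nat.card (ConjClasses G) :=
  Nat.card_le_card_of_surjective (ConjClasses.map f) fun c => by
    obtain ⟨h, rfl⟩ := ConjClasses.mk_surjective c
    obtain ⟨g, rfl⟩ := hf h
    exact ⟨ConjClasses.mk g, rfl⟩

theorem amgm {z I r f : ℕ} (h : z + I * r ≤ I * f) (hI : 0 < I) : 4 * (z * r) ≤ I * f ^ 2 := by
  refine Nat.le_of_mul_le_mul_left ?_ hI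
  calc I * (4 * (z * r)) = 4 * (z * (I * r)) := by ring
    _ ≤ (z + I * r) ^ 2 := by
        have : (4 : ℤ) * (z * (I * r)) ≤ ((z : ℤ) + I * r) ^ 2 := by nlinarith [sq_nonneg ((z : ℤ) - I * r)]
        exact_mod_cast this
    _ ≤ (I * f) ^ 2 := Nat.pow_le_pow_left h 2
    _ = I * (I * f ^ 2) := by ring

/-- The bound from the data of a linear group. -/
theorem linear_bound {p : ℕ} [Fact p.Prime] (hp7 : 7 ≤ p) {H V : Type} [Group H] [Finite H] [Group.IsSolvable H]
    [AddCommGroup V] [Module (ZMod p) V] [Finite V] [Nontrivial V] (ρ : H →* (V ≃ₗ[ZMod p] V))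
    (hρ : Function.Injective ρ) (hirr : IrrRep ρ) (hn : 2 ≤ finrank (ZMod p) V) (r : ℕ)
    (hr : p ^ finrank (ZMod p) V - 1 ≤ r * Nat.card H) (horb : ∀ k, HasOrbits ρ k → k ≤ r) :
    49 * p ≤ 60 * (Nat.card (ConjClasses H) + r) := by
  classical
  have hp : p.Prime := Fact.out
  set n := finrank (ZMod p) V
  obtain ⟨A, m, a, e, P, hAn, hAc, hm, ha, he, hdim, hP, hI, hJ, ho, ho13, hsmall, hA2, -⟩ :=
    data_of_irr n ρ hρ hirr rfl
  haveI := hAn
  by_cases hex : n = 2 ∧ e = 2
  · obtain ⟨h2, h2e⟩ := hex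
    exact exact_bound hp7 ρ hρ h2 A (hsmall h2 h2e) r (by rw [← h2]; exact hr)
  set z := Nat.card A
  set I := (Subgroup.centralizer (A : Set H)).index
  set J := A.index with hJdef
  set k := Nat.card (ConjClasses H)
  have hI0 : 0 < I := Nat.pos_of_ne_zero Subgroup.index_ne_zero_of_finite
  have hJ0 : 0 < J := Nat.pos_of_ne_zero Subgroup.index_ne_zero_of_finite
  have hIJ : I ≤ J := Nat.le_of_dvd hJ0 (Subgroup.index_dvd_of_le fun x hx =>
    Subgroup.mem_centralizer_iff.mpr fun y hy => hAc y hy x hx)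
  have hH : Nat.card H = z * J := A.card_mul_index.symm
  have hoa : z ≤ inN (A : Set H) * I := card_le_inN_mul A
  have hoa1 : 1 ≤ inN (A : Set H) := inN_pos ⟨1, one_mem A⟩
  have hk := classes_quotient_add A
  haveI : Group.IsSolvable (H ⧸ A) := Group.isSolvable_of_surjective (QuotientGroup.mk'_surjective A)
  haveI : Nonempty (ConjClasses (H ⧸ A)) := ⟨ConjClasses.mk 1⟩
  have hkq : 1 ≤ Nat.card (ConjClasses (H ⧸ A)) := Nat.card_pos
  have hm' : m ≤ r := horb m ho
  have hrJ : p ^ n - 1 ≤ J * (z * r) := by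
    refine hr.trans (le_of_eq ?_)
    rw [hH]; ring
  have hgen : ∀ f, inN (A : Set H) + r ≤ f → 4 * (p ^ n - 1) ≤ I * J * f ^ 2 := by
    intro f hf
    have h1 : z + I * r ≤ I * f := by
      calc z + I * r ≤ I * inN (A : Set H) + I * r := Nat.add_le_add_right (hoa.trans_eq (mul_comm _ _)) _
        _ = I * (inN (A : Set H) + r) := (mul_add _ _ _).symm
        _ ≤ _ := Nat.mul_le_mul_left _ hf
    calc 4 * (p ^ n - 1) ≤ 4 * (J * (z * r)) := Nat.mul_le_mul_left _ hrJ
      _ = J * (4 * (z * r)) := by ring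
      _ ≤ J * (I * f ^ 2) := Nat.mul_le_mul_left _ (amgm h1 hI0)
      _ = _ := by ring
  rcases Nat.lt_or_ge J 13 with hJ13 | hJ13
  · refine small_bound hp7 hp ha hm he hn hdim hP hI hJ (by omega) hIJ hex (fun hp7' hm3 => ?_)
      (hgen (k + r) (by omega))
    subst hp7'
    -- three blocks in degree seven
    have hk3 : 3 ≤ k ∨ A = ⊥ := by
      by_cases hA0 : A = ⊥
      · exact Or.inr hA0
      left
      have h2 := two_le_inN hA0
      have : 2 ≤ Nat.card (ConjClasses (H ⧸ A)) := by
        by_contra hlt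
        refine hA2 (by omega) ?_
        have h1 := card_le_two_of_classes_le_two (G := H ⧸ A) (by omega)
        have h1' := classes_eq_card_of_comm (G := H ⧸ A) fun a b => by
          rcases Nat.lt_or_ge (Nat.card (H ⧸ A)) 2 with h | h
          · haveI := Finite.card_le_one_iff_subsingleton.mp (show Nat.card (H ⧸ A) ≤ 1 by omega)
            exact Subsingleton.elim _ _
          · haveI := Fact.mk Nat.prime_two
            haveI := isCyclic_of_prime_card (show Nat.card (H ⧸ A) = 2 by omega)
            letI := IsCyclic.commGroup (α := H ⧸ A)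
            exact mul_comm a b
        rw [← Subgroup.index_eq_one, Subgroup.index_eq_card]
        have := Nat.card_pos (α := H ⧸ A)
        omega
      omega
    rcases hk3 with h | h
    · omega
    · have hz1 : z = 1 := by simp [z, h]
      rw [hz1, one_mul] at hrJ
      have hn3 : 3 ≤ n := hm3.trans ((Nat.le_mul_of_pos_left m (Nat.mul_pos ha he)).trans hdim)
      have h49 : (7 : ℕ) ^ 3 ≤ 7 ^ n := Nat.pow_le_pow_right (by norm_num) hn3
      have : J * r ≤ 12 * r := Nat.mul_le_mul_right _ (by omega)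
      have : 1 ≤ k := by haveI : Nonempty (ConjClasses H) := ⟨ConjClasses.mk 1⟩; exact Nat.card_pos
      omega
  · have hk5 : 5 ≤ Nat.card (ConjClasses (H ⧸ A)) := five_le_classes (by rw [← Subgroup.index_eq_card]; omega)
    have hX : I * J ≤ a ^ (2 * m) * P ^ 2 * blockF e ^ m := by
      refine (Nat.mul_le_mul hI hJ).trans (le_of_eq ?_)
      rw [two_mul m, pow_add]; ring
    refine big_bound hp7 hp ha hm he hn hdim hP hX hex ?_ (fun h1 h2 h3 => ?_) (hgen (k + r - 4) (by omega))
    · by_cases hA0 : A = ⊥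
      · refine Or.inr ⟨by omega, ?_⟩
        have hI1 : I = 1 := by
          refine Subgroup.index_eq_one.mpr (eq_top_iff.mpr fun x _ => Subgroup.mem_centralizer_iff.mpr fun y hy => ?_)
          rw [hA0, Subgroup.coe_bot, Set.mem_singleton_iff] at hy
          rw [hy, one_mul, mul_one]
        rw [hI1, one_mul]
        exact hJ
      · have h2 := two_le_inN hA0
        exact Or.inl (by omega)
    · have := horb _ (ho13 h1 h2 h3)
      omega

/-- An action by automorphisms on an elementary group, as a linear representation. -/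
theorem exists_linear_rep {p : ℕ} {G X : Type} [Group G] [AddCommGroup X] [Module (ZMod p) X] (f : G → X →+ X)
    (h1 : ∀ x, f 1 x = x) (hm : ∀ a b x, f (a * b) x = f a (f b x)) :
    ∃ ρ : G →* (X ≃ₗ[ZMod p] X), ∀ g x, ρ g x = f g x :=
  ⟨{ toFun := fun g =>
      { toFun := f g
        map_add' := (f g).map_add
        map_smul' := fun c x => ZMod.map_smul (f g) c x
        invFun := f g⁻¹
        left_inv := fun x => by show f g⁻¹ (f g x) = x; rw [← hm, inv_mul_cancel, h1]
        right_inv := fun x => by show f g (f g⁻¹ x) = x; rw [← hm, mul_inv_cancel, h1] }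
     map_one' := LinearEquiv.ext h1
     map_mul' := fun a b => LinearEquiv.ext (hm a b) }, fun _ _ => rfl⟩

/-- A normal elementary subgroup that is minimal gives an irreducible linear group with classes and orbits. -/
theorem module_reduction {p : ℕ} [Fact p.Prime] {G : Type} [Group G] [Finite G] (N : Subgroup G) [hNn : N.Normal]
    (hmin : ∀ M : Subgroup G, M.Normal → M ≤ N → M = ⊥ ∨ M = N) (hc : ∀ x ∈ N, ∀ y ∈ N, x * y = y * x)
    {X : Type} [AddCommGroup X] [Module (ZMod p) X] [Finite X] (e : X → G) (he : Function.Injective e)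
    (heN : ∀ g, g ∈ N ↔ ∃ x, e x = g) (hadd : ∀ x y, e (x + y) = e x * e y)
    (ρ0 : G →* (X ≃ₗ[ZMod p] X)) (hρ0 : ∀ g x, e (ρ0 g x) = g * e x * g⁻¹) :
    ∃ r : ℕ, Nat.card N = p ^ finrank (ZMod p) X ∧
      IrrRep ρ0.range.subtype ∧ p ^ finrank (ZMod p) X - 1 ≤ r * Nat.card ρ0.range ∧
      (∀ k, HasOrbits ρ0.range.subtype k → k ≤ r) ∧
      Nat.card (ConjClasses ρ0.range) + r ≤ Nat.card (ConjClasses G) := by
  classical
  have hp : p.Prime := Fact.out
  have he0 : e 0 = 1 := by
    have := hadd 0 0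
    rw [add_zero] at this
    exact left_eq_mul.mp this
  have heneg : ∀ x, e (-x) = (e x)⁻¹ := fun x => eq_inv_of_mul_eq_one_left (by rw [← hadd, neg_add_cancel, he0])
  have hmem : ∀ x, e x ∈ N := fun x => (heN _).mpr ⟨x, rfl⟩
  set C := Subgroup.centralizer (N : Set G)
  have hker : ∀ g, ρ0 g = 1 ↔ g ∈ C := by
    intro g
    constructor
    · intro h
      refine Subgroup.mem_centralizer_iff.mpr fun x hx => ?_
      obtain ⟨x, rfl⟩ := (heN x).mp hx
      have h1 := hρ0 g x
      rw [h] at h1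
      exact (eq_mul_inv_iff_mul_eq.mp h1)
    · intro h
      refine LinearEquiv.ext fun x => he ?_
      rw [hρ0, ← Subgroup.mem_centralizer_iff.mp h _ (hmem x), mul_inv_cancel_right]
      rfl
  let H := ρ0.range
  haveI : Finite (X ≃ₗ[ZMod p] X) := Finite.of_injective (fun f : X ≃ₗ[ZMod p] X => (f : X → X)) DFunLike.coe_injective
  have hNX : Nat.card X = Nat.card N := Nat.card_congr (Equiv.ofBijective (fun x => (⟨e x, hmem x⟩ : N))
    ⟨fun a b h => he (congrArg Subtype.val h), fun ⟨g, hg⟩ => by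
      obtain ⟨x, rfl⟩ := (heN g).mp hg
      exact ⟨x, rfl⟩⟩)
  have hNcard : Nat.card N = p ^ finrank (ZMod p) X := by
    rw [← hNX, Module.natCard_eq_pow_finrank (K := ZMod p) (V := X), Nat.card_zmod]
  set n := finrank (ZMod p) X
  have hirr : IrrRep (H.subtype) := by
    intro U hU
    let S : Subgroup G :=
      { carrier := e '' (U : Set X)
        one_mem' := ⟨0, U.zero_mem, he0⟩
        mul_mem' := by
          rintro _ _ ⟨x, hx, rfl⟩ ⟨y, hy, rfl⟩
          exact ⟨x + y, U.add_mem hx hy, hadd x y⟩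
        inv_mem' := by
          rintro _ ⟨x, hx, rfl⟩
          exact ⟨-x, U.neg_mem hx, heneg x⟩ }
    have hS : S.Normal := ⟨by
      rintro _ ⟨x, hx, rfl⟩ g
      exact ⟨_, hU ⟨ρ0 g, g, rfl⟩ _ hx, hρ0 g x⟩⟩
    rcases hmin S hS (by rintro _ ⟨x, -, rfl⟩; exact hmem x) with h | h
    · refine Or.inl (eq_bot_iff.mpr fun x hx => ?_)
      have hx' : e x ∈ S := ⟨x, hx, rfl⟩
      rw [h, Subgroup.mem_bot] at hx'
      rw [Submodule.mem_bot]
      exact he (hx'.trans he0.symm)
    · refine Or.inr (eq_top_iff.mpr fun x _ => ?_)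
      obtain ⟨y, hy, hxy⟩ : e x ∈ S := h ▸ hmem x
      exact he hxy ▸ hy
  have hH : Nat.card H = C.index := by
    rw [← Subgroup.index_ker]
    congr 1
    ext g
    exact hker g
  set r := inN (N : Set G) - 1
  have hr : p ^ n - 1 ≤ r * Nat.card H := by
    rw [hH, ← hNcard]; exact card_sub_one_le_inN_mul N
  have horb : ∀ k, HasOrbits H.subtype k → k ≤ r := by
    rintro k ⟨f, hf0, hf⟩
    let c : Fin k → ConjClasses G := fun i => ConjClasses.mk (e (f i))
    have hcinj : Function.Injective c := fun i j h => by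
      obtain ⟨g, hg⟩ := isConj_iff.mp (ConjClasses.mk_eq_mk_iff_isConj.mp h)
      exact hf i j ⟨ρ0 g, g, rfl⟩ (he ((hρ0 g (f i)).trans hg))
    have hsub : Set.range c ⊆ (ConjClasses.mk '' (N : Set G)) \ {ConjClasses.mk 1} := by
      rintro _ ⟨i, rfl⟩
      refine ⟨⟨_, hmem (f i), rfl⟩, fun h => hf0 i ?_⟩
      obtain ⟨g, hg⟩ := isConj_iff.mp (ConjClasses.mk_eq_mk_iff_isConj.mp (Set.mem_singleton_iff.mp h))
      exact he ((conj_eq_one_iff.mp hg).trans he0.symm)
    have h1 := Set.ncard_le_ncard hsub (Set.toFinite _)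
    rw [Set.ncard_range_of_injective hcinj, Nat.card_fin, Set.ncard_sdiff_singleton_of_mem
      (show ConjClasses.mk (1 : G) ∈ ConjClasses.mk '' (N : Set G) from ⟨1, one_mem N, rfl⟩)] at h1
    exact h1
  refine ⟨r, hNcard, hirr, hr, horb, ?_⟩
  have hk := classes_quotient_add N
  have hkH : Nat.card (ConjClasses H) ≤ Nat.card (ConjClasses (G ⧸ N)) := by
    refine classes_le_of_surj (QuotientGroup.lift N ρ0.rangeRestrict fun x hx => Subtype.ext ?_) fun h => ?_
    · exact (hker x).mpr (Subgroup.mem_centralizer_iff.mpr fun y hy => hc y hy x hx)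
    · obtain ⟨g, rfl⟩ := ρ0.rangeRestrict_surjective h
      exact ⟨g, rfl⟩
  have h1 : 1 ≤ inN (N : Set G) := inN_pos ⟨1, one_mem N⟩
  show Nat.card (ConjClasses H) + r ≤ _
  omega

/-- The core of the bound for a normal elementary subgroup, seen as the image of a module. -/
theorem bound_of_module {p : ℕ} [Fact p.Prime] (hp7 : 7 ≤ p) {G : Type} [Group G] [Finite G]
    [Group.IsSolvable G] (N : Subgroup G) [hNn : N.Normal]
    (hmin : ∀ M : Subgroup G, M.Normal → M ≤ N → M = ⊥ ∨ M = N) (hc : ∀ x ∈ N, ∀ y ∈ N, x * y = y * x)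
    {X : Type} [AddCommGroup X] [Module (ZMod p) X] [Finite X] (e : X → G) (he : Function.Injective e)
    (heN : ∀ g, g ∈ N ↔ ∃ x, e x = g) (hadd : ∀ x y, e (x + y) = e x * e y) (hN2 : p ^ 2 ≤ Nat.card N)
    (ρ0 : G →* (X ≃ₗ[ZMod p] X)) (hρ0 : ∀ g x, e (ρ0 g x) = g * e x * g⁻¹) :
    49 * p ≤ 60 * Nat.card (ConjClasses G) := by
  obtain ⟨r, hNcard, hirr, hr, horb, hk⟩ := module_reduction N hmin hc e he heN hadd ρ0 hρ0
  have hn : 2 ≤ finrank (ZMod p) X := (Nat.pow_le_pow_iff_right (Fact.out : p.Prime).one_lt).mp (hNcard ▸ hN2)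
  haveI : Nontrivial X := Module.nontrivial_of_finrank_pos (R := ZMod p) (show 0 < finrank (ZMod p) X by omega)
  haveI : Finite (X ≃ₗ[ZMod p] X) := Finite.of_injective (fun f : X ≃ₗ[ZMod p] X => (f : X → X)) DFunLike.coe_injective
  haveI : Group.IsSolvable ρ0.range := Group.isSolvable_of_surjective ρ0.rangeRestrict_surjective
  exact (linear_bound hp7 ρ0.range.subtype Subtype.val_injective hirr hn r hr horb).trans (Nat.mul_le_mul_left 60 hk)

/-- A normal elementary subgroup that is minimal and has rank at least two. -/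
theorem bound_of_minimal_normal {p : ℕ} [Fact p.Prime] (hp7 : 7 ≤ p) {G : Type} [Group G] [Finite G]
    [Group.IsSolvable G] (N : Subgroup G) [hNn : N.Normal]
    (hmin : ∀ M : Subgroup G, M.Normal → M ≤ N → M = ⊥ ∨ M = N) (hc : ∀ x ∈ N, ∀ y ∈ N, x * y = y * x)
    (hexp : ∀ x ∈ N, x ^ p = 1) (hN2 : p ^ 2 ≤ Nat.card N) :
    49 * p ≤ 60 * Nat.card (ConjClasses G) := by
  letI : CommGroup N := { (inferInstance : Group N) with mul_comm := fun a b => Subtype.ext (hc a a.2 b b.2) }
  letI : Module (ZMod p) (Additive N) := AddCommGroup.zmodModule (n := p) (fun x => by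
    refine Additive.toMul.injective ?_
    rw [toMul_nsmul, toMul_zero]
    exact Subtype.ext (by rw [SubgroupClass.coe_pow]; exact hexp _ (Additive.toMul x).2))
  haveI : Finite (Additive N) := inferInstanceAs (Finite N)
  obtain ⟨ρ0, hρ⟩ := exists_linear_rep (p := p) (X := Additive N) (G := G)
    (fun g => (MulAut.conjNormal g : N ≃* N).toMonoidHom.toAdditive)
    (fun x => congrArg Additive.ofMul (show (MulAut.conjNormal (1 : G) : N ≃* N) (Additive.toMul x) = Additive.toMul x by
      rw [map_one]; rfl))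
    (fun a b x => congrArg Additive.ofMul (show (MulAut.conjNormal (a * b) : N ≃* N) (Additive.toMul x) =
        MulAut.conjNormal a (MulAut.conjNormal b (Additive.toMul x)) by rw [map_mul]; rfl))
  refine bound_of_module hp7 N hmin hc (fun x : Additive N => ((Additive.toMul x : N) : G))
    (fun a b h => Additive.toMul.injective (Subtype.ext h)) ?_ (fun _ _ => rfl) hN2 ρ0 (fun g x => ?_)
  · exact fun g => ⟨fun hg => ⟨Additive.ofMul ⟨g, hg⟩, rfl⟩, fun ⟨x, hx⟩ => hx ▸ (Additive.toMul x).2⟩
  · rw [hρ]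
    rfl

/-- Groups whose Sylow subgroup is normal of order `p ^ 2` with a series of invariant subgroups. -/
theorem bound_of_normal_sq {p : ℕ} [Fact p.Prime] (hp7 : 7 ≤ p) {G : Type} [Group G] [Finite G]
    (P N : Subgroup G) [hPn : P.Normal] [hNn : N.Normal] (hNP : N ≤ P) (hP : Nat.card P = p ^ 2)
    (hN : Nat.card N = p) (hcop : ¬ p ∣ P.index) (hCP : Subgroup.centralizer (P : Set G) ≤ P) :
    49 * p ≤ 60 * Nat.card (ConjClasses G) := by
  classical
  have hp : p.Prime := Fact.out
  haveI := isCyclic_of_prime_card hN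
  let Pq := P.map (QuotientGroup.mk' N)
  haveI : Pq.Normal := hPn.map _ (QuotientGroup.mk'_surjective N)
  have hPq : Nat.card Pq = p := by
    have h1 := (N.subgroupOf P).card_eq_card_quotient_mul_card_subgroup
    let ψ : P →* Pq := (QuotientGroup.mk' N).subgroupMap P
    have hψ : Function.Surjective ψ := (QuotientGroup.mk' N).subgroupMap_surjective P
    have hk : ψ.ker = N.subgroupOf P := by
      ext x
      rw [MonoidHom.mem_ker, Subgroup.mem_subgroupOf, ← QuotientGroup.eq_one_iff (N := N)]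
      exact Subtype.ext_iff
    have h2 := ψ.ker.card_mul_index
    rw [Subgroup.index_ker, MonoidHom.range_eq_top.mpr hψ, Subgroup.card_top, hk,
      Nat.card_congr (Subgroup.subgroupOfEquivOfLe hNP).toEquiv, hN, hP] at h2
    exact Nat.eq_of_mul_eq_mul_left hp.pos (h2.trans (pow_two p))
  haveI := isCyclic_of_prime_card hPq
  let α : G →* MulAut N := MulAut.conjNormal
  let β : G →* MulAut Pq := (MulAut.conjNormal : G ⧸ N →* MulAut Pq).comp (QuotientGroup.mk' N)
  -- the kernel is `P`
  have hker : ∀ g, α g = 1 → β g = 1 → g ∈ P := by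
    intro g ha hb
    have hfix : ∀ n ∈ N, g * n * g⁻¹ = n := fun n hn => by
      simpa [α] using congrArg Subtype.val (DFunLike.congr_fun ha (⟨n, hn⟩ : N))
    have hmod : ∀ x ∈ P, ∃ n ∈ N, g * x * g⁻¹ = x * n := by
      intro x hx
      have h1 : (g : G ⧸ N) * x * (g : G ⧸ N)⁻¹ = x := by
        simpa [β] using congrArg Subtype.val (DFunLike.congr_fun hb (⟨(x : G ⧸ N), x, hx, rfl⟩ : Pq))
      refine ⟨x⁻¹ * (g * x * g⁻¹), QuotientGroup.eq.mp (by push_cast; exact h1.symm), by group⟩
    have hpow : g ^ p ∈ P := by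
      refine hCP (Subgroup.mem_centralizer_iff.mpr fun x hx => ?_)
      obtain ⟨n, hn, hxn⟩ := hmod x hx
      have hit : ∀ i : ℕ, g ^ i * x * (g ^ i)⁻¹ = x * n ^ i := by
        intro i
        induction i with
        | zero => simp
        | succ i ih =>
          calc g ^ (i + 1) * x * (g ^ (i + 1))⁻¹ = g * (g ^ i * x * (g ^ i)⁻¹) * g⁻¹ := by rw [pow_succ']; group
            _ = (g * x * g⁻¹) * (g * n ^ i * g⁻¹) := by rw [ih]; group
            _ = _ := by rw [hxn, ← conj_pow, hfix n hn, pow_succ', mul_assoc]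
      have hnp : n ^ p = 1 := by
        have := pow_card_eq_one' (x := (⟨n, hn⟩ : N))
        rw [hN] at this
        exact congrArg Subtype.val this
      have h := hit p
      rw [hnp, mul_one, mul_inv_eq_iff_eq_mul] at h
      exact h.symm
    rw [← QuotientGroup.eq_one_iff (N := P)]
    have h1 : (g : G ⧸ P) ^ p = 1 := by rw [← QuotientGroup.mk_pow, QuotientGroup.eq_one_iff]; exact hpow
    have h2 := orderOf_dvd_of_pow_eq_one h1
    rcases (Nat.dvd_prime hp).mp h2 with h | h
    · exact orderOf_eq_one_iff.mp h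
    · exact absurd (h ▸ orderOf_dvd_natCard (g : G ⧸ P)) (by rwa [← Subgroup.index_eq_card])
  have hautcomm : ∀ (X : Type) [Group X] [IsCyclic X] (f g : MulAut X), f * g = g * f := by
    intro X _ _ f g
    letI := IsCyclic.commGroup (α := X)
    obtain ⟨ef, hef⟩ := MonoidHom.map_cyclic f.toMonoidHom
    obtain ⟨eg, heg⟩ := MonoidHom.map_cyclic g.toMonoidHom
    refine MulEquiv.ext fun x => ?_
    simp only [MulAut.mul_apply]
    rw [show f (g x) = (g x) ^ ef from hef _, show g (f x) = (f x) ^ eg from heg _,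
      show g x = x ^ eg from heg _, show f x = x ^ ef from hef _, ← zpow_mul, ← zpow_mul, mul_comm]
  have hab : ∀ a b : G ⧸ P, a * b = b * a := by
    intro a b
    induction a using QuotientGroup.induction_on with
    | _ a =>
      induction b using QuotientGroup.induction_on with
      | _ b =>
        rw [← QuotientGroup.mk_mul, ← QuotientGroup.mk_mul, QuotientGroup.eq]
        refine hker _ ?_ ?_
        · rw [map_mul, map_inv, map_mul, map_mul, hautcomm N (α a) (α b), inv_mul_cancel]
        · rw [map_mul, map_inv, map_mul, map_mul, hautcomm Pq (β a) (β b), inv_mul_cancel]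
  have hk := classes_quotient_add P
  rw [classes_eq_card_of_comm hab, ← Subgroup.index_eq_card] at hk
  have h2 := card_sub_one_le_inN_mul P
  have hd : (Subgroup.centralizer (P : Set G)).index ≤ P.index := by
    haveI := Fact.mk hp
    refine Nat.le_of_dvd (Nat.pos_of_ne_zero Subgroup.index_ne_zero_of_finite) (Subgroup.index_dvd_of_le fun x hx => ?_)
    refine Subgroup.mem_centralizer_iff.mpr fun y hy => ?_
    exact congrArg Subtype.val (IsPGroup.commutative_of_card_eq_prime_sq (p := p) hP (⟨y, hy⟩ : P) ⟨x, hx⟩)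
  rw [hP] at h2
  replace h2 := h2.trans (Nat.mul_le_mul_left _ hd)
  have h1 : 1 ≤ inN (P : Set G) := inN_pos ⟨1, one_mem P⟩
  set i := P.index
  set t := inN (P : Set G) - 1
  have hkt : i + t ≤ Nat.card (ConjClasses G) := by omega
  refine le_trans ?_ (Nat.mul_le_mul_left 60 hkt)
  by_contra hlt
  have h3 : 3600 * (i + t) ^ 2 + 1 ≤ 2401 * p ^ 2 := by
    calc 3600 * (i + t) ^ 2 + 1 = (60 * (i + t)) ^ 2 + 1 := by ring
      _ ≤ (49 * p) ^ 2 := Nat.pow_lt_pow_left (by omega) (by norm_num)
      _ = _ := by ring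
  have h4 : 4 * (t * i) ≤ (i + t) ^ 2 := by
    have : (4 : ℤ) * (t * i) ≤ ((i : ℤ) + t) ^ 2 := by nlinarith [sq_nonneg ((t : ℤ) - i)]
    exact_mod_cast this
  have : 49 ≤ p ^ 2 := Nat.pow_le_pow_left hp7 2
  omega

/-- The theorem, by induction on the order. -/
theorem solvable_classes_bound (p : ℕ) [Fact p.Prime] : ∀ (N0 : ℕ) (G : Type) [Group G] [Finite G]
    [Group.IsSolvable G], Nat.card G = N0 → p ^ 2 ∣ Nat.card G → 49 * p ≤ 60 * Nat.card (ConjClasses G) := by
  intro N0
  induction N0 using Nat.strong_induction_on with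
  | _ N0 ih =>
    intro G _ _ _ hG hdvd
    classical
    have hp : p.Prime := Fact.out
    haveI : Nonempty (ConjClasses G) := ⟨ConjClasses.mk 1⟩
    have hle := Nat.le_of_dvd Nat.card_pos hdvd
    rcases Nat.lt_or_ge p 7 with hp6 | hp7
    · have h2 : p = 2 → 2 ≤ Nat.card (ConjClasses G) := fun h => by
        by_contra hk
        have := card_le_two_of_classes_le_two (G := G) (by omega)
        subst h
        omega
      have h3 : p = 3 → 3 ≤ Nat.card (ConjClasses G) := fun h => by
        by_contra hk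
        have := card_le_two_of_classes_le_two (G := G) (by omega)
        subst h
        omega
      have h5 : p = 5 → 5 ≤ Nat.card (ConjClasses G) := fun h => five_le_classes (by subst h; omega)
      have : p = 2 ∨ p = 3 ∨ p = 5 := by
        have := hp.two_le
        interval_cases p <;> first | omega | norm_num at hp
      omega
    -- quotients
    have hquot : ∀ N : Subgroup G, N.Normal → N ≠ ⊥ → p ^ 2 ∣ N.index → 49 * p ≤ 60 * Nat.card (ConjClasses G) := by
      intro N hN hN1 hd
      haveI := hN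
      haveI : Group.IsSolvable (G ⧸ N) := Group.isSolvable_of_surjective (QuotientGroup.mk'_surjective N)
      have hlt : Nat.card (G ⧸ N) < Nat.card G := by
        rw [card_eq_index_mul N]
        exact lt_mul_of_one_lt_right Nat.card_pos ((Subgroup.one_lt_card_iff_ne_bot N).mpr hN1)
      exact (ih _ (hG ▸ hlt) (G ⧸ N) rfl (by rwa [← Subgroup.index_eq_card])).trans
        (Nat.mul_le_mul_left _ (classes_le_of_surj _ (QuotientGroup.mk'_surjective N)))
    have hget : ∀ M : Subgroup G, M.Normal → M ≠ ⊥ → ∃ N : Subgroup G, N.Normal ∧ N ≠ ⊥ ∧ N ≤ M ∧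
        (∀ K : Subgroup G, K.Normal → K ≤ N → K = ⊥ ∨ K = N) := by
      intro M hM hM1
      obtain ⟨N, ⟨hN, hN1, hNM⟩, hmin⟩ := (wellFounded_lt (α := Subgroup G)).has_min
        {N : Subgroup G | N.Normal ∧ N ≠ ⊥ ∧ N ≤ M} ⟨M, hM, hM1, le_rfl⟩
      exact ⟨N, hN, hN1, hNM, fun K hK hKN => or_iff_not_imp_left.mpr fun h =>
        hKN.eq_of_not_lt (hmin K ⟨hK, h, hKN.trans hNM⟩)⟩
    by_contra hbad
    -- every minimal normal subgroup has order `p`
    have hminp : ∀ N : Subgroup G, N.Normal → N ≠ ⊥ → (∀ K : Subgroup G, K.Normal → K ≤ N → K = ⊥ ∨ K = N) →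
        Nat.card N = p := by
      intro N hN hN1 hmin
      haveI := hN
      obtain ⟨hNc, q, hq, hqN, hexp⟩ := Solvable.elementaryAbelian_of_minimal_normal N hN1 hmin
      haveI := Fact.mk hq
      obtain ⟨j, hj⟩ := IsPGroup.iff_card.mp hqN
      obtain rfl : q = p := by
        by_contra hqp
        refine hbad (hquot N hN hN1 ?_)
        refine (Nat.Coprime.dvd_of_dvd_mul_right ?_ (by rw [mul_comm, N.card_mul_index]; exact hdvd))
        rw [hj]
        exact Nat.Coprime.pow _ _ ((Nat.coprime_primes hp hq).mpr (Ne.symm hqp))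
      have hj0 : j ≠ 0 := fun h => hN1 (Subgroup.card_eq_one.mp (by rw [hj, h, pow_zero]))
      by_contra hne
      have hj2 : 2 ≤ j := by
        by_contra h
        exact hne (by rw [hj, show j = 1 by omega, pow_one])
      exact hbad (bound_of_minimal_normal hp7 N hmin
        (fun x hx y hy => congrArg Subtype.val (hNc.is_comm.comm (⟨x, hx⟩ : N) ⟨y, hy⟩)) hexp
        (hj ▸ Nat.pow_le_pow_right hp.pos hj2))
    haveI : Nontrivial G := Finite.one_lt_card_iff_nontrivial.mp (by
      have : 1 < p ^ 2 := Nat.one_lt_pow (by norm_num) hp.one_lt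
      omega)
    obtain ⟨N, hN, hN1, -, hNmin⟩ := hget ⊤ inferInstance top_ne_bot
    have hNp := hminp N hN hN1 hNmin
    -- the Sylow subgroup
    obtain ⟨S⟩ : Nonempty (Sylow p G) := inferInstance
    have hS : Nat.card (S : Subgroup G) = p ^ 2 := by
      rw [Sylow.card_eq_multiplicity]
      congr 1
      have h2 := (hp.pow_dvd_iff_le_factorization Nat.card_pos.ne').mp hdvd
      by_contra hne
      refine hbad (hquot N hN hN1 ?_)
      have h3 : p ^ 3 ∣ Nat.card G := (hp.pow_dvd_iff_le_factorization Nat.card_pos.ne').mpr (by omega)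
      rw [← N.card_mul_index, hNp, pow_succ' p 2] at h3
      exact Nat.dvd_of_mul_dvd_mul_left hp.pos h3
    have hcore : Cfsg.pPrimeCore p G = ⊥ := by
      rw [Cfsg.pPrimeCore, sSup_eq_bot]
      rintro K ⟨hK, hKc⟩
      by_contra hK1
      obtain ⟨N', hN', hN'1, hN'K, hN'min⟩ := hget K hK hK1
      have h1 := Subgroup.card_dvd_of_le hN'K
      rw [hminp N' hN' hN'1 hN'min] at h1
      exact hp.not_dvd_one (by rw [← (hKc : Nat.gcd _ _ = 1)]; exact Nat.dvd_gcd h1 dvd_rfl)
    have hcen := Solvable.centralizer_pCore_le_of_isSolvable (p := p) hcore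
    haveI := Cores.pCore_normal p G
    obtain ⟨Q, hQ⟩ := (Cores.isPGroup_pCore p G).exists_le_sylow
    have hQc : Nat.card (Q : Subgroup G) = p ^ 2 := by
      rw [Sylow.card_eq_multiplicity, ← Sylow.card_eq_multiplicity S]; exact hS
    have hQeq : (Q : Subgroup G) = Cfsg.pCore p G := by
      refine le_antisymm (fun x hx => hcen (Subgroup.mem_centralizer_iff.mpr fun y hy => ?_)) hQ
      exact congrArg Subtype.val
        (IsPGroup.commutative_of_card_eq_prime_sq (p := p) hQc (⟨y, hQ hy⟩ : (Q : Subgroup G)) ⟨x, hx⟩)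
    haveI hQn : (Q : Subgroup G).Normal := hQeq ▸ (inferInstance : (Cfsg.pCore p G).Normal)
    have hNQ : N ≤ (Q : Subgroup G) := by
      haveI := hN
      rw [hQeq]
      exact Cores.le_pCore hN (IsPGroup.of_card (n := 1) (by rw [hNp, pow_one]))
    haveI := hN
    refine hbad (bound_of_normal_sq hp7 (Q : Subgroup G) N hNQ hQc hNp ?_ (hQeq.symm ▸ hcen))
    exact Q.not_dvd_index

end Cfsg.Agent.SolvClassNum
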