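import Cfsg.Agent.Lib.SolvClassNum.Main
import Mathlib.GroupTheory.SchurZassenhaus
import Mathlib.FieldTheory.IsAlgClosed.AlgebraicClosure

/-!
# A prime dividing a solvable linear group bounds its class number

If the irreducible solvable group `H` on `V` has a normal subgroup of prime order `p` and `p ^ 2` does not divide
`|H|` then `k(H)` plus the number of orbits is at least `p / (3 log p)`.
-/

set_option autoImplicit false
set_option linter.style.haveILetI false

namespace Cfsg.Agent.SolvClassNum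

open Module Polynomial Nearfield

theorem mulAut_comm_of_cyclic {X : Type} [Group X] [IsCyclic X] (f g : MulAut X) : f * g = g * f := by
  letI := IsCyclic.commGroup (α := X)
  obtain ⟨ef, hef⟩ := MonoidHom.map_cyclic f.toMonoidHom
  obtain ⟨eg, heg⟩ := MonoidHom.map_cyclic g.toMonoidHom
  refine MulEquiv.ext fun x => ?_
  simp only [MulAut.mul_apply]
  rw [show f (g x) = (g x) ^ ef from hef _, show g (f x) = (f x) ^ eg from heg _,
    show g x = x ^ eg from heg _, show f x = x ^ ef from hef _, ← zpow_mul, ← zpow_mul, mul_comm]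

/-- The classes of a subgroup are at most the classes of the group times the index. -/
theorem classes_subgroup_le {G : Type} [Group G] [Finite G] (C : Subgroup G) :
    Nat.card (ConjClasses C) ≤ Nat.card (ConjClasses G) * C.index := by
  classical
  let F : ConjClasses C → ConjClasses G := ConjClasses.map C.subtype
  have hconj : ∀ c : ConjClasses C, ∃ g : G, g * (F c).exists_rep.choose * g⁻¹ = (c.exists_rep.choose : G) := by
    intro c
    refine isConj_iff.mp (ConjClasses.mk_eq_mk_iff_isConj.mp ((F c).exists_rep.choose_spec.trans ?_))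
    conv_lhs => rw [← c.exists_rep.choose_spec]
    rfl
  choose g hg using hconj
  have hinj : Function.Injective fun c : ConjClasses C => (F c, (((g c)⁻¹ : G) : G ⧸ C)) := by
    intro c d h
    obtain ⟨h1, h2⟩ := Prod.ext_iff.mp h
    have hk : g d * (g c)⁻¹ ∈ C := by
      have := QuotientGroup.eq.mp h2.symm
      simpa using this
    rw [← c.exists_rep.choose_spec, ← d.exists_rep.choose_spec]
    refine ConjClasses.mk_eq_mk_iff_isConj.mpr (isConj_iff.mpr ⟨⟨_, hk⟩, Subtype.ext ?_⟩)
    show g d * (g c)⁻¹ * (c.exists_rep.choose : G) * (g d * (g c)⁻¹)⁻¹ = (d.exists_rep.choose : G)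
    rw [← hg c, ← hg d, ← show F c = F d from h1]
    group
  refine (Nat.card_le_card_of_injective _ hinj).trans (le_of_eq ?_)
  rw [Nat.card_prod]
  rfl

/-- The automizer of a normal subgroup of prime order is at most the dimension. -/
theorem index_centralizer_le_finrank {q p : ℕ} [Fact q.Prime] (hp : p.Prime) {H V : Type} [Group H] [Finite H]
    [AddCommGroup V] [Module (ZMod q) V] [Finite V] [Nontrivial V] (ρ : H →* (V ≃ₗ[ZMod q] V))
    (hρ : Function.Injective ρ) (hirr : IrrRep ρ) (R : Subgroup H) [hRn : R.Normal] (hR : Nat.card R = p) :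
    (Subgroup.centralizer (R : Set H)).index ≤ finrank (ZMod q) V := by
  classical
  haveI := Fact.mk hp
  set C := Subgroup.centralizer (R : Set H)
  obtain ⟨x, hxR, hx1⟩ := (Subgroup.bot_or_exists_ne_one R).resolve_left
    (fun h => hp.ne_one (by rw [← hR, h, Subgroup.card_bot]))
  have hord : orderOf x = p := by
    rcases (Nat.dvd_prime hp).mp (hR ▸ R.orderOf_dvd_natCard hxR) with h | h
    · exact absurd (orderOf_eq_one_iff.mp h) hx1
    · exact h
  have hz : R = Subgroup.zpowers x :=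
    (Subgroup.eq_of_le_of_card_ge (Subgroup.zpowers_le.mpr hxR) (by rw [Nat.card_zpowers, hord, hR])).symm
  have hpow : ∀ y ∈ R, ∃ i, i < p ∧ y = x ^ i := by
    intro y hy
    rw [hz] at hy
    obtain ⟨i, hi⟩ := (mem_zpowers_iff_mem_range_orderOf (x := x)).mp hy |> Finset.mem_image.mp
    exact ⟨i, hord ▸ Finset.mem_range.mp hi.1, hi.2.symm⟩
  set f := toEnd ρ x with hf
  set μ := minpoly (ZMod q) f with hμ
  have hμm : μ.Monic := minpoly.monic (Algebra.IsIntegral.isIntegral f)
  have hμdeg : μ.natDegree ≤ finrank (ZMod q) V := by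
    rw [← LinearMap.charpoly_natDegree f]
    exact Polynomial.natDegree_le_of_dvd (LinearMap.minpoly_dvd_charpoly f) (LinearMap.charpoly_monic f).ne_zero
  -- no root one
  have h1root : ¬ μ.IsRoot 1 := by
    intro h
    obtain ⟨v, hv⟩ := (Module.End.hasEigenvalue_of_isRoot h).exists_hasEigenvector
    have hxv : ρ x v = v := by
      have := hv.apply_eq_smul
      rwa [one_smul] at this
    have hfix : ∀ y ∈ R, ρ y v = v := by
      intro y hy
      obtain ⟨i, -, rfl⟩ := hpow y hy
      induction i with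
      | zero => rw [pow_zero, map_one]; rfl
      | succ i ih =>
        rw [pow_succ, map_mul, LinearEquiv.mul_apply, hxv]
        exact ih (pow_mem hxR i)
    let U : Submodule (ZMod q) V :=
      { carrier := {u | ∀ y ∈ R, ρ y u = u}
        add_mem' := fun ha hb y hy => by rw [map_add, ha y hy, hb y hy]
        zero_mem' := fun y _ => map_zero _
        smul_mem' := fun c u hu y hy => by rw [map_smul, hu y hy] }
    have hU : ∀ g : H, ∀ u ∈ U, ρ g u ∈ U := by
      intro g u hu y hy
      have h' := hRn.conj_mem y hy g⁻¹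
      rw [inv_inv] at h'
      calc ρ y (ρ g u) = ρ (g * (g⁻¹ * y * g)) u := by
            rw [← LinearEquiv.mul_apply, ← map_mul]; congr 2; group
        _ = ρ g u := by rw [map_mul, LinearEquiv.mul_apply, hu _ h']
    rcases hirr U hU with h' | h'
    · exact hv.2 ((Submodule.eq_bot_iff U).mp h' v hfix)
    · refine hx1 (hρ ?_)
      rw [map_one]
      exact LinearEquiv.ext fun u => (h' ▸ Submodule.mem_top : u ∈ U) x hxR
  -- conjugates are powers
  have hconj : ∀ g : H, ∃ i, i < p ∧ g * x * g⁻¹ = x ^ i := fun g => hpow _ (hRn.conj_mem x hxR g)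
  choose i hip hi using hconj
  let K := AlgebraicClosure (ZMod q)
  obtain ⟨lam, hlam⟩ : ∃ lam : K, aeval lam μ = 0 :=
    IsAlgClosed.exists_aeval_eq_zero K μ (fun h => (minpoly.degree_pos (Algebra.IsIntegral.isIntegral f)).ne' h)
  have hdvd : ∀ P : (ZMod q)[X], aeval f P = 0 → aeval lam P = 0 := by
    intro P hP
    obtain ⟨S, hS⟩ := minpoly.dvd (ZMod q) f hP
    rw [hS, map_mul, ← hμ, hlam, zero_mul]
  have hlamp : lam ^ p = 1 := by
    have := hdvd (X ^ p - 1) (by
      rw [map_sub, map_pow, aeval_X, map_one, hf, ← map_pow,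
        show x ^ p = 1 from hord ▸ pow_orderOf_eq_one x, map_one, sub_self])
    rwa [map_sub, map_pow, aeval_X, map_one, sub_eq_zero] at this
  have hlam1 : lam ≠ 1 := by
    intro h
    apply h1root
    have h2 : aeval (algebraMap (ZMod q) K 1) μ = 0 := by rw [map_one, ← h]; exact hlam
    rw [aeval_algebraMap_apply, map_eq_zero] at h2
    simpa [IsRoot, aeval_def] using h2
  have hlamord : orderOf lam = p := by
    rcases (Nat.dvd_prime hp).mp (orderOf_dvd_of_pow_eq_one hlamp) with h | h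
    · exact absurd (orderOf_eq_one_iff.mp h) hlam1
    · exact h
  have hroot : ∀ g : H, aeval (lam ^ i g) μ = 0 := by
    intro g
    have h0 : aeval (f ^ i g) μ = 0 := by
      rw [hf, ← map_pow, ← hi g, map_mul, map_mul, ← hf]
      have key : ∀ P : (ZMod q)[X], aeval (toEnd ρ g * f * toEnd ρ g⁻¹) P = toEnd ρ g * aeval f P * toEnd ρ g⁻¹ := by
        intro P
        induction P using Polynomial.induction_on with
        | C a =>
          rw [aeval_C, aeval_C, ← Algebra.commutes, mul_assoc, toEnd_cancel', mul_one]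
        | add a b ha hb => rw [map_add, map_add, ha, hb, mul_add, add_mul]
        | monomial n a ih =>
          rw [pow_succ, ← mul_assoc, map_mul, map_mul (aeval f), ih, aeval_X, aeval_X]
          calc _ = toEnd ρ g * aeval f (Polynomial.C a * X ^ n) * (toEnd ρ g⁻¹ * toEnd ρ g) * f * toEnd ρ g⁻¹ := by
                simp only [mul_assoc]
            _ = _ := by rw [toEnd_cancel, mul_one]; simp only [mul_assoc]
      rw [key, minpoly.aeval, mul_zero, zero_mul]
    have h1 := hdvd (μ.comp (X ^ i g)) (by rwa [aeval_comp, map_pow, aeval_X])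
    rwa [aeval_comp, map_pow, aeval_X] at h1
  -- distinct roots
  let Φ : H ⧸ C → (μ.map (algebraMap (ZMod q) K)).roots.toFinset := fun c => ⟨lam ^ i c.out, by
    rw [Multiset.mem_toFinset, mem_roots ((hμm.map _).ne_zero), IsRoot, eval_map, ← aeval_def]
    exact hroot _⟩
  have hΦ : Function.Injective Φ := by
    intro c d h
    have h1 : lam ^ i c.out = lam ^ i d.out := congrArg Subtype.val h
    replace h1 := pow_injOn_Iio_orderOf (Set.mem_Iio.mpr (by rw [hlamord]; exact hip _))
      (Set.mem_Iio.mpr (by rw [hlamord]; exact hip _)) h1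
    have h2 : c.out * x * c.out⁻¹ = d.out * x * d.out⁻¹ := by rw [hi, hi, h1]
    rw [← QuotientGroup.out_eq' c, ← QuotientGroup.out_eq' d, QuotientGroup.eq, Subgroup.mem_centralizer_iff]
    intro y hy
    obtain ⟨j, -, rfl⟩ := hpow y hy
    refine (Commute.pow_left ?_ j).eq
    show x * (c.out⁻¹ * d.out) = c.out⁻¹ * d.out * x
    calc x * (c.out⁻¹ * d.out) = c.out⁻¹ * (c.out * x * c.out⁻¹) * d.out := by group
      _ = c.out⁻¹ * (d.out * x * d.out⁻¹) * d.out := by rw [h2]
      _ = _ := by group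
  refine le_trans ?_ hμdeg
  rw [Subgroup.index_eq_card]
  refine (Nat.card_le_card_of_injective Φ hΦ).trans ?_
  rw [Nat.card_eq_finsetCard]
  refine (Multiset.toFinset_card_le _).trans ((card_roots' _).trans ?_)
  rw [natDegree_map]

theorem unit_bound {x a e : ℕ} (he : 1 ≤ e) (hx : 2 ^ a ≤ x) (hx2 : 5183 ≤ x) :
    a ^ 30 * 24 ^ 10 * blockF e ^ 30 ≤ x ^ (13 * e) := by
  have hA : a ^ 30 * 24 ^ 10 ≤ x ^ 13 := by
    rcases Nat.lt_or_ge a 14 with ha | ha
    · calc a ^ 30 * 24 ^ 10 ≤ 13 ^ 30 * 24 ^ 10 := Nat.mul_le_mul_right _ (Nat.pow_le_pow_left (by omega) _)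
        _ ≤ 5183 ^ 13 := by norm_num
        _ ≤ x ^ 13 := Nat.pow_le_pow_left hx2 _
    · have h1 : 24 * a ^ 3 ≤ 2 ^ (a + 4) := by
        clear hx
        induction a, ha using Nat.le_induction with
        | base => norm_num
        | succ k hk ih =>
          rw [show k + 1 + 4 = k + 4 + 1 by omega, pow_succ 2]
          nlinarith [Nat.mul_le_mul hk (Nat.mul_le_mul hk hk)]
      calc a ^ 30 * 24 ^ 10 = (24 * a ^ 3) ^ 10 := by ring
        _ ≤ (2 ^ (a + 4)) ^ 10 := Nat.pow_le_pow_left h1 _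
        _ ≤ (2 ^ a) ^ 13 := by
          rw [← pow_mul, ← pow_mul]; exact Nat.pow_le_pow_right (by norm_num) (by omega)
        _ ≤ x ^ 13 := Nat.pow_le_pow_left hx _
  have hB : blockF e ≤ 2 ^ (5 * (e - 1)) := by
    rcases Nat.lt_or_ge e 16 with h | h
    · revert he
      revert e
      decide +kernel
    · have hl : 4 ≤ Nat.log 2 e := Nat.le_log_of_pow_le (by norm_num) h
      set l := Nat.log 2 e
      have hup : e ≤ 2 ^ (l + 1) := (Nat.lt_pow_succ_log_self (by norm_num) e).le
      have hlow : 2 ^ l ≤ e := Nat.pow_log_le_self 2 (by omega)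
      have hpoly : (l + 1) * (2 * l + 3) + 5 ≤ 5 * 2 ^ l := by
        clear_value l
        clear hup hlow
        induction l, hl using Nat.le_induction with
        | base => norm_num
        | succ k hk ih => rw [pow_succ]; nlinarith
      calc blockF e = e * e * spBound e := rfl
        _ ≤ e * e * e ^ (2 * l + 1) := Nat.mul_le_mul_left _ (spBound_le e he)
        _ = e ^ (2 * l + 3) := by ring
        _ ≤ (2 ^ (l + 1)) ^ (2 * l + 3) := Nat.pow_le_pow_left hup _
        _ ≤ _ := by rw [← pow_mul]; exact Nat.pow_le_pow_right (by norm_num) (by omega)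
  calc a ^ 30 * 24 ^ 10 * blockF e ^ 30 ≤ x ^ 13 * (2 ^ (5 * (e - 1))) ^ 30 :=
        Nat.mul_le_mul hA (Nat.pow_le_pow_left hB _)
    _ = x ^ 13 * (2 ^ 12) ^ (12 * (e - 1)) * 2 ^ (6 * (e - 1)) := by
        rw [← pow_mul, ← pow_mul, mul_assoc (x ^ 13), ← pow_add]; congr 2; omega
    _ ≤ x ^ 13 * x ^ (12 * (e - 1)) * x ^ (e - 1) := by
        refine Nat.mul_le_mul (Nat.mul_le_mul_left _ (Nat.pow_le_pow_left (by omega) _)) ?_
        rw [pow_mul]
        exact Nat.pow_le_pow_left (by omega) _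
    _ = x ^ (13 * e) := by rw [← pow_add, ← pow_add]; congr 1; omega

/-- The bound for a linear group with a normal subgroup of order `p`. -/
theorem prime_linear_bound {q p : ℕ} [Fact q.Prime] (hp : p.Prime) {H V : Type} [Group H] [Finite H]
    [Group.IsSolvable H] [AddCommGroup V] [Module (ZMod q) V] [Finite V] [Nontrivial V]
    (ρ : H →* (V ≃ₗ[ZMod q] V)) (hρ : Function.Injective ρ) (hirr : IrrRep ρ) (R : Subgroup H) [R.Normal]
    (hR : Nat.card R = p) (hp2 : ¬ p ^ 2 ∣ Nat.card H) (r : ℕ)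
    (hr : q ^ finrank (ZMod q) V - 1 ≤ r * Nat.card H) (horb : ∀ k, HasOrbits ρ k → k ≤ r) :
    p ≤ 3 * Nat.log 2 p * (Nat.card (ConjClasses H) + r) := by
  classical
  by_contra hbad
  push Not at hbad
  set n := finrank (ZMod q) V
  set L := Nat.log 2 p
  set k := Nat.card (ConjClasses H)
  set K := k + r
  have hq : q.Prime := Fact.out
  haveI := Fact.mk hp
  haveI := isCyclic_of_prime_card hR
  set C := Subgroup.centralizer (R : Set H)
  have hL1 : 1 ≤ L := Nat.log_pos (by norm_num) hp.two_le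
  have hpL : p < 2 ^ (L + 1) := Nat.lt_pow_succ_log_self (by norm_num) p
  set t := C.index with htdef
  have ht1 : 0 < t := Nat.pos_of_ne_zero Subgroup.index_ne_zero_of_finite
  have hRC : R ≤ C := by
    letI := IsCyclic.commGroup (α := R)
    exact fun a ha => Subgroup.mem_centralizer_iff.mpr fun b hb =>
      congrArg Subtype.val (mul_comm (⟨b, hb⟩ : R) ⟨a, ha⟩)
  haveI hCn : C.Normal := inferInstance
  have hab : ∀ a b : H ⧸ C, a * b = b * a := by
    intro a b
    induction a using QuotientGroup.induction_on with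
    | _ a =>
      induction b using QuotientGroup.induction_on with
      | _ b =>
        rw [← QuotientGroup.mk_mul, ← QuotientGroup.mk_mul, QuotientGroup.eq, Subgroup.mem_centralizer_iff]
        intro y hy
        have h1 : (MulAut.conjNormal ((a * b)⁻¹ * (b * a)) : MulAut R) = 1 := by
          rw [map_mul, map_inv, map_mul, map_mul,
            mulAut_comm_of_cyclic (MulAut.conjNormal a : MulAut R) (MulAut.conjNormal b), inv_mul_cancel]
        have h2 := congrArg Subtype.val (DFunLike.congr_fun h1 (⟨y, hy⟩ : R))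
        rw [MulAut.conjNormal_apply, MulAut.one_apply] at h2
        exact (mul_inv_eq_iff_eq_mul.mp h2).symm
  have hkq : t ≤ Nat.card (ConjClasses (H ⧸ R)) := by
    rw [htdef, Subgroup.index_eq_card, ← classes_eq_card_of_comm hab]
    refine classes_le_of_surj (QuotientGroup.map R C (MonoidHom.id H) hRC) fun y => ?_
    induction y using QuotientGroup.induction_on with
    | _ y => exact ⟨(y : H ⧸ R), rfl⟩
  have hk := classes_quotient_add R
  have hi := card_sub_one_le_inN_mul R
  rw [hR] at hi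
  have hin : 1 ≤ inN (R : Set H) := inN_pos ⟨1, one_mem R⟩
  set i := inN (R : Set H) - 1
  have hti : t + i ≤ K := by omega
  have hp36 : 36 * L ^ 2 ≤ p + 1 := by
    have h1 : 4 * (p - 1) ≤ K ^ 2 := by
      calc 4 * (p - 1) ≤ 4 * (i * t) := Nat.mul_le_mul_left _ hi
        _ ≤ (t + i) ^ 2 := by nlinarith [sq_nonneg ((t : ℤ) - i)]
        _ ≤ _ := Nat.pow_le_pow_left hti 2
    have h2 : 36 * L ^ 2 * (p - 1) < p ^ 2 := by
      calc 36 * L ^ 2 * (p - 1) = 9 * L ^ 2 * (4 * (p - 1)) := by ring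
        _ ≤ 9 * L ^ 2 * K ^ 2 := Nat.mul_le_mul_left _ h1
        _ = (3 * L * K) ^ 2 := by ring
        _ < p ^ 2 := Nat.pow_lt_pow_left hbad (by norm_num)
    by_contra h
    obtain ⟨j, rfl⟩ : ∃ j, p = j + 2 := ⟨p - 2, by have := hp.two_le; omega⟩
    have h3 : (j + 4) * (j + 1) ≤ 36 * L ^ 2 * (j + 2 - 1) := Nat.mul_le_mul (by omega) (by omega)
    nlinarith
  have hL : 12 ≤ L := by
    by_contra h
    interval_cases L <;> omega
  have hp5 : 5183 ≤ p := by have := Nat.pow_le_pow_left hL 2; omega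
  have hLk : 36 * K ≤ 3 * L * K := Nat.mul_le_mul_right _ (by omega)
  -- the complement in the centralizer
  haveI : (R.subgroupOf C).Normal := inferInstance
  have hRC' : Nat.card (R.subgroupOf C) = p := by rw [Nat.card_congr (Subgroup.subgroupOfEquivOfLe hRC).toEquiv, hR]
  have hcop : Nat.Coprime (Nat.card (R.subgroupOf C)) (R.subgroupOf C).index := by
    rw [hRC', hp.coprime_iff_not_dvd]
    intro h
    have h' := (Nat.mul_dvd_mul (dvd_refl p) h)
    rw [← pow_two] at h'
    refine hp2 (h'.trans (dvd_trans ?_ (Subgroup.card_subgroup_dvd_card C)))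
    exact dvd_of_eq (by rw [← (R.subgroupOf C).card_mul_index, hRC'])
  obtain ⟨S, hS⟩ := Subgroup.exists_right_complement'_of_coprime hcop
  have hcent : ∀ (a : C), a ∈ R.subgroupOf C → ∀ b : C, a * b = b * a := fun a ha b => Subtype.ext
    (Subgroup.mem_centralizer_iff.mp b.2 (a : H) ha)
  have hkC : p * Nat.card (ConjClasses S) ≤ Nat.card (ConjClasses C) := by
    rw [← hRC', ← Nat.card_prod]
    refine Nat.card_le_card_of_injective
      (fun w : (R.subgroupOf C) × ConjClasses S => ConjClasses.mk ((w.1 : C) * (w.2.exists_rep.choose : S))) ?_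
    rintro ⟨a, c⟩ ⟨b, d⟩ h
    obtain ⟨g, hg⟩ := isConj_iff.mp (ConjClasses.mk_eq_mk_iff_isConj.mp h)
    obtain ⟨⟨z, s⟩, hzs⟩ := hS.2 g
    have hzs' : (z : C) * (s : C) = g := hzs
    have hc1 : g * ((a : C) * (c.exists_rep.choose : S)) * g⁻¹ =
        (a : C) * ((s * c.exists_rep.choose * s⁻¹ : S) : C) := by
      rw [← hzs']
      calc (z : C) * s * ((a : C) * (c.exists_rep.choose : S)) * ((z : C) * s)⁻¹
          = (z : C) * ((s : C) * (a : C)) * (c.exists_rep.choose : S) * (s : C)⁻¹ * (z : C)⁻¹ := by group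
        _ = (z : C) * ((a : C) * (s : C) * (c.exists_rep.choose : S) * (s : C)⁻¹) * (z : C)⁻¹ := by
            rw [← hcent a a.2 s]; group
        _ = _ := by
            rw [hcent z z.2, mul_assoc, mul_inv_cancel, mul_one, Subgroup.coe_mul, Subgroup.coe_mul, Subgroup.coe_inv]
            group
    rw [hc1] at hg
    obtain ⟨hab', hsd⟩ := Prod.ext_iff.mp (hS.1 (a₁ := (a, s * c.exists_rep.choose * s⁻¹))
      (a₂ := (b, d.exists_rep.choose)) hg)
    refine Prod.ext hab' ?_
    show c = d
    rw [← c.exists_rep.choose_spec, ← d.exists_rep.choose_spec]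
    exact ConjClasses.mk_eq_mk_iff_isConj.mpr (isConj_iff.mpr ⟨s, hsd⟩)
  set k0 := Nat.card (ConjClasses S)
  have ht0 : 3 * L * k0 < t := by
    refine Nat.lt_of_mul_lt_mul_left (a := p) ?_
    calc p * (3 * L * k0) = 3 * L * (p * k0) := by ring
      _ ≤ 3 * L * (k * t) := Nat.mul_le_mul_left _ (hkC.trans (classes_subgroup_le C))
      _ = 3 * L * k * t := (mul_assoc _ _ _).symm
      _ < p * t := Nat.mul_lt_mul_of_pos_right ((Nat.mul_le_mul_left _ (Nat.le_add_right k r)).trans_lt hbad) ht1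
  have htn : t ≤ n := index_centralizer_le_finrank hp ρ hρ hirr R hR
  haveI : Nonempty (ConjClasses S) := ⟨ConjClasses.mk 1⟩
  have hk0 : 1 ≤ k0 := Nat.card_pos
  have h2n : ∀ j, j ≤ n → 2 ^ j ≤ q ^ n := fun j hj =>
    (Nat.pow_le_pow_right (by norm_num) hj).trans (Nat.pow_le_pow_left hq.two_le n)
  rcases Nat.lt_or_ge k0 5 with hk4 | hk5
  · haveI : Group.IsSolvable S := inferInstance
    have hS12 : Nat.card S ≤ 12 := card_le_twelve_of_classes_le_four (by omega)
    have hH : Nat.card H = p * Nat.card S * t := by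
      rw [← C.card_mul_index, ← hS.card_mul, hRC']
    have hn3 : 3 * L + 1 ≤ n := by
      have : 3 * L * 1 ≤ 3 * L * k0 := Nat.mul_le_mul_left _ hk0
      omega
    have h1 := h2n _ hn3
    have h2 : p ^ 3 < 4 * q ^ n := by
      calc p ^ 3 < (2 ^ (L + 1)) ^ 3 := Nat.pow_lt_pow_left hpL (by norm_num)
        _ = 4 * 2 ^ (3 * L + 1) := by ring
        _ ≤ _ := Nat.mul_le_mul_left _ h1
    have h3 : q ^ n - 1 ≤ r * (p * 12 * t) := hr.trans (Nat.mul_le_mul_left _ (by
      rw [hH]; exact Nat.mul_le_mul_right _ (Nat.mul_le_mul_left _ hS12)))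
    have h4 : 108 * (q ^ n - 1) ≤ p ^ 3 := by
      calc 108 * (q ^ n - 1) ≤ 108 * (r * (p * 12 * t)) := Nat.mul_le_mul_left _ h3
        _ = 36 * r * p * (36 * t) := by ring
        _ ≤ p * p * p := Nat.mul_le_mul (Nat.mul_le_mul_right _ (by omega)) (by omega)
        _ = _ := by ring
    have : 2 ^ 1 ≤ q ^ n := h2n 1 (by omega)
    omega
  · obtain ⟨A, m, a, e, P, hAn, hAc, hm, ha, he, hdim, hP, hI, hJ, ho, -, -, -, hpr⟩ :=
      data_of_irr n ρ hρ hirr rfl
    haveI := hAn
    rcases hpr R inferInstance (hR.symm ▸ hp) with h | h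
    · have := horb m ho
      omega
    rw [hR] at h
    have hqa : 5183 ≤ q ^ a := by
      have h0 : 1 < q ^ a := Nat.one_lt_pow (by omega) hq.one_lt
      have := Nat.le_of_dvd (by omega) h
      omega
    have hJ30 : A.index ^ 30 ≤ q ^ (13 * n) := by
      have hP' : P ^ 30 ≤ (24 ^ 10) ^ m := by
        calc P ^ 30 = (P ^ 3) ^ 10 := by ring
          _ ≤ (24 ^ (m - 1)) ^ 10 := Nat.pow_le_pow_left hP _
          _ ≤ (24 ^ m) ^ 10 := Nat.pow_le_pow_left (Nat.pow_le_pow_right (by norm_num) (Nat.sub_le m 1)) _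
          _ = _ := by rw [← pow_mul, ← pow_mul, mul_comm]
      calc A.index ^ 30 ≤ (a ^ m * P * blockF e ^ m) ^ 30 := Nat.pow_le_pow_left hJ _
        _ = (a ^ 30) ^ m * P ^ 30 * (blockF e ^ 30) ^ m := by ring
        _ ≤ (a ^ 30) ^ m * (24 ^ 10) ^ m * (blockF e ^ 30) ^ m := Nat.mul_le_mul_right _ (Nat.mul_le_mul_left _ hP')
        _ = (a ^ 30 * 24 ^ 10 * blockF e ^ 30) ^ m := by rw [mul_pow, mul_pow]
        _ ≤ ((q ^ a) ^ (13 * e)) ^ m :=
          Nat.pow_le_pow_left (unit_bound he (Nat.pow_le_pow_left hq.two_le a) hqa) _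
        _ = q ^ (13 * (a * e * m)) := by rw [← pow_mul, ← pow_mul]; ring_nf
        _ ≤ _ := Nat.pow_le_pow_right hq.pos (Nat.mul_le_mul_left _ hdim)
    set J := A.index
    have hIJ : (Subgroup.centralizer (A : Set H)).index ≤ J :=
      Nat.le_of_dvd (Nat.pos_of_ne_zero Subgroup.index_ne_zero_of_finite) (Subgroup.index_dvd_of_le fun x hx =>
        Subgroup.mem_centralizer_iff.mpr fun y hy => hAc y hy x hx)
    have hz : Nat.card A ≤ K * J := (card_le_inN_mul A).trans (Nat.mul_le_mul
      ((Set.ncard_le_card _).trans (Nat.le_add_right _ _)) hIJ)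
    have h1 : q ^ n - 1 ≤ (K * J) ^ 2 := by
      calc q ^ n - 1 ≤ r * Nat.card H := hr
        _ = r * (Nat.card A * J) := by rw [A.card_mul_index]
        _ ≤ K * (K * J * J) := Nat.mul_le_mul (Nat.le_add_left _ _) (Nat.mul_le_mul_right _ hz)
        _ = _ := by ring
    have h2 : q ^ n * 2 ^ 9 ≤ p ^ 2 * J ^ 2 := by
      have : 1296 * (K * J) ^ 2 ≤ p ^ 2 * J ^ 2 := by
        rw [show 1296 * (K * J) ^ 2 = (36 * K) ^ 2 * J ^ 2 by ring]
        exact Nat.mul_le_mul_right _ (Nat.pow_le_pow_left (by omega) _)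
      have : 2 ^ 1 ≤ q ^ n := h2n 1 (by omega)
      omega
    have h3 : q ^ (13 * n) * (q ^ (2 * n) * 2 ^ 135) ≤ q ^ (13 * n) * p ^ 30 := by
      calc q ^ (13 * n) * (q ^ (2 * n) * 2 ^ 135) = (q ^ n * 2 ^ 9) ^ 15 := by ring
        _ ≤ (p ^ 2 * J ^ 2) ^ 15 := Nat.pow_le_pow_left h2 _
        _ = p ^ 30 * J ^ 30 := by ring
        _ ≤ p ^ 30 * q ^ (13 * n) := Nat.mul_le_mul_left _ hJ30
        _ = _ := mul_comm _ _
    have h4 := Nat.le_of_mul_le_mul_left h3 (pow_pos hq.pos _)
    have hn15 : 15 * L + 1 ≤ n := by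
      have : 3 * L * 5 ≤ 3 * L * k0 := Nat.mul_le_mul_left _ hk5
      omega
    have h5 : 2 ^ (30 * L + 2 + 135) ≤ 2 ^ (30 * L + 30) := by
      calc 2 ^ (30 * L + 2 + 135) = (2 ^ (15 * L + 1)) ^ 2 * 2 ^ 135 := by rw [← pow_mul, ← pow_add]; ring_nf
        _ ≤ (q ^ n) ^ 2 * 2 ^ 135 := Nat.mul_le_mul_right _ (Nat.pow_le_pow_left (h2n _ hn15) 2)
        _ = q ^ (2 * n) * 2 ^ 135 := by rw [← pow_mul, mul_comm n]
        _ ≤ p ^ 30 := h4
        _ ≤ (2 ^ (L + 1)) ^ 30 := Nat.pow_le_pow_left hpL.le _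
        _ = _ := by rw [← pow_mul]; ring_nf
    have := (Nat.pow_le_pow_iff_right (by norm_num : 1 < 2)).mp h5
    omega

end Cfsg.Agent.SolvClassNum
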