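import Cfsg.Agent.Lib.SolvClassNum.PrimeBound

/-!
# A prime dividing the index of the Fitting subgroup of a solvable group bounds the class number
-/

set_option autoImplicit false
set_option linter.style.haveILetI false

namespace Cfsg.Agent.SolvClassNum

open Module
open scoped commutatorElement

theorem finite_linearEquiv {K X : Type} [Semiring K] [AddCommMonoid X] [Module K X] [Finite X] :
    Finite (X ≃ₗ[K] X) :=
  Finite.of_injective (fun f : X ≃ₗ[K] X => (f : X → X)) DFunLike.coe_injective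

/-- A minimal normal subgroup normalized into a non-normal subgroup of order `p`, as a module. -/
theorem bound_of_prime_module {q p : ℕ} [Fact q.Prime] (hp : p.Prime) {G : Type} [Group G] [Finite G]
    [Group.IsSolvable G] (N : Subgroup G) [hNn : N.Normal]
    (hmin : ∀ M : Subgroup G, M.Normal → M ≤ N → M = ⊥ ∨ M = N) (hc : ∀ x ∈ N, ∀ y ∈ N, x * y = y * x)
    {X : Type} [AddCommGroup X] [Module (ZMod q) X] [Finite X] [Nontrivial X] (e : X → G) (he : Function.Injective e)
    (heN : ∀ g, g ∈ N ↔ ∃ x, e x = g) (hadd : ∀ x y, e (x + y) = e x * e y)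
    (ρ0 : G →* (X ≃ₗ[ZMod q] X)) (hρ0 : ∀ g x, e (ρ0 g x) = g * e x * g⁻¹)
    (hpN : ¬ p ∣ Nat.card N) (hp2 : ¬ p ^ 2 ∣ Nat.card G)
    (S : Subgroup G) (hS : Nat.card S = p) (hNS : (N ⊔ S).Normal) (hSn : ¬ S.Normal) :
    p ≤ 3 * Nat.log 2 p * Nat.card (ConjClasses G) := by
  classical
  obtain ⟨r, -, hirr, hr, horb, hk⟩ := module_reduction N hmin hc e he heN hadd ρ0 hρ0
  haveI := finite_linearEquiv (K := ZMod q) (X := X)
  haveI : Group.IsSolvable ρ0.range := Group.isSolvable_of_surjective ρ0.rangeRestrict_surjective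
  have hker : ∀ g, ρ0 g = 1 ↔ ∀ v ∈ N, g * v = v * g := by
    intro g
    constructor
    · intro h v hv
      obtain ⟨x, rfl⟩ := (heN v).mp hv
      have h2 := hρ0 g x
      rw [h] at h2
      exact mul_inv_eq_iff_eq_mul.mp h2.symm
    · intro h
      refine LinearEquiv.ext fun x => he ?_
      rw [hρ0, h _ ((heN _).mpr ⟨x, rfl⟩), mul_inv_cancel_right]
      rfl
  let R : Subgroup ρ0.range := S.map ρ0.rangeRestrict
  haveI hRn : R.Normal := by
    have h1 : (N ⊔ S).map ρ0.rangeRestrict = R := by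
      rw [Subgroup.map_sup, sup_eq_right]
      refine le_trans (le_of_eq ((Subgroup.map_eq_bot_iff _).mpr fun v hv => ?_)) bot_le
      exact Subtype.ext ((hker v).mpr fun w hw => hc v hv w hw)
    exact h1 ▸ hNS.map _ ρ0.rangeRestrict_surjective
  have hR : Nat.card R = p := by
    rcases (Nat.dvd_prime hp).mp (hS ▸ Subgroup.card_map_dvd S ρ0.rangeRestrict) with h | h
    · exfalso
      have hcent : ∀ s ∈ S, ∀ v ∈ N, s * v = v * s := fun s hs =>
        (hker s).mp (congrArg Subtype.val ((Subgroup.map_eq_bot_iff S).mp (Subgroup.card_eq_one.mp h) hs))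
      refine hSn ⟨fun s hs g => ?_⟩
      have hmem : g * s * g⁻¹ ∈ N ⊔ S := hNS.conj_mem s (le_sup_right (a := N) hs) g
      rw [← SetLike.mem_coe, Subgroup.normal_mul] at hmem
      obtain ⟨v, hv, s', hs', hvs : v * s' = g * s * g⁻¹⟩ := hmem
      have hsp : ∀ u ∈ S, u ^ p = 1 := fun u hu => by
        have := pow_card_eq_one' (x := (⟨u, hu⟩ : S))
        rw [hS] at this
        exact congrArg Subtype.val this
      have hvp : v ^ p = 1 := by
        have h2 : (g * s * g⁻¹) ^ p = 1 := by rw [conj_pow, hsp s hs, mul_one, mul_inv_cancel]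
        rwa [← hvs, Commute.mul_pow (show Commute v s' from (hcent s' hs' v hv).symm), hsp s' hs', mul_one] at h2
      have hv1 : v = 1 := by
        rcases (Nat.dvd_prime hp).mp (orderOf_dvd_of_pow_eq_one hvp) with h3 | h3
        · exact orderOf_eq_one_iff.mp h3
        · exact absurd (h3 ▸ N.orderOf_dvd_natCard hv) hpN
      rw [← hvs, hv1, one_mul]
      exact hs'
    · exact h
  have hp2' : ¬ p ^ 2 ∣ Nat.card ρ0.range := fun h => hp2 (h.trans (Subgroup.card_range_dvd ρ0))
  exact (prime_linear_bound hp ρ0.range.subtype Subtype.val_injective hirr R hR hp2' r hr horb).trans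
    (Nat.mul_le_mul_left _ hk)

/-- A minimal normal subgroup normalized into a non-normal subgroup of order `p`. -/
theorem bound_of_prime_action {q p : ℕ} [Fact q.Prime] (hp : p.Prime) {G : Type} [Group G] [Finite G]
    [Group.IsSolvable G] (N : Subgroup G) [hNn : N.Normal] (hN1 : N ≠ ⊥)
    (hmin : ∀ M : Subgroup G, M.Normal → M ≤ N → M = ⊥ ∨ M = N) (hc : ∀ x ∈ N, ∀ y ∈ N, x * y = y * x)
    (hexp : ∀ x ∈ N, x ^ q = 1) (hpN : ¬ p ∣ Nat.card N) (hp2 : ¬ p ^ 2 ∣ Nat.card G)
    (S : Subgroup G) (hS : Nat.card S = p) (hNS : (N ⊔ S).Normal) (hSn : ¬ S.Normal) :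
    p ≤ 3 * Nat.log 2 p * Nat.card (ConjClasses G) := by
  classical
  letI : CommGroup N := { (inferInstance : Group N) with mul_comm := fun a b => Subtype.ext (hc a a.2 b b.2) }
  letI : Module (ZMod q) (Additive N) := AddCommGroup.zmodModule (n := q) (fun x => by
    refine Additive.toMul.injective ?_
    rw [toMul_nsmul, toMul_zero]
    exact Subtype.ext (by rw [SubgroupClass.coe_pow]; exact hexp _ (Additive.toMul x).2))
  haveI : Finite (Additive N) := inferInstanceAs (Finite N)
  haveI : Nontrivial (Additive N) := by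
    haveI := (Subgroup.nontrivial_iff_ne_bot N).mpr hN1
    exact inferInstanceAs (Nontrivial N)
  obtain ⟨ρ0, hρ⟩ := exists_linear_rep (p := q) (X := Additive N) (G := G)
    (fun g => (MulAut.conjNormal g : N ≃* N).toMonoidHom.toAdditive)
    (fun x => congrArg Additive.ofMul (show (MulAut.conjNormal (1 : G) : N ≃* N) (Additive.toMul x) = Additive.toMul x by
      rw [map_one]; rfl))
    (fun a b x => congrArg Additive.ofMul (show (MulAut.conjNormal (a * b) : N ≃* N) (Additive.toMul x) =
        MulAut.conjNormal a (MulAut.conjNormal b (Additive.toMul x)) by rw [map_mul]; rfl))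
  exact bound_of_prime_module hp N hmin hc (fun x : Additive N => ((Additive.toMul x : N) : G))
    (fun a b h => Additive.toMul.injective (Subtype.ext h))
    (fun g => ⟨fun hg => ⟨Additive.ofMul ⟨g, hg⟩, rfl⟩, fun ⟨x, hx⟩ => hx ▸ (Additive.toMul x).2⟩)
    (fun _ _ => rfl) ρ0 (fun g x => by rw [hρ]; rfl) hpN hp2 S hS hNS hSn

/-- The theorem, with the integral part of the logarithm. -/
theorem fitting_prime_classes (p : ℕ) [Fact p.Prime] (G : Type) [Group G] [Finite G] [Group.IsSolvable G]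
    (hp : p ∣ (Cfsg.fittingSubgroup G).index) : p ≤ 3 * Nat.log 2 p * Nat.card (ConjClasses G) := by
  classical
  have hpp : p.Prime := Fact.out
  have hG : p ∣ Nat.card G := hp.trans (Subgroup.index_dvd_card _)
  by_cases hp2 : p ^ 2 ∣ Nat.card G
  · have h1 := solvable_classes_bound p _ G rfl hp2
    have hL : 3 * 1 * Nat.card (ConjClasses G) ≤ 3 * Nat.log 2 p * Nat.card (ConjClasses G) :=
      Nat.mul_le_mul_right _ (Nat.mul_le_mul_left _ (Nat.log_pos (by norm_num) hpp.two_le))
    omega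
  obtain ⟨M, ⟨hMn, hMp⟩, hMmin⟩ := (wellFounded_lt (α := Subgroup G)).has_min
    {M : Subgroup G | M.Normal ∧ p ∣ Nat.card M} ⟨⊤, inferInstance, by rwa [Subgroup.card_top]⟩
  haveI := hMn
  set L := ⁅M, M⁆ with hLdef
  have hLM : L < M := Group.IsSolvable.commutator_lt_of_ne_bot (fun h => hpp.ne_one (Nat.dvd_one.mp (by
    rw [h, Subgroup.card_bot] at hMp; exact hMp)))
  haveI hLn : L.Normal := Subgroup.commutator_normal M M
  have hpL : ¬ p ∣ Nat.card L := fun h => hMmin L ⟨hLn, h⟩ hLM
  obtain ⟨x, hx⟩ := exists_prime_orderOf_dvd_card' (G := M) p hMp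
  set S := Subgroup.zpowers (x : G)
  have hS : Nat.card S = p := by rw [Nat.card_zpowers, Subgroup.orderOf_coe, hx]
  have hSM : S ≤ M := Subgroup.zpowers_le.mpr x.2
  haveI hW : (L ⊔ S).Normal := by
    let W : Subgroup M := (L ⊔ S).subgroupOf M
    have hLW : commutator M ≤ W := by
      intro y hy
      show (y : G) ∈ L ⊔ S
      refine le_sup_left (b := S) ?_
      have : (commutator M).map M.subtype = L := by rw [commutator_def, Subgroup.map_commutator, ← MonoidHom.range_eq_map, Subgroup.range_subtype]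
      exact this ▸ ⟨y, hy, rfl⟩
    haveI : W.Normal := by
      refine ⟨fun y hy g => ?_⟩
      have h1 : ⁅g, y⁆ ∈ W := hLW (Subgroup.commutator_mem_commutator (Subgroup.mem_top g) (Subgroup.mem_top y))
      have := mul_mem h1 hy
      simpa [commutatorElement_def, mul_assoc] using this
    have hWp : ¬ p ∣ W.index := by
      intro h
      refine hp2 (dvd_trans ?_ (Subgroup.card_subgroup_dvd_card M))
      rw [pow_two, ← W.card_mul_index]
      refine Nat.mul_dvd_mul ?_ h
      rw [Nat.card_congr (Subgroup.subgroupOfEquivOfLe (sup_le hLM.le hSM)).toEquiv, ← hS]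
      exact Subgroup.card_dvd_of_le le_sup_right
    have hall : ∀ y ∈ M, y ^ p = 1 → y ∈ L ⊔ S := by
      intro y hy hyp
      suffices (⟨y, hy⟩ : M) ∈ W from this
      rw [← QuotientGroup.eq_one_iff, ← orderOf_eq_one_iff]
      rcases (Nat.dvd_prime hpp).mp (orderOf_dvd_of_pow_eq_one (x := ((⟨y, hy⟩ : M) : M ⧸ W)) (n := p)
        (by rw [← QuotientGroup.mk_pow, show (⟨y, hy⟩ : M) ^ p = 1 from Subtype.ext hyp]; rfl)) with h | h
      · exact h
      · exact absurd (h ▸ orderOf_dvd_natCard _) (by rwa [← Subgroup.index_eq_card])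
    refine Subgroup.normalizer_eq_top_iff.mp (eq_top_iff.mpr fun g _ => ?_)
    have hle : ∀ g : G, ∀ w ∈ L ⊔ S, g * w * g⁻¹ ∈ L ⊔ S := by
      intro g
      suffices L ⊔ S ≤ (L ⊔ S).comap (MulAut.conj g).toMonoidHom from fun w hw => this hw
      refine sup_le (fun w hw => ?_) (Subgroup.zpowers_le.mpr ?_)
      · exact le_sup_left (b := S) (hLn.conj_mem w hw g)
      · refine hall _ (hMn.conj_mem _ x.2 g) ?_
        show (g * (x : G) * g⁻¹) ^ p = 1
        rw [conj_pow, ← Subgroup.coe_pow, ← hx, pow_orderOf_eq_one, OneMemClass.coe_one, mul_one, mul_inv_cancel]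
    rw [Subgroup.mem_normalizer_iff]
    exact fun w => ⟨hle g w, fun hw => by
      have := hle g⁻¹ _ hw
      simpa [mul_assoc] using this⟩
  by_cases hSn : S.Normal
  · exfalso
    refine hp2 ?_
    rw [pow_two, ← (Cfsg.fittingSubgroup G).card_mul_index]
    refine Nat.mul_dvd_mul (hS ▸ Subgroup.card_dvd_of_le ?_) hp
    exact le_sSup (show S ∈ {N : Subgroup G | N.Normal ∧ Group.IsNilpotent N} from
      ⟨hSn, (IsPGroup.of_card (n := 1) (by rw [hS, pow_one])).isNilpotent⟩)
  obtain ⟨K, ⟨hKn, hKL, hKS⟩, hKmax⟩ := (wellFounded_gt (α := Subgroup G)).has_min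
    {K : Subgroup G | K.Normal ∧ K ≤ L ∧ ¬ (K ⊔ S).Normal} ⟨⊥, inferInstance, bot_le, by rwa [bot_sup_eq]⟩
  haveI := hKn
  let π := QuotientGroup.mk' K
  have hπ : Function.Surjective π := QuotientGroup.mk'_surjective K
  have hcomap : ∀ X : Subgroup G, (X.map π).comap π = K ⊔ X := fun X => by
    rw [Subgroup.comap_map_eq, QuotientGroup.ker_mk', sup_comm]
  haveI : Group.IsSolvable (G ⧸ K) := Group.isSolvable_of_surjective hπ
  have hpK : ¬ p ∣ Nat.card K := fun h => hpL (h.trans (Subgroup.card_dvd_of_le hKL))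
  have hS' : Nat.card (S.map π) = p := by
    rcases (Nat.dvd_prime hpp).mp (hS ▸ Subgroup.card_map_dvd S π) with h | h
    · refine absurd ?_ hpK
      rw [← hS]
      refine Subgroup.card_dvd_of_le ((Subgroup.map_eq_bot_iff S).mp (Subgroup.card_eq_one.mp h) |>.trans (le_of_eq ?_))
      exact QuotientGroup.ker_mk' K
    · exact h
  haveI : (L.map π).Normal := hLn.map π hπ
  have hLne : L.map π ≠ ⊥ := by
    intro h
    have h1 : L ≤ K := (Subgroup.map_eq_bot_iff L).mp h |>.trans (le_of_eq (QuotientGroup.ker_mk' K))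
    exact hKS (le_antisymm h1 hKL ▸ hW)
  obtain ⟨q, hq, V, hVn, hV1, hVL, hVc, -, hVexp, hVmin⟩ := Solvable.exists_minimal_normal_pGroup hLne
  haveI := Fact.mk hq
  haveI := hVn
  have hVp : ¬ p ∣ Nat.card V := fun h =>
    hpL (h.trans ((Subgroup.card_dvd_of_le hVL).trans (Subgroup.card_map_dvd L π)))
  have hp2' : ¬ p ^ 2 ∣ Nat.card (G ⧸ K) := fun h => hp2 (h.trans (Subgroup.card_quotient_dvd_card K))
  have hVS : (V ⊔ S.map π).Normal := by
    have hK' : K < V.comap π := by
      refine lt_of_le_of_ne (QuotientGroup.le_comap_mk' K V) fun h => hV1 ?_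
      rw [← Subgroup.map_comap_eq_self_of_surjective hπ V, ← h]
      exact (Subgroup.map_eq_bot_iff _).mpr (QuotientGroup.ker_mk' K).ge
    have hK'L : V.comap π ≤ L := (Subgroup.comap_mono hVL).trans (by rw [hcomap]; exact sup_le hKL le_rfl)
    have h1 : (V.comap π ⊔ S).Normal := by
      by_contra h
      exact hKmax _ ⟨inferInstance, hK'L, h⟩ hK'
    have := h1.map π hπ
    rwa [Subgroup.map_sup, Subgroup.map_comap_eq_self_of_surjective hπ] at this
  have hSn' : ¬ (S.map π).Normal := fun h => hKS (hcomap S ▸ h.comap π)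
  haveI := hVc
  refine (bound_of_prime_action (q := q) hpp V hV1 hVmin
    (fun a ha b hb => congrArg Subtype.val (mul_comm' (⟨a, ha⟩ : V) ⟨b, hb⟩)) hVexp hVp hp2' (S.map π) hS' hVS hSn').trans
    (Nat.mul_le_mul_left _ (classes_le_of_surj π hπ))

end Cfsg.Agent.SolvClassNum
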